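import Mathlib
import Cfsg.Agent.Lib.Helper21.Basic
import Cfsg.Agent.Lib.Helper21.Subnormal
import Cfsg.Agent.Lib.Helper21.ProdCard
import Cfsg.Agent.Lib.Helper1.Hall
import Cfsg.Agent.Lib.Helper1.Hall2
import Cfsg.Agent.Lib.Helper1.SZ
import Cfsg.Agent.Lib.Helper1.Coprime

/-! Coprime action and Hall subgroups of a solvable group: existence of invariant Hall
subgroups, conjugacy under the fixed points, and domination of invariant subgroups. -/

set_option autoImplicit false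

namespace Cfsg.Agent.Lib.Helper21

open scoped Pointwise

universe u

section
variable {X : Type u} [Group X]

theorem relIndex_sup_of_le_normalizer {G N : Subgroup X}
    (h : N ≤ Subgroup.normalizer (G : Set X)) : G.relIndex (N ⊔ G) = G.relIndex N := by
  have hL : N ⊔ G ≤ Subgroup.normalizer (G : Set X) := sup_le h Subgroup.le_normalizer
  haveI : (G.subgroupOf (N ⊔ G)).Normal := Subgroup.normal_subgroupOf_of_le_normalizer hL
  have h1 := Subgroup.relIndex_sup_right (N.subgroupOf (N ⊔ G)) (G.subgroupOf (N ⊔ G))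
  rw [← Subgroup.subgroupOf_sup le_sup_left le_sup_right, Subgroup.relIndex_subgroupOf le_rfl,
    Subgroup.relIndex_subgroupOf le_sup_left] at h1
  exact h1

/-- Hall subgroups of order `m` of a solvable subgroup `G`: existence. -/
theorem exists_hall_sub [Finite X] (G : Subgroup X) [Group.IsSolvable G] (m n : ℕ)
    (hG : Nat.card G = m * n) (hmn : m.Coprime n) :
    ∃ H : Subgroup X, H ≤ G ∧ Nat.card H = m := by
  obtain ⟨⟨H', hH'⟩, -, -⟩ := Helper1.hall_aux _ G le_rfl m n hG hmn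
  exact ⟨H'.map G.subtype, Subgroup.map_subtype_le H', by
    rw [Subgroup.card_map_of_injective G.subtype_injective, hH']⟩

/-- Hall subgroups of order `m` of a solvable subgroup `G` are conjugate in `G`. -/
theorem hall_sub_conj [Finite X] (G : Subgroup X) [Group.IsSolvable G] (m n : ℕ)
    (hG : Nat.card G = m * n) (hmn : m.Coprime n) (H K : Subgroup X) (hH : H ≤ G) (hK : K ≤ G)
    (cH : Nat.card H = m) (cK : Nat.card K = m) : ∃ g ∈ G, MulAut.conj g • H = K := by
  obtain ⟨-, hconj, -⟩ := Helper1.hall_aux _ G le_rfl m n hG hmn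
  obtain ⟨g, hg⟩ := hconj (H.subgroupOf G) (K.subgroupOf G)
    (by rw [Nat.card_congr (Subgroup.subgroupOfEquivOfLe hH).toEquiv, cH])
    (by rw [Nat.card_congr (Subgroup.subgroupOfEquivOfLe hK).toEquiv, cK])
  exact ⟨g, g.2, Helper1.conj_of_subgroupOf hH hK g hg⟩

theorem conj_smul_le_of_mem_normalizer {G H : Subgroup X} (hH : H ≤ G) {a : X}
    (ha : a ∈ Subgroup.normalizer (G : Set X)) : MulAut.conj a • H ≤ G := by
  intro x hx
  rw [Helper1.mem_conj_smul_iff] at hx
  have h2 := hH hx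
  have h3 := (Subgroup.mem_normalizer_iff.mp ha (a⁻¹ * x * a)).mp h2
  have h4 : a * (a⁻¹ * x * a) * a⁻¹ = x := by group
  rwa [h4] at h3

/-- Coprime action: existence of an `A`-invariant Hall subgroup of order `m`. -/
theorem coprime_hall_exists [Finite X] (A G : Subgroup X)
    (hAG : A ≤ Subgroup.normalizer (G : Set X)) (hcop : (Nat.card A).Coprime (Nat.card G))
    [Group.IsSolvable G] (m n : ℕ) (hG : Nat.card G = m * n) (hmn : m.Coprime n) :
    ∃ H : Subgroup X, H ≤ G ∧ Nat.card H = m ∧ A ≤ Subgroup.normalizer (H : Set X) := by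
  obtain ⟨H₀, hH₀G, cH₀⟩ := exists_hall_sub G m n hG hmn
  have hfr : ∀ a ∈ A, ∃ g ∈ G, MulAut.conj g • H₀ = MulAut.conj a • H₀ := by
    intro a ha
    exact hall_sub_conj G m n hG hmn H₀ _ hH₀G (conj_smul_le_of_mem_normalizer hH₀G (hAG ha))
      cH₀ (by rw [Helper1.card_conj_smul, cH₀])
  obtain ⟨N₁, hN₁def⟩ : ∃ N₁ : Subgroup X,
      N₁ = Subgroup.normalizer (H₀ : Set X) ⊓ (G ⊔ A) := ⟨_, rfl⟩
  have hN₁GA : N₁ ≤ G ⊔ A := hN₁def ▸ inf_le_right
  have hN₁H : N₁ ≤ Subgroup.normalizer (H₀ : Set X) := hN₁def ▸ inf_le_left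
  have hN₁G : N₁ ≤ Subgroup.normalizer (G : Set X) :=
    hN₁GA.trans (sup_le Subgroup.le_normalizer hAG)
  have hsup : N₁ ⊔ G = A ⊔ G := by
    apply le_antisymm
    · exact sup_le (hN₁GA.trans (le_of_eq (sup_comm _ _))) le_sup_right
    · refine sup_le ?_ le_sup_right
      intro a ha
      obtain ⟨g, hg, hga⟩ := hfr a ha
      have h1 : g⁻¹ * a ∈ N₁ := by
        rw [hN₁def]
        refine ⟨Helper1.mem_normalizer_of_conj_smul_eq ?_, ?_⟩
        · rw [Helper1.conj_mul_smul, ← hga, ← Helper1.conj_mul_smul, inv_mul_cancel, map_one,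
            one_smul]
        · exact Subgroup.mul_mem _ (Subgroup.mem_sup_left (G.inv_mem hg))
            (Subgroup.mem_sup_right ha)
      have h2 : a = g * (g⁻¹ * a) := by group
      rw [h2]
      exact Subgroup.mul_mem _ (Subgroup.mem_sup_right hg) (Subgroup.mem_sup_left h1)
  have hGA : G ⊓ A = ⊥ := Helper1.inf_eq_bot_of_coprime_card hcop
  have hidx : G.relIndex N₁ = Nat.card A := by
    rw [← relIndex_sup_of_le_normalizer hN₁G, hsup, relIndex_sup_of_le_normalizer hAG,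
      ← Subgroup.inf_relIndex_right, hGA, Subgroup.relIndex_bot_left]
  haveI : (G.subgroupOf N₁).Normal := Subgroup.normal_subgroupOf_of_le_normalizer hN₁G
  have hcardK : Nat.card (G.subgroupOf N₁) ∣ Nat.card G := Helper1.card_subgroupOf_dvd G N₁
  have hidx' : (G.subgroupOf N₁).index = Nat.card A := hidx
  obtain ⟨A₁', hA₁'⟩ := Subgroup.exists_right_complement'_of_coprime (N := G.subgroupOf N₁)
    (by rw [hidx']; exact (hcop.coprime_dvd_right hcardK).symm)
  have cA₁' : Nat.card A₁' = Nat.card A := by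
    rw [← hA₁'.symm.index_eq_card]; exact hidx
  have hA₁N : A₁'.map N₁.subtype ≤ N₁ := Subgroup.map_subtype_le A₁'
  have cA₁ : Nat.card (A₁'.map N₁.subtype) = Nat.card A := by
    rw [Subgroup.card_map_of_injective N₁.subtype_injective, cA₁']
  obtain ⟨k, hk, hkA⟩ := Helper1.sz_conj_rel A G hAG hcop (Or.inr inferInstance)
    (A₁'.map N₁.subtype) (hA₁N.trans hN₁GA) cA₁
  refine ⟨MulAut.conj k⁻¹ • H₀, ?_, ?_, ?_⟩
  · exact Subgroup.conj_smul_le_of_le hH₀G (⟨k⁻¹, G.inv_mem hk⟩ : G)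
  · rw [Helper1.card_conj_smul, cH₀]
  · intro a ha
    apply Helper1.mem_normalizer_of_conj_smul_eq
    have h1 : k * a * k⁻¹ ∈ Subgroup.normalizer (H₀ : Set X) := by
      have : k * a * k⁻¹ ∈ A₁'.map N₁.subtype := by
        rw [← hkA]; exact Helper1.conj_mem_conj_smul k a A ha
      exact hN₁H (hA₁N this)
    have h2 := Helper1.conj_smul_eq_of_mem_normalizer h1
    rw [← Helper1.conj_mul_smul]
    have h3 : a * k⁻¹ = k⁻¹ * (k * a * k⁻¹) := by group
    rw [h3, Helper1.conj_mul_smul, h2]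

/-- Coprime action: two `A`-invariant Hall subgroups of order `m` are conjugate under
`C_G(A)`. -/
theorem coprime_hall_conj [Finite X] (A G : Subgroup X)
    (hAG : A ≤ Subgroup.normalizer (G : Set X)) (hcop : (Nat.card A).Coprime (Nat.card G))
    [Group.IsSolvable G] (m n : ℕ) (hG : Nat.card G = m * n) (hmn : m.Coprime n)
    (H₁ H₂ : Subgroup X) (h₁ : H₁ ≤ G) (h₂ : H₂ ≤ G) (c₁ : Nat.card H₁ = m)
    (c₂ : Nat.card H₂ = m)
    (hA₁ : A ≤ Subgroup.normalizer (H₁ : Set X)) (hA₂ : A ≤ Subgroup.normalizer (H₂ : Set X)) :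
    ∃ c ∈ G ⊓ Subgroup.centralizer (A : Set X), MulAut.conj c • H₁ = H₂ := by
  obtain ⟨g, hg, hgH⟩ := hall_sub_conj G m n hG hmn H₁ H₂ h₁ h₂ c₁ c₂
  obtain ⟨K, hKdef⟩ : ∃ K : Subgroup X, K = G ⊓ Subgroup.normalizer (H₂ : Set X) := ⟨_, rfl⟩
  have hKG : K ≤ G := hKdef ▸ inf_le_left
  have hKN : K ≤ Subgroup.normalizer (H₂ : Set X) := hKdef ▸ inf_le_right
  have hAK : A ≤ Subgroup.normalizer (K : Set X) := by
    intro a ha
    rw [Subgroup.mem_normalizer_iff]
    intro x
    rw [hKdef, Subgroup.mem_inf, Subgroup.mem_inf]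
    have h1 := Subgroup.mem_normalizer_iff.mp (hAG ha) x
    have h2 : x ∈ Subgroup.normalizer (H₂ : Set X) ↔
        a * x * a⁻¹ ∈ Subgroup.normalizer (H₂ : Set X) := by
      constructor
      · intro hx
        exact Subgroup.mul_mem _ (Subgroup.mul_mem _ (hA₂ ha) hx) (Subgroup.inv_mem _ (hA₂ ha))
      · intro hx
        have h3 : x = a⁻¹ * (a * x * a⁻¹) * a := by group
        rw [h3]
        exact Subgroup.mul_mem _ (Subgroup.mul_mem _ (Subgroup.inv_mem _ (hA₂ ha)) hx) (hA₂ ha)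
    rw [h1, h2]
  have hcopK : (Nat.card A).Coprime (Nat.card K) :=
    hcop.coprime_dvd_right (Subgroup.card_dvd_of_le hKG)
  haveI : Group.IsSolvable K := Helper1.isSolvable_of_le hKG
  have hB : MulAut.conj g • A ≤ K ⊔ A := by
    intro x hx
    rw [Helper1.mem_conj_smul_iff] at hx
    obtain ⟨a, ha⟩ : ∃ a : X, a = g⁻¹ * x * g := ⟨_, rfl⟩
    rw [← ha] at hx
    have hx' : x = (g * a * g⁻¹ * a⁻¹) * a := by rw [ha]; group
    rw [hx']
    refine Subgroup.mul_mem _ (Subgroup.mem_sup_left ?_) (Subgroup.mem_sup_right hx)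
    rw [hKdef]
    constructor
    · have h1 : a * g⁻¹ * a⁻¹ ∈ G :=
        (Subgroup.mem_normalizer_iff.mp (hAG hx) g⁻¹).mp (G.inv_mem hg)
      have h2 : g * a * g⁻¹ * a⁻¹ = g * (a * g⁻¹ * a⁻¹) := by group
      rw [h2]; exact G.mul_mem hg h1
    · refine Subgroup.mul_mem _ ?_ (Subgroup.inv_mem _ (hA₂ hx))
      apply Helper1.mem_normalizer_of_conj_smul_eq
      rw [← hgH, ← Helper1.conj_mul_smul]
      have h3 : g * a * g⁻¹ * g = g * a := by group
      rw [h3, Helper1.conj_mul_smul, Helper1.conj_smul_eq_of_mem_normalizer (hA₁ hx)]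
  obtain ⟨k, hk, hkA⟩ := Helper1.sz_conj_rel A K hAK hcopK (Or.inr inferInstance)
    (MulAut.conj g • A) hB (Helper1.card_conj_smul g A)
  have hc : k⁻¹ * g ∈ G := G.mul_mem (G.inv_mem (hKG hk)) hg
  refine ⟨k⁻¹ * g, ⟨hc, ?_⟩, ?_⟩
  · have hcA : MulAut.conj (k⁻¹ * g) • A = A := by
      rw [Helper1.conj_mul_smul, ← hkA, ← Helper1.conj_mul_smul, inv_mul_cancel, map_one,
        one_smul]
    have hGA : G ⊓ A = ⊥ := Helper1.inf_eq_bot_of_coprime_card hcop
    apply Helper1.mem_centralizer_of_conj_smul_eq hGA hcA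
    intro a ha
    have h1 : a * (k⁻¹ * g)⁻¹ * a⁻¹ ∈ G :=
      (Subgroup.mem_normalizer_iff.mp (hAG ha) _).mp (G.inv_mem hc)
    have h2 : k⁻¹ * g * a * (k⁻¹ * g)⁻¹ * a⁻¹ = (k⁻¹ * g) * (a * (k⁻¹ * g)⁻¹ * a⁻¹) := by
      group
    rw [h2]; exact G.mul_mem hc h1
  · rw [Helper1.conj_mul_smul, hgH]
    exact Helper1.conj_smul_eq_of_mem_normalizer (Subgroup.inv_mem _ (hKN hk))

theorem le_normalizer_sup_of_le {A U M : Subgroup X}
    (hU : A ≤ Subgroup.normalizer (U : Set X)) (hM : A ≤ Subgroup.normalizer (M : Set X)) :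
    A ≤ Subgroup.normalizer ((U ⊔ M : Subgroup X) : Set X) := by
  exact (le_inf hU hM).trans (Subgroup.normalizer_inf_normalizer_le_normalizer_sup U M)

theorem le_normalizer_inf_of_le {A U M : Subgroup X}
    (hU : A ≤ Subgroup.normalizer (U : Set X)) (hM : A ≤ Subgroup.normalizer (M : Set X)) :
    A ≤ Subgroup.normalizer ((U ⊓ M : Subgroup X) : Set X) := by
  intro a ha
  rw [Subgroup.mem_normalizer_iff]
  intro x
  rw [Subgroup.mem_inf, Subgroup.mem_inf, Subgroup.mem_normalizer_iff.mp (hU ha) x,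
    Subgroup.mem_normalizer_iff.mp (hM ha) x]

/-- Core case of domination: `L` has a normal invariant Hall subgroup `M` of order `q`. -/
theorem coprime_hall_core [Finite X] (A L M U : Subgroup X)
    (hAL : A ≤ Subgroup.normalizer (L : Set X)) (hcop : (Nat.card A).Coprime (Nat.card L))
    [Group.IsSolvable L] (m q : ℕ) (hL : Nat.card L = m * q) (hmq : m.Coprime q)
    (hML : M ≤ L) (cM : Nat.card M = q) (hLM : L ≤ Subgroup.normalizer (M : Set X))
    (hAM : A ≤ Subgroup.normalizer (M : Set X)) (hUL : U ≤ L)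
    (hAU : A ≤ Subgroup.normalizer (U : Set X)) (hUq : (Nat.card U).Coprime q) :
    ∃ H : Subgroup X, H ≤ L ∧ Nat.card H = m ∧ A ≤ Subgroup.normalizer (H : Set X) ∧ U ≤ H := by
  obtain ⟨H, hHL, cH, hAH⟩ := coprime_hall_exists A L hAL hcop m q hL hmq
  obtain ⟨W, hWdef⟩ : ∃ W : Subgroup X, W = U ⊔ M := ⟨_, rfl⟩
  have hUW : U ≤ W := hWdef ▸ le_sup_left
  have hMW : M ≤ W := hWdef ▸ le_sup_right
  have hWL : W ≤ L := hWdef ▸ sup_le hUL hML
  have hAW : A ≤ Subgroup.normalizer (W : Set X) := by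
    rw [hWdef]; exact le_normalizer_sup_of_le hAU hAM
  have hUM : U ⊓ M = ⊥ :=
    disjoint_iff.mp (Subgroup.disjoint_of_coprime_natCard (cM ▸ hUq))
  have cW : Nat.card W = Nat.card U * q := by
    have h1 : Nat.card ↥(U ⊔ M) ∣ Nat.card U * Nat.card M :=
      card_sup_dvd_of_le_normalizer (hUL.trans hLM)
    have h2 := card_mul_card_le_sup_inf U M
    rw [hUM, Subgroup.card_bot, mul_one] at h2
    rw [hWdef, ← cM]
    exact le_antisymm (Nat.le_of_dvd (Nat.mul_pos Nat.card_pos Nat.card_pos) h1) h2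
  obtain ⟨V, hVdef⟩ : ∃ V : Subgroup X, V = W ⊓ H := ⟨_, rfl⟩
  have hVW : V ≤ W := hVdef ▸ inf_le_left
  have hVH : V ≤ H := hVdef ▸ inf_le_right
  have hAV : A ≤ Subgroup.normalizer (V : Set X) := by
    rw [hVdef]; exact le_normalizer_inf_of_le hAW hAH
  have cV : Nat.card V = Nat.card U := by
    have h1 : Nat.card V ∣ Nat.card H := Subgroup.card_dvd_of_le hVH
    have h2 : Nat.card V ∣ Nat.card W := Subgroup.card_dvd_of_le hVW
    rw [cH] at h1; rw [cW] at h2
    have h3 : (Nat.card V).Coprime q := Nat.Coprime.coprime_dvd_left h1 hmq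
    have h4 : Nat.card V ∣ Nat.card U := h3.dvd_of_dvd_mul_right h2
    have h5 := card_mul_card_le_sup_inf W H
    rw [← hVdef, cW, cH] at h5
    have h6 : Nat.card ↥(W ⊔ H) ≤ m * q := by
      rw [← hL]; exact Nat.le_of_dvd Nat.card_pos (Subgroup.card_dvd_of_le (sup_le hWL hHL))
    have hqm : 0 < m * q := by rw [← hL]; exact Nat.card_pos
    have h7 : Nat.card U * (m * q) ≤ Nat.card V * (m * q) := by
      calc Nat.card U * (m * q) = Nat.card U * q * m := by ring
        _ ≤ Nat.card ↥(W ⊔ H) * Nat.card V := h5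
        _ ≤ (m * q) * Nat.card V := Nat.mul_le_mul_right _ h6
        _ = Nat.card V * (m * q) := by ring
    exact le_antisymm (Nat.le_of_dvd Nat.card_pos h4) (Nat.le_of_mul_le_mul_right h7 hqm)
  haveI : Group.IsSolvable W := Helper1.isSolvable_of_le hWL
  obtain ⟨c, hc, hcV⟩ := coprime_hall_conj A W hAW
    (hcop.coprime_dvd_right (Subgroup.card_dvd_of_le hWL)) (Nat.card U) q cW hUq V U hVW hUW cV
    rfl hAV hAU
  refine ⟨MulAut.conj c • H, ?_, ?_, ?_, ?_⟩
  · exact Subgroup.conj_smul_le_of_le hHL (⟨c, hWL hc.1⟩ : L)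
  · rw [Helper1.card_conj_smul, cH]
  · intro a ha
    apply Helper1.mem_normalizer_of_conj_smul_eq
    have hca : a * c = c * a := Subgroup.mem_centralizer_iff.mp hc.2 a ha
    rw [← Helper1.conj_mul_smul, hca, Helper1.conj_mul_smul,
      Helper1.conj_smul_eq_of_mem_normalizer (hAH ha)]
  · rw [← hcV]
    intro x hx
    rw [Helper1.mem_conj_smul_iff] at hx ⊢
    exact hVH hx

end

/-- Inductive step of domination in an ambient group where `G` is normal. -/
theorem coprime_hall_dom_step (N : ℕ)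
    (ih : ∀ (X : Type u) [Group X] [Finite X] (A G : Subgroup X),
      Nat.card G ≤ N → A ≤ Subgroup.normalizer (G : Set X) →
      (Nat.card A).Coprime (Nat.card G) → Group.IsSolvable G →
      ∀ m n : ℕ, Nat.card G = m * n → m.Coprime n →
      ∀ U : Subgroup X, U ≤ G → A ≤ Subgroup.normalizer (U : Set X) → (Nat.card U).Coprime n →
      ∃ H : Subgroup X, H ≤ G ∧ Nat.card H = m ∧ A ≤ Subgroup.normalizer (H : Set X) ∧ U ≤ H)
    (Y : Type u) [Group Y] [Finite Y] (A G : Subgroup Y) [G.Normal] (hGne : G ≠ ⊥)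
    (hN : Nat.card G ≤ N + 1) (hcop : (Nat.card A).Coprime (Nat.card G)) [Group.IsSolvable G]
    (m n : ℕ) (hG : Nat.card G = m * n) (hmn : m.Coprime n)
    (U : Subgroup Y) (hUG : U ≤ G) (hAU : A ≤ Subgroup.normalizer (U : Set Y))
    (hUn : (Nat.card U).Coprime n) :
    ∃ H : Subgroup Y, H ≤ G ∧ Nat.card H = m ∧ A ≤ Subgroup.normalizer (H : Set Y) ∧ U ≤ H := by
  obtain ⟨r, hr, M, hMG, hMn, hMne, hMr⟩ :=
    Helper1.exists_normal_pgroup_le _ G le_rfl inferInstance hGne inferInstance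
  haveI := hMn
  haveI : Fact r.Prime := ⟨hr⟩
  obtain ⟨j, hj⟩ := IsPGroup.iff_card.mp hMr
  have hj0 : j ≠ 0 := by
    rintro rfl
    rw [pow_zero] at hj
    exact hMne (Subgroup.card_eq_one.mp hj)
  have hrq : r ∣ Nat.card M := by rw [hj]; exact dvd_pow_self r hj0
  have hMpos : 0 < Nat.card M := Nat.card_pos
  obtain ⟨f, hf⟩ : ∃ f : Y →* Y ⧸ M, f = QuotientGroup.mk' M := ⟨_, rfl⟩
  have hfs : Function.Surjective f := hf ▸ QuotientGroup.mk'_surjective M
  have hcomapG : (G.map f).comap f = G := by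
    rw [hf, QuotientGroup.comap_map_mk']; exact sup_eq_right.mpr hMG
  have hcard : ∀ Hb : Subgroup (Y ⧸ M), Nat.card (Hb.comap f) = Nat.card M * Nat.card Hb := by
    intro Hb; rw [hf]; exact Helper1.card_comap_mk' M Hb
  have hcG : Nat.card G = Nat.card M * Nat.card (G.map f) := by
    rw [← hcard, hcomapG]
  have hGbar : Nat.card (G.map f) ≤ N := by
    have h2 : 2 ≤ Nat.card M := by
      rw [hj]
      calc 2 ≤ r := hr.two_le
        _ = r ^ 1 := (pow_one r).symm
        _ ≤ r ^ j := Nat.pow_le_pow_right hr.pos (Nat.one_le_iff_ne_zero.mpr hj0)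
    have hpos : 0 < Nat.card (G.map f) := Nat.card_pos
    nlinarith
  haveI : (G.map f).Normal := Subgroup.Normal.map inferInstance f hfs
  have hAGbar : A.map f ≤ Subgroup.normalizer ((G.map f : Subgroup (Y ⧸ M)) : Set (Y ⧸ M)) := by
    rw [Subgroup.normalizer_eq_top]; exact le_top
  have hcopbar : (Nat.card (A.map f)).Coprime (Nat.card (G.map f)) :=
    (hcop.coprime_dvd_left (Subgroup.card_map_dvd A f)).coprime_dvd_right
      (Subgroup.card_map_dvd G f)
  have hsolvbar : Group.IsSolvable (G.map f) := Helper1.isSolvable_map f G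
  have hUbar : U.map f ≤ G.map f := Subgroup.map_mono hUG
  have hAUbar : A.map f ≤ Subgroup.normalizer ((U.map f : Subgroup (Y ⧸ M)) : Set (Y ⧸ M)) :=
    (Subgroup.map_mono hAU).trans (Subgroup.le_normalizer_map f)
  have hcU : Nat.card (U.map f) ∣ Nat.card U := Subgroup.card_map_dvd U f
  have pull : ∀ Hb : Subgroup (Y ⧸ M), Hb ≤ G.map f →
      A.map f ≤ Subgroup.normalizer (Hb : Set (Y ⧸ M)) → U.map f ≤ Hb →
      Hb.comap f ≤ G ∧ A ≤ Subgroup.normalizer ((Hb.comap f : Subgroup Y) : Set Y) ∧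
      U ≤ Hb.comap f ∧ M ≤ Hb.comap f := by
    intro Hb h1 h2 h3
    refine ⟨?_, ?_, ?_, ?_⟩
    · rw [← hcomapG]; exact Subgroup.comap_mono h1
    · intro a ha
      apply Subgroup.le_normalizer_comap f
      exact h2 (Subgroup.mem_map_of_mem f ha)
    · exact (Subgroup.le_comap_map f U).trans (Subgroup.comap_mono h3)
    · have h4 : f.ker ≤ Hb.comap f := MonoidHom.ker_le_comap f Hb
      have h5 : f.ker = M := by rw [hf]; exact QuotientGroup.ker_mk' M
      rwa [h5] at h4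
  have hrmn : r ∣ m * n := by rw [← hG, hcG]; exact Dvd.dvd.mul_right hrq _
  have hMmn : Nat.card M ∣ m * n := by rw [← hG, hcG]; exact Dvd.intro _ rfl
  rcases (Nat.Prime.dvd_mul hr).mp hrmn with hrm | hrn
  · have hrn : ¬ r ∣ n := fun h => Nat.Prime.not_coprime_iff_dvd.mpr ⟨r, hr, hrm, h⟩ hmn
    have hqn : (Nat.card M).Coprime n := by
      rw [hj]; exact Nat.Coprime.pow_left j ((Nat.Prime.coprime_iff_not_dvd hr).mpr hrn)
    have hqm : Nat.card M ∣ m := hqn.dvd_of_dvd_mul_right hMmn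
    obtain ⟨m', hm'⟩ := hqm
    have hGbar' : Nat.card (G.map f) = m' * n := by
      apply Nat.eq_of_mul_eq_mul_left hMpos
      rw [← hcG, hG, hm']; ring
    have hm'n : m'.Coprime n := Nat.Coprime.coprime_dvd_left (Dvd.intro_left _ hm'.symm) hmn
    obtain ⟨Hb, hb1, hb2, hb3, hb4⟩ := ih (Y ⧸ M) (A.map f) (G.map f) hGbar hAGbar hcopbar
      hsolvbar m' n hGbar' hm'n (U.map f) hUbar hAUbar (Nat.Coprime.coprime_dvd_left hcU hUn)
    obtain ⟨p1, p3, p4, -⟩ := pull Hb hb1 hb3 hb4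
    exact ⟨Hb.comap f, p1, by rw [hcard, hb2, hm'], p3, p4⟩
  · have hrm : ¬ r ∣ m := fun h => Nat.Prime.not_coprime_iff_dvd.mpr ⟨r, hr, h, hrn⟩ hmn
    have hqm : (Nat.card M).Coprime m := by
      rw [hj]; exact Nat.Coprime.pow_left j ((Nat.Prime.coprime_iff_not_dvd hr).mpr hrm)
    have hqn : Nat.card M ∣ n := hqm.dvd_of_dvd_mul_left hMmn
    obtain ⟨n', hn'⟩ := hqn
    have hGbar' : Nat.card (G.map f) = m * n' := by
      apply Nat.eq_of_mul_eq_mul_left hMpos
      rw [← hcG, hG, hn']; ring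
    have hn'n : n' ∣ n := Dvd.intro_left _ hn'.symm
    have hmn' : m.Coprime n' := Nat.Coprime.coprime_dvd_right hn'n hmn
    obtain ⟨Hb, hb1, hb2, hb3, hb4⟩ := ih (Y ⧸ M) (A.map f) (G.map f) hGbar hAGbar hcopbar
      hsolvbar m n' hGbar' hmn' (U.map f) hUbar hAUbar
      (Nat.Coprime.coprime_dvd_left hcU (Nat.Coprime.coprime_dvd_right hn'n hUn))
    obtain ⟨p1, p3, p4, p5⟩ := pull Hb hb1 hb3 hb4
    haveI : Group.IsSolvable (Hb.comap f) := Helper1.isSolvable_of_le p1
    have hnormM : Subgroup.normalizer (M : Set Y) = ⊤ := Subgroup.normalizer_eq_top M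
    obtain ⟨H, h1, h2, h3, h4⟩ := coprime_hall_core A (Hb.comap f) M U p3
      (hcop.coprime_dvd_right (Subgroup.card_dvd_of_le p1)) m (Nat.card M)
      (by rw [hcard, hb2]; ring) hqm.symm p5 rfl (by rw [hnormM]; exact le_top)
      (by rw [hnormM]; exact le_top) p4 hAU
      (Nat.Coprime.coprime_dvd_right (Dvd.intro _ hn'.symm) hUn)
    exact ⟨H, h1.trans p1, h2, h3, h4⟩

/-- Coprime action: every `A`-invariant subgroup of `G` of order prime to `n` lies in an
`A`-invariant Hall subgroup of order `m`. -/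
theorem coprime_hall_dom_aux : ∀ (N : ℕ) (X : Type u) [Group X] [Finite X] (A G : Subgroup X),
    Nat.card G ≤ N → A ≤ Subgroup.normalizer (G : Set X) →
    (Nat.card A).Coprime (Nat.card G) → Group.IsSolvable G →
    ∀ m n : ℕ, Nat.card G = m * n → m.Coprime n →
    ∀ U : Subgroup X, U ≤ G → A ≤ Subgroup.normalizer (U : Set X) → (Nat.card U).Coprime n →
    ∃ H : Subgroup X, H ≤ G ∧ Nat.card H = m ∧ A ≤ Subgroup.normalizer (H : Set X) ∧ U ≤ H := by
  intro N
  induction N with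
  | zero =>
    intro X _ _ A G hN
    have := Nat.card_pos (α := G)
    omega
  | succ N ih =>
    intro X _ _ A G hN hAG hcop hsolv m n hG hmn U hUG hAU hUn
    haveI := hsolv
    by_cases hGbot : G = ⊥
    · refine ⟨⊥, bot_le, ?_, ?_, ?_⟩
      · rw [hGbot, Subgroup.card_bot] at hG
        rw [Subgroup.card_bot]
        exact (Nat.eq_one_of_mul_eq_one_right hG.symm).symm
      · intro a _
        rw [Subgroup.mem_normalizer_iff]
        intro x
        simp [Subgroup.mem_bot]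
      · rw [← hGbot]; exact hUG
    obtain ⟨NG, hNGdef⟩ : ∃ NG : Subgroup X, NG = Subgroup.normalizer (G : Set X) := ⟨_, rfl⟩
    have hGNG : G ≤ NG := hNGdef ▸ Subgroup.le_normalizer
    have hANG : A ≤ NG := hNGdef ▸ hAG
    haveI : (G.subgroupOf NG).Normal := by rw [hNGdef]; exact Subgroup.normal_in_normalizer
    have cGy : Nat.card (G.subgroupOf NG) = Nat.card G :=
      Nat.card_congr (Subgroup.subgroupOfEquivOfLe hGNG).toEquiv
    have cAy : Nat.card (A.subgroupOf NG) = Nat.card A :=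
      Nat.card_congr (Subgroup.subgroupOfEquivOfLe hANG).toEquiv
    have cUy : Nat.card (U.subgroupOf NG) = Nat.card U :=
      Nat.card_congr (Subgroup.subgroupOfEquivOfLe (hUG.trans hGNG)).toEquiv
    have hGy : G.subgroupOf NG ≠ ⊥ := by
      intro h
      apply hGbot
      rw [← Subgroup.card_eq_one, ← cGy, h, Subgroup.card_bot]
    haveI : Group.IsSolvable (G.subgroupOf NG) := Helper1.isSolvable_subgroupOf G NG
    have hAUy : A.subgroupOf NG ≤
        Subgroup.normalizer ((U.subgroupOf NG : Subgroup NG) : Set NG) := by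
      intro a ha
      rw [Subgroup.mem_normalizer_iff]
      intro h
      exact Subgroup.mem_normalizer_iff.mp (hAU ha) h
    obtain ⟨Hy, hy1, hy2, hy3, hy4⟩ := coprime_hall_dom_step N ih NG (A.subgroupOf NG)
      (G.subgroupOf NG) hGy (by rw [cGy]; exact hN) (by rw [cGy, cAy]; exact hcop) m n
      (by rw [cGy]; exact hG) hmn (U.subgroupOf NG) (fun x hx => hUG hx) hAUy
      (by rw [cUy]; exact hUn)
    refine ⟨Hy.map NG.subtype, ?_, ?_, ?_, ?_⟩
    · rintro x ⟨y, hy, rfl⟩; exact hy1 hy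
    · rw [Subgroup.card_map_of_injective NG.subtype_injective, hy2]
    · apply le_normalizer_of_forall_map_conj_le
      intro a ha
      rintro x ⟨x', ⟨y, hy, rfl⟩, rfl⟩
      have h1 := hy3 (show (⟨a, hANG ha⟩ : NG) ∈ A.subgroupOf NG from ha)
      have h2 := (Subgroup.mem_normalizer_iff.mp h1 y).mp hy
      exact ⟨_, h2, by simp⟩
    · intro x hx
      exact ⟨⟨x, hGNG (hUG hx)⟩,
        hy4 (show (⟨x, hGNG (hUG hx)⟩ : NG) ∈ U.subgroupOf NG from hx), rfl⟩

/-- Coprime action: every `A`-invariant subgroup of `G` of order prime to `n` lies in an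
`A`-invariant Hall subgroup of order `m`. -/
theorem coprime_hall_dom {X : Type u} [Group X] [Finite X] (A G : Subgroup X)
    (hAG : A ≤ Subgroup.normalizer (G : Set X)) (hcop : (Nat.card A).Coprime (Nat.card G))
    [hsolv : Group.IsSolvable G] (m n : ℕ) (hG : Nat.card G = m * n) (hmn : m.Coprime n)
    (U : Subgroup X) (hUG : U ≤ G) (hAU : A ≤ Subgroup.normalizer (U : Set X))
    (hUn : (Nat.card U).Coprime n) :
    ∃ H : Subgroup X, H ≤ G ∧ Nat.card H = m ∧ A ≤ Subgroup.normalizer (H : Set X) ∧ U ≤ H :=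
  coprime_hall_dom_aux _ X A G le_rfl hAG hcop hsolv m n hG hmn U hUG hAU hUn

end Cfsg.Agent.Lib.Helper21
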