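import Mathlib
import Cfsg.Prelude.Def_Transfer
import Cfsg.Agent.Lib.Helper21.Basic
import Cfsg.Agent.Lib.Helper21.CoprimeHall
import Cfsg.Agent.Lib.Helper1.Coprime
import Cfsg.Agent.Lib.Helper1.SZ
import Cfsg.Agent.Lib.Helper11.HypGen

/-! Coprime action of an abelian group: generation by the fixed points of the subgroups with
cyclic quotient. -/

set_option autoImplicit false

namespace Cfsg.Agent.Lib.Helper21

universe u

theorem card_pow_eq_one_le_of_prime {α : Type*} [CommGroup α] [Fintype α] [DecidableEq α]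
    (h : ∀ p : ℕ, p.Prime → (Finset.univ.filter (fun a : α => a ^ p = 1)).card ≤ p) :
    ∀ n : ℕ, 0 < n → (Finset.univ.filter (fun a : α => a ^ n = 1)).card ≤ n := by
  intro n
  induction n using Nat.strong_induction_on with
  | _ n ih =>
    intro hn
    by_cases hn1 : n = 1
    · subst hn1
      have : (Finset.univ.filter (fun a : α => a ^ 1 = 1)) = {1} := by ext a; simp
      rw [this]; simp
    obtain ⟨p, hp, hpn⟩ := Nat.exists_prime_and_dvd hn1
    obtain ⟨n', rfl⟩ := hpn
    have hn'pos : 0 < n' := by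
      rcases Nat.eq_zero_or_pos n' with h0 | h0
      · rw [h0, mul_zero] at hn; omega
      · exact h0
    have hlt : n' < p * n' := by nlinarith [hp.two_le]
    have h1 := ih n' hlt hn'pos
    obtain ⟨S, hS⟩ : ∃ S : Finset α, S = Finset.univ.filter (fun a : α => a ^ (p * n') = 1) :=
      ⟨_, rfl⟩
    have hSmem : ∀ a : α, a ∈ S ↔ a ^ (p * n') = 1 := by
      intro a; rw [hS, Finset.mem_filter]; simp
    have himg : S.image (fun a => a ^ p) ⊆ Finset.univ.filter (fun a : α => a ^ n' = 1) := by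
      intro y hy
      obtain ⟨x, hx, rfl⟩ := Finset.mem_image.mp hy
      rw [Finset.mem_filter]
      exact ⟨Finset.mem_univ _, by rw [← pow_mul]; exact (hSmem x).mp hx⟩
    have hfib : ∀ y ∈ S.image (fun a => a ^ p), (S.filter (fun x => x ^ p = y)).card ≤ p := by
      intro y hy
      obtain ⟨x₀, hx₀, rfl⟩ := Finset.mem_image.mp hy
      refine le_trans ?_ (h p hp)
      apply Finset.card_le_card_of_injOn (fun x => x * x₀⁻¹)
      · intro x hx
        have hx' := (Finset.mem_filter.mp hx).2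
        simp only [Finset.coe_filter, Finset.mem_univ, true_and, Set.mem_ofPred_eq]
        rw [mul_pow, inv_pow, hx', mul_inv_cancel]
      · intro x _ y _ hxy
        exact mul_right_cancel hxy
    rw [← hS]
    calc S.card ≤ p * (S.image (fun a => a ^ p)).card := Finset.card_le_mul_card_image S p hfib
      _ ≤ p * n' := Nat.mul_le_mul_left p ((Finset.card_le_card himg).trans h1)

/-- A finite commutative group with at most `p` elements of order dividing `p`, for every
prime `p`, is cyclic. -/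
theorem isCyclic_of_card_prime_torsion_le {α : Type*} [CommGroup α] [Finite α]
    (h : ∀ p : ℕ, p.Prime → Nat.card {a : α // a ^ p = 1} ≤ p) : IsCyclic α := by
  classical
  haveI := Fintype.ofFinite α
  apply isCyclic_of_card_pow_eq_one_le
  apply card_pow_eq_one_le_of_prime
  intro p hp
  have := h p hp
  rwa [Nat.card_eq_fintype_card, Fintype.card_subtype] at this

open scoped IsMulCommutative in
/-- If `A / D` is not cyclic, it has a section `E / D` of exponent `p` and order more than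
`p`. -/
theorem exists_section_of_not_cocyclic {X : Type*} [Group X] [Finite X] (A D : Subgroup X)
    [hA : IsMulCommutative A] (hDA : D ≤ A)
    (hnc : ¬ ∃ a ∈ A, D ⊔ Subgroup.zpowers a = A) :
    ∃ p : ℕ, p.Prime ∧ ∃ E : Subgroup X, D ≤ E ∧ E ≤ A ∧ (∀ e ∈ E, e ^ p ∈ D) ∧
      p < D.relIndex E := by
  classical
  obtain ⟨D', hD'⟩ : ∃ D' : Subgroup A, D' = D.subgroupOf A := ⟨_, rfl⟩
  obtain ⟨f, hf⟩ : ∃ f : A →* A ⧸ D', f = QuotientGroup.mk' D' := ⟨_, rfl⟩
  have hfs : Function.Surjective f := hf ▸ QuotientGroup.mk'_surjective D'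
  have hfker : ∀ y : A, f y = 1 ↔ (y : X) ∈ D := by
    intro y
    rw [hf, QuotientGroup.mk'_apply, QuotientGroup.eq_one_iff, hD', Subgroup.mem_subgroupOf]
  have hncyc : ¬ IsCyclic (A ⧸ D') := by
    intro hc
    obtain ⟨g, hg⟩ := hc.exists_generator
    obtain ⟨a, rfl⟩ := hfs g
    apply hnc
    refine ⟨a, a.2, le_antisymm (sup_le hDA (by rw [Subgroup.zpowers_le]; exact a.2)) ?_⟩
    intro x hx
    obtain ⟨k, hk⟩ := Subgroup.mem_zpowers_iff.mp (hg (f ⟨x, hx⟩))
    have h1 : f ((a ^ k)⁻¹ * ⟨x, hx⟩) = 1 := by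
      rw [map_mul, map_inv, map_zpow, hk, inv_mul_cancel]
    have h3 : ((a : X) ^ k)⁻¹ * x ∈ D := by
      have := (hfker _).mp h1
      simpa using this
    have h4 : x = (a : X) ^ k * (((a : X) ^ k)⁻¹ * x) := by group
    rw [h4]
    exact Subgroup.mul_mem _
      (Subgroup.mem_sup_right (Subgroup.zpow_mem _ (Subgroup.mem_zpowers _) k))
      (Subgroup.mem_sup_left h3)
  have hex : ∃ p : ℕ, p.Prime ∧ p < Nat.card {x : A ⧸ D' // x ^ p = 1} := by
    by_contra hcon
    push_neg at hcon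
    exact hncyc (isCyclic_of_card_prime_torsion_le hcon)
  obtain ⟨p, hp, hpc⟩ := hex
  refine ⟨p, hp, ?_⟩
  obtain ⟨T, hT⟩ : ∃ T : Subgroup (A ⧸ D'), T = (powMonoidHom p : (A ⧸ D') →* (A ⧸ D')).ker :=
    ⟨_, rfl⟩
  have hTmem : ∀ x : A ⧸ D', x ∈ T ↔ x ^ p = 1 := by
    intro x; rw [hT, MonoidHom.mem_ker, powMonoidHom_apply]
  have hTcard : Nat.card T = Nat.card {x : A ⧸ D' // x ^ p = 1} :=
    Nat.card_congr (Equiv.subtypeEquivRight hTmem)
  have hEA : (T.comap f).map A.subtype ≤ A := Subgroup.map_subtype_le _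
  refine ⟨(T.comap f).map A.subtype, ?_, hEA, ?_, ?_⟩
  · intro x hx
    refine ⟨⟨x, hDA hx⟩, ?_, rfl⟩
    rw [SetLike.mem_coe, Subgroup.mem_comap, (hfker ⟨x, hDA hx⟩).mpr hx]
    exact T.one_mem
  · rintro e ⟨y, hy, rfl⟩
    rw [SetLike.mem_coe, Subgroup.mem_comap, hTmem, ← map_pow, hfker] at hy
    simpa using hy
  · have h1 : D.relIndex ((T.comap f).map A.subtype) =
        (D.subgroupOf A).relIndex (((T.comap f).map A.subtype).subgroupOf A) :=
      (Subgroup.relIndex_subgroupOf hEA).symm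
    have h2 : ((T.comap f).map A.subtype).subgroupOf A = T.comap f :=
      Subgroup.comap_map_eq_self_of_injective A.subtype_injective _
    have h3 : D.subgroupOf A = (⊥ : Subgroup (A ⧸ D')).comap f := by
      rw [MonoidHom.comap_bot, hf, QuotientGroup.ker_mk', hD']
    rw [h1, h2, h3, Subgroup.relIndex_comap, Subgroup.map_comap_eq_self_of_surjective hfs,
      Subgroup.relIndex_bot_left, hTcard]
    exact hpc

/-- Generation by centralizers of the subgroups strictly between `D` and `E`, where `E / D` is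
elementary abelian of order more than `p`, acting on the `p'`-group `K` with `D` trivial. -/
theorem hyperplane_generation_rel {X : Type u} [Group X] [Finite X] (p : ℕ) [Fact p.Prime]
    (K D E : Subgroup X) (hDE : D ≤ E) [hE : IsMulCommutative E]
    (hEK : E ≤ Subgroup.normalizer (K : Set X))
    (hDK : D ≤ Subgroup.centralizer (K : Set X)) (hEp : ∀ e ∈ E, e ^ p ∈ D)
    (hcop : (Nat.card E).Coprime (Nat.card K)) (hp : p < D.relIndex E) :
    K ≤ ⨆ B ∈ {B : Subgroup X | D < B ∧ B ≤ E}, K ⊓ Subgroup.centralizer (B : Set X) := by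
  have hpp : p.Prime := Fact.out
  obtain ⟨T, hT⟩ : ∃ T : Subgroup X,
      T = ⨆ B ∈ {B : Subgroup X | D < B ∧ B ≤ E}, K ⊓ Subgroup.centralizer (B : Set X) :=
    ⟨_, rfl⟩
  rw [← hT]
  have hTK : T ≤ K := by
    rw [hT]; exact iSup₂_le fun B _ => inf_le_left
  have hKD : K ⊓ D = ⊥ :=
    Helper1.inf_eq_bot_of_coprime_card (hcop.coprime_dvd_left (Subgroup.card_dvd_of_le hDE))
  obtain ⟨L, hL⟩ : ∃ L : Subgroup X, L = K ⊔ E := ⟨_, rfl⟩
  have hKL : K ≤ L := hL ▸ le_sup_left
  have hEL : E ≤ L := hL ▸ le_sup_right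
  have hDL : D ≤ L := hDE.trans hEL
  have hLcD : L ≤ Subgroup.centralizer (D : Set X) := by
    rw [hL]
    refine sup_le ?_ ?_
    · exact Subgroup.le_centralizer_iff.mp hDK
    · intro e he
      rw [Subgroup.mem_centralizer_iff]
      intro d hd
      exact (setLike_mul_comm he (hDE hd)).symm
  have hLnD : L ≤ Subgroup.normalizer (D : Set X) :=
    hLcD.trans (Subgroup.centralizer_le_normalizer _)
  have hLnK : L ≤ Subgroup.normalizer (K : Set X) := hL ▸ sup_le Subgroup.le_normalizer hEK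
  haveI hDn : (D.subgroupOf L).Normal := Subgroup.normal_subgroupOf_of_le_normalizer hLnD
  haveI hKn : (K.subgroupOf L).Normal := Subgroup.normal_subgroupOf_of_le_normalizer hLnK
  obtain ⟨f, hf⟩ : ∃ f : L →* L ⧸ D.subgroupOf L, f = QuotientGroup.mk' (D.subgroupOf L) :=
    ⟨_, rfl⟩
  have hfs : Function.Surjective f := hf ▸ QuotientGroup.mk'_surjective _
  have hfker : ∀ y : L, f y = 1 ↔ (y : X) ∈ D := by
    intro y
    rw [hf, QuotientGroup.mk'_apply, QuotientGroup.eq_one_iff, Subgroup.mem_subgroupOf]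
  obtain ⟨Eb, hEb⟩ : ∃ Eb : Subgroup (L ⧸ D.subgroupOf L), Eb = (E.subgroupOf L).map f :=
    ⟨_, rfl⟩
  obtain ⟨Kb, hKb⟩ : ∃ Kb : Subgroup (L ⧸ D.subgroupOf L), Kb = (K.subgroupOf L).map f :=
    ⟨_, rfl⟩
  have hEbel : Cfsg.IsElementaryAbelian p Eb := by
    constructor
    · rw [hEb]; infer_instance
    · intro x hx
      rw [hEb] at hx
      obtain ⟨y, hy, rfl⟩ := hx
      rw [← map_pow, hfker]
      have := hEp (y : X) hy
      simpa using this
  have hEbcard : Nat.card Eb = D.relIndex E := by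
    have h3 : D.subgroupOf L = (⊥ : Subgroup (L ⧸ D.subgroupOf L)).comap f := by
      rw [MonoidHom.comap_bot, hf, QuotientGroup.ker_mk']
    have h4 : (D.subgroupOf L).relIndex (E.subgroupOf L) =
        ((⊥ : Subgroup (L ⧸ D.subgroupOf L)).comap f).relIndex (E.subgroupOf L) :=
      congrArg (fun S => S.relIndex (E.subgroupOf L)) h3
    rw [← Subgroup.relIndex_subgroupOf hEL, h4, Subgroup.relIndex_comap,
      Subgroup.relIndex_bot_left, hEb]
  have hpEb : p ∣ Nat.card Eb := by
    have hpg : IsPGroup p Eb := by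
      intro x
      refine ⟨1, ?_⟩
      apply Subtype.ext
      rw [pow_one, Subgroup.coe_pow, Subgroup.coe_one]
      exact hEbel.2 _ x.2
    obtain ⟨k, hk⟩ := IsPGroup.iff_card.mp hpg
    rw [hk]
    apply dvd_pow_self
    rintro rfl
    rw [pow_zero] at hk
    rw [hEbcard] at hk
    have := hpp.two_le
    omega
  have hpK : ¬ p ∣ Nat.card K := by
    intro h
    have h1 : p ∣ Nat.card E := by
      have h2 : Nat.card Eb ∣ Nat.card (E.subgroupOf L) := by
        rw [hEb]; exact Subgroup.card_map_dvd _ f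
      exact (hpEb.trans h2).trans (Helper1.card_subgroupOf_dvd E L)
    have h3 : p ∣ Nat.gcd (Nat.card E) (Nat.card K) := Nat.dvd_gcd h1 h
    rw [Nat.Coprime.gcd_eq_one hcop] at h3
    exact hpp.one_lt.ne' (Nat.dvd_one.mp h3)
  have hKbp : ¬ p ∣ Nat.card Kb := by
    intro h
    apply hpK
    have h2 : Nat.card Kb ∣ Nat.card (K.subgroupOf L) := by
      rw [hKb]; exact Subgroup.card_map_dvd _ f
    exact (h.trans h2).trans (Helper1.card_subgroupOf_dvd K L)
  haveI : Kb.Normal := by rw [hKb]; exact Subgroup.Normal.map hKn f hfs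
  have hEbKb : Eb ≤ Subgroup.normalizer (Kb : Set (L ⧸ D.subgroupOf L)) := by
    rw [Subgroup.normalizer_eq_top]; exact le_top
  have main := Helper11.hypGen_main p _ (L ⧸ D.subgroupOf L) Eb Kb hEbel hKbp hEbKb le_rfl
  have hgen : Helper11.hypGen p Eb Kb ≤ (T.subgroupOf L).map f := by
    apply iSup_le
    rintro ⟨Bb, hBbE, hBbp⟩
    have hBbne : Bb ≠ ⊥ := by
      rintro rfl
      rw [Subgroup.relIndex_bot_left, hEbcard] at hBbp
      omega
    obtain ⟨B, hB⟩ : ∃ B : Subgroup X, B = (Bb.comap f).map L.subtype := ⟨_, rfl⟩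
    have hBmem : ∀ y : L, (y : X) ∈ B ↔ f y ∈ Bb := by
      intro y
      rw [hB]
      constructor
      · rintro ⟨z, hz, hzy⟩
        have : z = y := Subtype.ext hzy
        rw [← this]; exact hz
      · intro h; exact ⟨y, h, rfl⟩
    have hBL : B ≤ L := by rw [hB]; exact Subgroup.map_subtype_le _
    have hBE : B ≤ E := by
      intro x hx
      have h1 := (hBmem ⟨x, hBL hx⟩).mp hx
      have h2 := hBbE h1
      rw [hEb] at h2
      obtain ⟨z, hz, hzx⟩ := h2
      have h3 : f (z⁻¹ * ⟨x, hBL hx⟩) = 1 := by rw [map_mul, map_inv, hzx, inv_mul_cancel]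
      have h4 : ((z : X))⁻¹ * x ∈ D := by simpa using (hfker _).mp h3
      have h5 : x = (z : X) * ((z : X)⁻¹ * x) := by group
      rw [h5]
      exact E.mul_mem hz (hDE h4)
    have hDB : D < B := by
      refine lt_of_le_of_ne ?_ ?_
      · intro x hx
        have h1 : f ⟨x, hDL hx⟩ ∈ Bb := by
          rw [(hfker ⟨x, hDL hx⟩).mpr hx]; exact Bb.one_mem
        exact (hBmem ⟨x, hDL hx⟩).mpr h1
      · intro hDB
        apply hBbne
        rw [eq_bot_iff]
        intro b hb
        obtain ⟨y, rfl⟩ := hfs b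
        rw [Subgroup.mem_bot, hfker, hDB, hBmem]
        exact hb
    have hBT : K ⊓ Subgroup.centralizer (B : Set X) ≤ T := by
      rw [hT]
      exact le_biSup (fun B : Subgroup X => K ⊓ Subgroup.centralizer (B : Set X))
        (show B ∈ {B : Subgroup X | D < B ∧ B ≤ E} from ⟨hDB, hBE⟩)
    intro x hx
    obtain ⟨hx1, hx2⟩ := hx
    rw [hKb] at hx1
    obtain ⟨k, hk, rfl⟩ := hx1
    refine ⟨k, ?_, rfl⟩
    rw [SetLike.mem_coe, Subgroup.mem_subgroupOf]
    apply hBT
    refine Subgroup.mem_inf.mpr ⟨hk, ?_⟩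
    rw [Subgroup.mem_centralizer_iff]
    intro b hb
    have hbB := (hBmem ⟨b, hBL hb⟩).mp hb
    have hcomm : f ⟨b, hBL hb⟩ * f k = f k * f ⟨b, hBL hb⟩ :=
      Subgroup.mem_centralizer_iff.mp hx2 _ hbB
    have h1 : f (k * ⟨b, hBL hb⟩ * k⁻¹ * (⟨b, hBL hb⟩ : L)⁻¹) = 1 := by
      rw [map_mul, map_mul, map_mul, map_inv, map_inv, ← hcomm]; group
    have h2 : (k : X) * b * (k : X)⁻¹ * b⁻¹ ∈ D := by simpa using (hfker _).mp h1
    have h3 : (k : X) * b * (k : X)⁻¹ * b⁻¹ ∈ K := by
      have h4 : b * (k : X)⁻¹ * b⁻¹ ∈ K :=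
        (Subgroup.mem_normalizer_iff.mp (hEK (hBE hb)) _).mp (K.inv_mem hk)
      have h5 : (k : X) * b * (k : X)⁻¹ * b⁻¹ = (k : X) * (b * (k : X)⁻¹ * b⁻¹) := by group
      rw [h5]; exact K.mul_mem hk h4
    have h6 : (k : X) * b * (k : X)⁻¹ * b⁻¹ ∈ K ⊓ D := ⟨h3, h2⟩
    rw [hKD, Subgroup.mem_bot] at h6
    have h7 : (k : X) * b = b * (k : X) := by
      have := congrArg (fun t => t * b * (k : X)) h6
      simpa [mul_assoc] using this
    exact h7.symm
  intro k hk
  have h1 : f ⟨k, hKL hk⟩ ∈ (T.subgroupOf L).map f := by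
    apply hgen
    apply main
    rw [hKb]
    exact ⟨⟨k, hKL hk⟩, hk, rfl⟩
  obtain ⟨t, ht, htk⟩ := h1
  have h2 : f (t⁻¹ * ⟨k, hKL hk⟩) = 1 := by rw [map_mul, map_inv, htk, inv_mul_cancel]
  have h3 : (t : X)⁻¹ * k ∈ D := by simpa using (hfker _).mp h2
  have htT : (t : X) ∈ T := ht
  have h4 : (t : X)⁻¹ * k ∈ K ⊓ D := ⟨K.mul_mem (K.inv_mem (hTK htT)) hk, h3⟩
  rw [hKD, Subgroup.mem_bot, inv_mul_eq_one] at h4
  rw [← h4]; exact htT

theorem cocyclic_gen_aux {X : Type u} [Group X] [Finite X] (A G : Subgroup X)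
    [hA : IsMulCommutative A]
    (hAG : A ≤ Subgroup.normalizer (G : Set X)) (hcop : (Nat.card A).Coprime (Nat.card G)) :
    ∀ (n : ℕ) (D : Subgroup X), D ≤ A → D.relIndex A ≤ n →
      G ⊓ Subgroup.centralizer (D : Set X) ≤
        ⨆ B ∈ {B : Subgroup X | B ≤ A ∧ ∃ a ∈ A, B ⊔ Subgroup.zpowers a = A},
          G ⊓ Subgroup.centralizer (B : Set X) := by
  intro n
  induction n with
  | zero =>
    intro D hDA h
    exfalso
    have h1 : (D.subgroupOf A).index ≠ 0 := Subgroup.index_ne_zero_of_finite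
    have h2 : D.relIndex A = (D.subgroupOf A).index := rfl
    omega
  | succ n ih =>
    intro D hDA hn
    by_cases hc : ∃ a ∈ A, D ⊔ Subgroup.zpowers a = A
    · exact le_biSup (fun B : Subgroup X => G ⊓ Subgroup.centralizer (B : Set X))
        (show D ∈ {B : Subgroup X | B ≤ A ∧ ∃ a ∈ A, B ⊔ Subgroup.zpowers a = A} from
          ⟨hDA, hc⟩)
    · obtain ⟨p, hp, E, hDE, hEA, hEp, hpE⟩ := exists_section_of_not_cocyclic A D hDA hc
      haveI : Fact p.Prime := ⟨hp⟩
      obtain ⟨K, hK⟩ : ∃ K : Subgroup X, K = G ⊓ Subgroup.centralizer (D : Set X) := ⟨_, rfl⟩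
      have hcomm : ∀ x ∈ A, ∀ y ∈ A, x * y = y * x := fun x hx y hy => setLike_mul_comm hx hy
      haveI : IsMulCommutative E :=
        IsMulCommutative.of_setLike_mul_comm fun _ ha _ hb => hcomm _ (hEA ha) _ (hEA hb)
      have hEK : E ≤ Subgroup.normalizer (K : Set X) := by
        rw [hK]
        apply le_normalizer_inf_of_le (hEA.trans hAG)
        refine le_trans ?_ Subgroup.le_normalizer
        intro e he
        rw [Subgroup.mem_centralizer_iff]
        intro d hd
        exact hcomm d (hDA hd) e (hEA he)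
      have hDK : D ≤ Subgroup.centralizer (K : Set X) := by
        rw [Subgroup.le_centralizer_iff, hK]; exact inf_le_right
      have hcopEK : (Nat.card E).Coprime (Nat.card K) :=
        (hcop.coprime_dvd_left (Subgroup.card_dvd_of_le hEA)).coprime_dvd_right
          (Subgroup.card_dvd_of_le (hK ▸ inf_le_left))
      have h1 := hyperplane_generation_rel p K D E hDE hEK hDK hEp hcopEK hpE
      rw [← hK]
      refine h1.trans ?_
      apply iSup₂_le
      intro B hB
      obtain ⟨hDB, hBE⟩ := hB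
      have hBA := hBE.trans hEA
      have hlt : B.relIndex A < D.relIndex A := by
        have h2 := Subgroup.relIndex_mul_relIndex D B A hDB.le hBA
        have h3 : D.relIndex B ≠ 1 := by
          intro h
          exact absurd (Subgroup.relIndex_eq_one.mp h) (not_le_of_gt hDB)
        have h4 : (D.subgroupOf B).index ≠ 0 := Subgroup.index_ne_zero_of_finite
        have h4' : D.relIndex B = (D.subgroupOf B).index := rfl
        have h5 : (B.subgroupOf A).index ≠ 0 := Subgroup.index_ne_zero_of_finite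
        have h5' : B.relIndex A = (B.subgroupOf A).index := rfl
        have h6 : 2 ≤ D.relIndex B := by omega
        have h7 : 0 < B.relIndex A := by omega
        nlinarith
      refine le_trans ?_ (ih B hBA (by omega))
      rw [hK]
      exact inf_le_inf_right _ inf_le_left

/-- Coprime action of an abelian group `A` on `G`: `G` is generated by the fixed points of
the subgroups `B` of `A` with `A / B` cyclic. -/
theorem cocyclic_generation {X : Type u} [Group X] [Finite X] (A G : Subgroup X)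
    [hA : IsMulCommutative A]
    (hAG : A ≤ Subgroup.normalizer (G : Set X)) (hcop : (Nat.card A).Coprime (Nat.card G)) :
    (⨆ B ∈ {B : Subgroup X | B ≤ A ∧ ∃ a ∈ A, B ⊔ Subgroup.zpowers a = A},
      G ⊓ Subgroup.centralizer (B : Set X)) = G := by
  apply le_antisymm
  · exact iSup₂_le fun B _ => inf_le_left
  · have := cocyclic_gen_aux A G hAG hcop _ ⊥ bot_le le_rfl
    refine le_trans ?_ this
    intro g hg
    refine Subgroup.mem_inf.mpr ⟨hg, ?_⟩
    rw [Subgroup.mem_centralizer_iff]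
    intro h hh
    rw [Subgroup.mem_bot.mp hh, one_mul, mul_one]

end Cfsg.Agent.Lib.Helper21
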