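import Cfsg.Prelude.Def_Sz

set_option autoImplicit false

namespace Cfsg.Agent.Lib.Helper21.Sz4

open Matrix Cfsg.Lie

variable {F : Type*} [Field F]

/-- a `2 × 2` minor: rows `k, l`, columns `i, j` -/
def minor (A : Matrix (Fin 4) (Fin 4) F) (k l i j : Fin 4) : F := A k i * A l j - A l i * A k j

theorem star4_apply (A : Matrix (Fin 4) (Fin 4) F) (p r : Fin 4) :
    star4 A p r = minor A (pairOf p).1 (pairOf p).2 (pairOf r).1 (pairOf r).2 := rfl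

/-- the Gram matrix entry of the form `altForm4` -/
def dl (i j : Fin 4) : F := if j = Fin.rev i then 1 else 0

/-- column form of the symplectic condition -/
def ColC (A : Matrix (Fin 4) (Fin 4) F) : Prop :=
  ∀ i j : Fin 4, A 0 i * A 3 j + A 1 i * A 2 j + A 2 i * A 1 j + A 3 i * A 0 j = dl i j

/-- row form of the symplectic condition -/
def RowC (A : Matrix (Fin 4) (Fin 4) F) : Prop :=
  ∀ i j : Fin 4, A i 0 * A j 3 + A i 1 * A j 2 + A i 2 * A j 1 + A i 3 * A j 0 = dl i j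

theorem altForm4_single (i j : Fin 4) :
    altForm4 (Pi.single i (1 : F)) (Pi.single j (1 : F)) = dl i j := by
  fin_cases i <;> fin_cases j <;> simp [altForm4, dl, Fin.rev]

theorem colC_of_mem {g : GL (Fin 4) F} (hg : g ∈ Sp4 F) :
    ColC (g : Matrix (Fin 4) (Fin 4) F) := by
  intro i j
  have h0 : ∀ u v : Fin 4 → F,
      altForm4 ((Units.coeHom (Matrix (Fin 4) (Fin 4) F) g) *ᵥ u)
        ((Units.coeHom (Matrix (Fin 4) (Fin 4) F) g) *ᵥ v) = altForm4 u v := hg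
  have h := h0 (Pi.single i 1) (Pi.single j 1)
  rw [Units.coeHom_apply, Matrix.mulVec_single_one, Matrix.mulVec_single_one,
    altForm4_single] at h
  exact h

theorem mem_of_colC {g : GL (Fin 4) F} (h : ColC (g : Matrix (Fin 4) (Fin 4) F)) :
    g ∈ Sp4 F := by
  show ∀ u v : Fin 4 → F,
      altForm4 ((Units.coeHom (Matrix (Fin 4) (Fin 4) F) g) *ᵥ u)
        ((Units.coeHom (Matrix (Fin 4) (Fin 4) F) g) *ᵥ v) = altForm4 u v
  intro u v
  rw [Units.coeHom_apply]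
  have e : ∀ w : Fin 4 → F, ∀ k : Fin 4, ((g : Matrix (Fin 4) (Fin 4) F) *ᵥ w) k =
      (g : Matrix (Fin 4) (Fin 4) F) k 0 * w 0 + (g : Matrix (Fin 4) (Fin 4) F) k 1 * w 1 +
      (g : Matrix (Fin 4) (Fin 4) F) k 2 * w 2 + (g : Matrix (Fin 4) (Fin 4) F) k 3 * w 3 := by
    intro w k
    rw [Matrix.mulVec, dotProduct, Fin.sum_univ_four]
  unfold altForm4
  rw [e u 0, e u 1, e u 2, e u 3, e v 0, e v 1, e v 2, e v 3]
  have d : ∀ i j : Fin 4, (dl i j : F) = if j = Fin.rev i then 1 else 0 := fun i j => rfl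
  have h00 := h 0 0; have h01 := h 0 1; have h02 := h 0 2; have h03 := h 0 3
  have h10 := h 1 0; have h11 := h 1 1; have h12 := h 1 2; have h13 := h 1 3
  have h20 := h 2 0; have h21 := h 2 1; have h22 := h 2 2; have h23 := h 2 3
  have h30 := h 3 0; have h31 := h 3 1; have h32 := h 3 2; have h33 := h 3 3
  rw [d, if_neg (by decide)] at h00 h01 h02 h10 h11 h13 h20 h22 h23 h31 h32 h33
  rw [d, if_pos (by decide)] at h03 h12 h21 h30
  linear_combination (u 0 * v 0) * h00 + (u 0 * v 1) * h01 + (u 0 * v 2) * h02 +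
    (u 0 * v 3) * h03 + (u 1 * v 0) * h10 + (u 1 * v 1) * h11 + (u 1 * v 2) * h12 +
    (u 1 * v 3) * h13 + (u 2 * v 0) * h20 + (u 2 * v 1) * h21 + (u 2 * v 2) * h22 +
    (u 2 * v 3) * h23 + (u 3 * v 0) * h30 + (u 3 * v 1) * h31 + (u 3 * v 2) * h32 +
    (u 3 * v 3) * h33

/-- the matrix `J Aᵀ J`, the inverse of a symplectic matrix -/
def sinv (A : Matrix (Fin 4) (Fin 4) F) : Matrix (Fin 4) (Fin 4) F :=
  Matrix.of fun i j => A (Fin.rev j) (Fin.rev i)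

omit [Field F] in
theorem sinv_apply (A : Matrix (Fin 4) (Fin 4) F) (i j : Fin 4) :
    sinv A i j = A (Fin.rev j) (Fin.rev i) := rfl

theorem rev0 : Fin.rev (0 : Fin 4) = 3 := rfl
theorem rev1 : Fin.rev (1 : Fin 4) = 2 := rfl
theorem rev2 : Fin.rev (2 : Fin 4) = 1 := rfl
theorem rev3 : Fin.rev (3 : Fin 4) = 0 := rfl

theorem sinv_mul (A : Matrix (Fin 4) (Fin 4) F) (h : ColC A) : sinv A * A = 1 := by
  ext i j
  rw [Matrix.mul_apply, Fin.sum_univ_four, Matrix.one_apply]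
  have h1 := h (Fin.rev i) j
  simp only [dl, Fin.rev_rev] at h1
  simp only [sinv_apply, rev0, rev1, rev2, rev3]
  have e : (if i = j then (1 : F) else 0) = if j = i then 1 else 0 := by
    by_cases hij : i = j
    · rw [if_pos hij, if_pos hij.symm]
    · rw [if_neg hij, if_neg (fun h => hij h.symm)]
  rw [e]
  linear_combination h1

theorem mul_sinv (A : Matrix (Fin 4) (Fin 4) F) (h : ColC A) : A * sinv A = 1 :=
  mul_eq_one_comm.mp (sinv_mul A h)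

theorem rowC_of_colC (A : Matrix (Fin 4) (Fin 4) F) (h : ColC A) : RowC A := by
  intro i j
  have h1 := congrFun (congrFun (mul_sinv A h) i) (Fin.rev j)
  rw [Matrix.mul_apply, Fin.sum_univ_four, Matrix.one_apply] at h1
  simp only [sinv_apply, rev0, rev1, rev2, rev3, Fin.rev_rev] at h1
  have e : (if i = Fin.rev j then (1 : F) else 0) = dl i j := by
    unfold dl
    by_cases hij : i = Fin.rev j
    · rw [if_pos hij, if_pos (by rw [hij, Fin.rev_rev])]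
    · rw [if_neg hij, if_neg (fun h => hij (by rw [h, Fin.rev_rev]))]
  rw [e] at h1
  linear_combination h1

theorem minor_mul (G H : Matrix (Fin 4) (Fin 4) F) (k l i j : Fin 4) :
    minor (G * H) k l i j =
      minor G k l 0 1 * minor H 0 1 i j + minor G k l 0 2 * minor H 0 2 i j +
      minor G k l 0 3 * minor H 0 3 i j + minor G k l 1 2 * minor H 1 2 i j +
      minor G k l 1 3 * minor H 1 3 i j + minor G k l 2 3 * minor H 2 3 i j := by
  simp only [minor, Matrix.mul_apply, Fin.sum_univ_four]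
  ring

theorem dl_pair (p : Fin 4) : (dl (pairOf p).1 (pairOf p).2 : F) = 0 := by
  fin_cases p <;> exact if_neg (by decide)

theorem star4_one : star4 (1 : Matrix (Fin 4) (Fin 4) F) = 1 := by
  ext p r
  fin_cases p <;> fin_cases r
  · show minor (1 : Matrix (Fin 4) (Fin 4) F) 0 1 0 1 = (1 : Matrix (Fin 4) (Fin 4) F) 0 0
    simp [minor]
  · show minor (1 : Matrix (Fin 4) (Fin 4) F) 0 1 0 2 = (1 : Matrix (Fin 4) (Fin 4) F) 0 1
    simp [minor]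
  · show minor (1 : Matrix (Fin 4) (Fin 4) F) 0 1 1 3 = (1 : Matrix (Fin 4) (Fin 4) F) 0 2
    simp [minor]
  · show minor (1 : Matrix (Fin 4) (Fin 4) F) 0 1 2 3 = (1 : Matrix (Fin 4) (Fin 4) F) 0 3
    simp [minor]
  · show minor (1 : Matrix (Fin 4) (Fin 4) F) 0 2 0 1 = (1 : Matrix (Fin 4) (Fin 4) F) 1 0
    simp [minor]
  · show minor (1 : Matrix (Fin 4) (Fin 4) F) 0 2 0 2 = (1 : Matrix (Fin 4) (Fin 4) F) 1 1
    simp [minor]
  · show minor (1 : Matrix (Fin 4) (Fin 4) F) 0 2 1 3 = (1 : Matrix (Fin 4) (Fin 4) F) 1 2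
    simp [minor]
  · show minor (1 : Matrix (Fin 4) (Fin 4) F) 0 2 2 3 = (1 : Matrix (Fin 4) (Fin 4) F) 1 3
    simp [minor]
  · show minor (1 : Matrix (Fin 4) (Fin 4) F) 1 3 0 1 = (1 : Matrix (Fin 4) (Fin 4) F) 2 0
    simp [minor]
  · show minor (1 : Matrix (Fin 4) (Fin 4) F) 1 3 0 2 = (1 : Matrix (Fin 4) (Fin 4) F) 2 1
    simp [minor]
  · show minor (1 : Matrix (Fin 4) (Fin 4) F) 1 3 1 3 = (1 : Matrix (Fin 4) (Fin 4) F) 2 2
    simp [minor]
  · show minor (1 : Matrix (Fin 4) (Fin 4) F) 1 3 2 3 = (1 : Matrix (Fin 4) (Fin 4) F) 2 3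
    simp [minor]
  · show minor (1 : Matrix (Fin 4) (Fin 4) F) 2 3 0 1 = (1 : Matrix (Fin 4) (Fin 4) F) 3 0
    simp [minor]
  · show minor (1 : Matrix (Fin 4) (Fin 4) F) 2 3 0 2 = (1 : Matrix (Fin 4) (Fin 4) F) 3 1
    simp [minor]
  · show minor (1 : Matrix (Fin 4) (Fin 4) F) 2 3 1 3 = (1 : Matrix (Fin 4) (Fin 4) F) 3 2
    simp [minor]
  · show minor (1 : Matrix (Fin 4) (Fin 4) F) 2 3 2 3 = (1 : Matrix (Fin 4) (Fin 4) F) 3 3
    simp [minor]

section char2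

variable [CharP F 2]

theorem minor_col (A : Matrix (Fin 4) (Fin 4) F) (h : ColC A) (i j : Fin 4) :
    minor A 0 3 i j + minor A 1 2 i j = dl i j := by
  have h2 : (2 : F) = 0 := CharTwo.two_eq_zero
  unfold minor
  linear_combination h i j - (A 3 i * A 0 j + A 2 i * A 1 j) * h2

theorem minor_row (A : Matrix (Fin 4) (Fin 4) F) (h : RowC A) (k l : Fin 4) :
    minor A k l 0 3 + minor A k l 1 2 = dl k l := by
  have h2 : (2 : F) = 0 := CharTwo.two_eq_zero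
  unfold minor
  linear_combination h k l - (A l 0 * A k 3 + A l 1 * A k 2) * h2

theorem star4_mul (G H : Matrix (Fin 4) (Fin 4) F) (hG : RowC G) (hH : ColC H) :
    star4 (G * H) = star4 G * star4 H := by
  have h2 : (2 : F) = 0 := CharTwo.two_eq_zero
  ext p r
  rw [Matrix.mul_apply, Fin.sum_univ_four]
  simp only [star4_apply]
  rw [minor_mul]
  have hr := minor_row G hG (pairOf p).1 (pairOf p).2
  rw [dl_pair] at hr
  have hc := minor_col H hH (pairOf r).1 (pairOf r).2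
  rw [dl_pair] at hc
  have e0 : pairOf 0 = (0, 1) := rfl
  have e1 : pairOf 1 = (0, 2) := rfl
  have e2 : pairOf 2 = (1, 3) := rfl
  have e3 : pairOf 3 = (2, 3) := rfl
  simp only [e0, e1, e2, e3]
  linear_combination (minor H 0 3 (pairOf r).1 (pairOf r).2) * hr +
    (minor G (pairOf p).1 (pairOf p).2 1 2) * hc -
    (minor G (pairOf p).1 (pairOf p).2 1 2) * (minor H 0 3 (pairOf r).1 (pairOf r).2) * h2

end char2

/-- the Suzuki condition on an element of `GL₄(F)` -/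
def Cond (e : ℕ) (g : GL (Fin 4) F) : Prop :=
  g ∈ Sp4 F ∧ star4 (g : Matrix (Fin 4) (Fin 4) F) =
    (g : Matrix (Fin 4) (Fin 4) F).map (fun x => x ^ e)

/-- the `e`-th power map as a ring homomorphism -/
def powHom (e : ℕ) (he : e ≠ 0) (hadd : ∀ x y : F, (x + y) ^ e = x ^ e + y ^ e) : F →+* F where
  toFun x := x ^ e
  map_one' := one_pow e
  map_mul' x y := mul_pow x y e
  map_zero' := zero_pow he
  map_add' := hadd

theorem map_pow_mul (e : ℕ) (he : e ≠ 0) (hadd : ∀ x y : F, (x + y) ^ e = x ^ e + y ^ e)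
    (A B : Matrix (Fin 4) (Fin 4) F) :
    (A * B).map (fun x => x ^ e) = A.map (fun x => x ^ e) * B.map (fun x => x ^ e) :=
  Matrix.map_mul (f := powHom e he hadd)

theorem map_pow_one (e : ℕ) (he : e ≠ 0) :
    (1 : Matrix (Fin 4) (Fin 4) F).map (fun x => x ^ e) = 1 :=
  Matrix.map_one _ (zero_pow he) (one_pow e)

section char2b

variable [CharP F 2]

omit [CharP F 2] in
theorem cond_one (e : ℕ) (he : e ≠ 0) : Cond e (1 : GL (Fin 4) F) := by
  refine ⟨Subgroup.one_mem _, ?_⟩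
  rw [Units.val_one, star4_one, map_pow_one e he]

theorem cond_mul (e : ℕ) (he : e ≠ 0) (hadd : ∀ x y : F, (x + y) ^ e = x ^ e + y ^ e)
    {g h : GL (Fin 4) F} (hg : Cond e g) (hh : Cond e h) : Cond e (g * h) := by
  refine ⟨Subgroup.mul_mem _ hg.1 hh.1, ?_⟩
  rw [Units.val_mul, star4_mul _ _ (rowC_of_colC _ (colC_of_mem hg.1)) (colC_of_mem hh.1),
    hg.2, hh.2, map_pow_mul e he hadd]

theorem cond_inv (e : ℕ) (he : e ≠ 0) (hadd : ∀ x y : F, (x + y) ^ e = x ^ e + y ^ e)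
    {g : GL (Fin 4) F} (hg : Cond e g) : Cond e g⁻¹ := by
  have hgi : g⁻¹ ∈ Sp4 F := Subgroup.inv_mem _ hg.1
  refine ⟨hgi, ?_⟩
  have h1 : star4 ((g⁻¹ : GL (Fin 4) F) : Matrix (Fin 4) (Fin 4) F) *
      star4 (g : Matrix (Fin 4) (Fin 4) F) = 1 := by
    rw [← star4_mul _ _ (rowC_of_colC _ (colC_of_mem hgi)) (colC_of_mem hg.1), ← Units.val_mul,
      inv_mul_cancel, Units.val_one, star4_one]
  have h2 : (g : Matrix (Fin 4) (Fin 4) F).map (fun x => x ^ e) *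
      ((g⁻¹ : GL (Fin 4) F) : Matrix (Fin 4) (Fin 4) F).map (fun x => x ^ e) = 1 := by
    rw [← map_pow_mul e he hadd, ← Units.val_mul, mul_inv_cancel, Units.val_one,
      map_pow_one e he]
  rw [hg.2] at h1
  exact left_inv_eq_right_inv h1 h2

/-- the subgroup of elements satisfying the Suzuki condition -/
def XS (e : ℕ) (he : e ≠ 0) (hadd : ∀ x y : F, (x + y) ^ e = x ^ e + y ^ e) :
    Subgroup (GL (Fin 4) F) where
  carrier := {g | Cond e g}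
  mul_mem' := fun hg hh => cond_mul e he hadd hg hh
  one_mem' := cond_one e he
  inv_mem' := fun hg => cond_inv e he hadd hg

/-- every element of the Suzuki group satisfies the defining condition -/
theorem cond_of_mem (e : ℕ) (he : e ≠ 0) (hadd : ∀ x y : F, (x + y) ^ e = x ^ e + y ^ e)
    {g : GL (Fin 4) F} (hg : g ∈ Sz F e) : Cond e g := by
  have hle : Sz F e ≤ XS e he hadd := (Subgroup.closure_le _).mpr (fun x hx => hx)
  exact hle hg

theorem mem_Sz_iff (e : ℕ) (he : e ≠ 0) (hadd : ∀ x y : F, (x + y) ^ e = x ^ e + y ^ e)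
    {g : GL (Fin 4) F} : g ∈ Sz F e ↔ Cond e g :=
  ⟨cond_of_mem e he hadd, fun h => Subgroup.subset_closure h⟩

/-- the Pfaffian-type quadratic invariant -/
def pf (A : Matrix (Fin 4) (Fin 4) F) : F :=
  (A 0 0 + A 3 3) * (A 1 1 + A 2 2) + (A 0 1 + A 2 3) * (A 1 0 + A 3 2) +
    (A 0 2 + A 1 3) * (A 2 0 + A 3 1)

/-- the quadratic identity satisfied by `A + J Aᵀ J` in characteristic two -/
theorem Q_identity (A : Matrix (Fin 4) (Fin 4) F) :
    (A + sinv A) * (A + sinv A) + (A 0 0 + A 1 1 + A 2 2 + A 3 3) • (A + sinv A) +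
      pf A • (1 : Matrix (Fin 4) (Fin 4) F) = 0 := by
  have h2 : (2 : F) = 0 := CharTwo.two_eq_zero
  ext i j
  fin_cases i <;> fin_cases j
  · show ((A + sinv A) * (A + sinv A) + (A 0 0 + A 1 1 + A 2 2 + A 3 3) • (A + sinv A) +
        pf A • (1 : Matrix (Fin 4) (Fin 4) F)) 0 0 = (0 : Matrix (Fin 4) (Fin 4) F) 0 0
    simp only [Matrix.zero_apply, Matrix.add_apply, Matrix.smul_apply, Matrix.mul_apply,
      Fin.sum_univ_four, sinv_apply, rev0, rev1, rev2, rev3, smul_eq_mul, pf,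
      Matrix.one_apply_eq]
    linear_combination (A 0 0 * A 0 0 + A 0 0 * A 1 1 + A 0 0 * A 2 2 + 2 * A 0 0 * A 3 3 + A 0 1 * A 1 0 + A 0 1 * A 3 2 + A 0 2 * A 2 0 + A 0 2 * A 3 1 + 2 * A 0 3 * A 3 0 + A 1 0 * A 2 3 + A 1 1 * A 3 3 + A 1 3 * A 2 0 + A 1 3 * A 3 1 + A 2 2 * A 3 3 + A 2 3 * A 3 2 + A 3 3 * A 3 3) * h2
  · show ((A + sinv A) * (A + sinv A) + (A 0 0 + A 1 1 + A 2 2 + A 3 3) • (A + sinv A) +
        pf A • (1 : Matrix (Fin 4) (Fin 4) F)) 0 1 = (0 : Matrix (Fin 4) (Fin 4) F) 0 1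
    simp only [Matrix.zero_apply, Matrix.add_apply, Matrix.smul_apply, Matrix.mul_apply,
      Fin.sum_univ_four, sinv_apply, rev0, rev1, rev2, rev3, smul_eq_mul, pf,
      Matrix.one_apply_ne (show (0 : Fin 4) ≠ 1 by decide)]
    linear_combination (A 0 0 * A 0 1 + A 0 0 * A 2 3 + A 0 1 * A 1 1 + A 0 1 * A 2 2 + A 0 1 * A 3 3 + A 0 2 * A 2 1 + A 0 3 * A 2 0 + A 0 3 * A 3 1 + A 1 1 * A 2 3 + A 1 3 * A 2 1 + A 2 2 * A 2 3 + A 2 3 * A 3 3) * h2
  · show ((A + sinv A) * (A + sinv A) + (A 0 0 + A 1 1 + A 2 2 + A 3 3) • (A + sinv A) +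
        pf A • (1 : Matrix (Fin 4) (Fin 4) F)) 0 2 = (0 : Matrix (Fin 4) (Fin 4) F) 0 2
    simp only [Matrix.zero_apply, Matrix.add_apply, Matrix.smul_apply, Matrix.mul_apply,
      Fin.sum_univ_four, sinv_apply, rev0, rev1, rev2, rev3, smul_eq_mul, pf,
      Matrix.one_apply_ne (show (0 : Fin 4) ≠ 2 by decide)]
    linear_combination (A 0 0 * A 0 2 + A 0 0 * A 1 3 + A 0 1 * A 1 2 + A 0 2 * A 1 1 + A 0 2 * A 2 2 + A 0 2 * A 3 3 + A 0 3 * A 1 0 + A 0 3 * A 3 2 + A 1 1 * A 1 3 + A 1 2 * A 2 3 + A 1 3 * A 2 2 + A 1 3 * A 3 3) * h2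
  · show ((A + sinv A) * (A + sinv A) + (A 0 0 + A 1 1 + A 2 2 + A 3 3) • (A + sinv A) +
        pf A • (1 : Matrix (Fin 4) (Fin 4) F)) 0 3 = (0 : Matrix (Fin 4) (Fin 4) F) 0 3
    simp only [Matrix.zero_apply, Matrix.add_apply, Matrix.smul_apply, Matrix.mul_apply,
      Fin.sum_univ_four, sinv_apply, rev0, rev1, rev2, rev3, smul_eq_mul, pf,
      Matrix.one_apply_ne (show (0 : Fin 4) ≠ 3 by decide)]
    linear_combination (3 * A 0 0 * A 0 3 + A 0 1 * A 0 2 + A 0 1 * A 1 3 + A 0 2 * A 2 3 + A 0 3 * A 1 1 + A 0 3 * A 2 2 + 3 * A 0 3 * A 3 3 + A 1 3 * A 2 3) * h2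
  · show ((A + sinv A) * (A + sinv A) + (A 0 0 + A 1 1 + A 2 2 + A 3 3) • (A + sinv A) +
        pf A • (1 : Matrix (Fin 4) (Fin 4) F)) 1 0 = (0 : Matrix (Fin 4) (Fin 4) F) 1 0
    simp only [Matrix.zero_apply, Matrix.add_apply, Matrix.smul_apply, Matrix.mul_apply,
      Fin.sum_univ_four, sinv_apply, rev0, rev1, rev2, rev3, smul_eq_mul, pf,
      Matrix.one_apply_ne (show (1 : Fin 4) ≠ 0 by decide)]
    linear_combination (A 0 0 * A 1 0 + A 0 0 * A 3 2 + A 0 2 * A 3 0 + A 1 0 * A 1 1 + A 1 0 * A 2 2 + A 1 0 * A 3 3 + A 1 1 * A 3 2 + A 1 2 * A 2 0 + A 1 2 * A 3 1 + A 1 3 * A 3 0 + A 2 2 * A 3 2 + A 3 2 * A 3 3) * h2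
  · show ((A + sinv A) * (A + sinv A) + (A 0 0 + A 1 1 + A 2 2 + A 3 3) • (A + sinv A) +
        pf A • (1 : Matrix (Fin 4) (Fin 4) F)) 1 1 = (0 : Matrix (Fin 4) (Fin 4) F) 1 1
    simp only [Matrix.zero_apply, Matrix.add_apply, Matrix.smul_apply, Matrix.mul_apply,
      Fin.sum_univ_four, sinv_apply, rev0, rev1, rev2, rev3, smul_eq_mul, pf,
      Matrix.one_apply_eq]
    linear_combination (A 0 0 * A 1 1 + A 0 0 * A 2 2 + A 0 1 * A 1 0 + A 0 1 * A 3 2 + A 0 2 * A 2 0 + A 0 2 * A 3 1 + A 1 0 * A 2 3 + A 1 1 * A 1 1 + 2 * A 1 1 * A 2 2 + A 1 1 * A 3 3 + 2 * A 1 2 * A 2 1 + A 1 3 * A 2 0 + A 1 3 * A 3 1 + A 2 2 * A 2 2 + A 2 2 * A 3 3 + A 2 3 * A 3 2) * h2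
  · show ((A + sinv A) * (A + sinv A) + (A 0 0 + A 1 1 + A 2 2 + A 3 3) • (A + sinv A) +
        pf A • (1 : Matrix (Fin 4) (Fin 4) F)) 1 2 = (0 : Matrix (Fin 4) (Fin 4) F) 1 2
    simp only [Matrix.zero_apply, Matrix.add_apply, Matrix.smul_apply, Matrix.mul_apply,
      Fin.sum_univ_four, sinv_apply, rev0, rev1, rev2, rev3, smul_eq_mul, pf,
      Matrix.one_apply_ne (show (1 : Fin 4) ≠ 2 by decide)]
    linear_combination (A 0 0 * A 1 2 + A 0 2 * A 1 0 + A 0 2 * A 3 2 + A 1 0 * A 1 3 + 3 * A 1 1 * A 1 2 + 3 * A 1 2 * A 2 2 + A 1 2 * A 3 3 + A 1 3 * A 3 2) * h2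
  · show ((A + sinv A) * (A + sinv A) + (A 0 0 + A 1 1 + A 2 2 + A 3 3) • (A + sinv A) +
        pf A • (1 : Matrix (Fin 4) (Fin 4) F)) 1 3 = (0 : Matrix (Fin 4) (Fin 4) F) 1 3
    simp only [Matrix.zero_apply, Matrix.add_apply, Matrix.smul_apply, Matrix.mul_apply,
      Fin.sum_univ_four, sinv_apply, rev0, rev1, rev2, rev3, smul_eq_mul, pf,
      Matrix.one_apply_ne (show (1 : Fin 4) ≠ 3 by decide)]
    linear_combination (A 0 0 * A 0 2 + A 0 0 * A 1 3 + A 0 1 * A 1 2 + A 0 2 * A 1 1 + A 0 2 * A 2 2 + A 0 2 * A 3 3 + A 0 3 * A 1 0 + A 0 3 * A 3 2 + A 1 1 * A 1 3 + A 1 2 * A 2 3 + A 1 3 * A 2 2 + A 1 3 * A 3 3) * h2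
  · show ((A + sinv A) * (A + sinv A) + (A 0 0 + A 1 1 + A 2 2 + A 3 3) • (A + sinv A) +
        pf A • (1 : Matrix (Fin 4) (Fin 4) F)) 2 0 = (0 : Matrix (Fin 4) (Fin 4) F) 2 0
    simp only [Matrix.zero_apply, Matrix.add_apply, Matrix.smul_apply, Matrix.mul_apply,
      Fin.sum_univ_four, sinv_apply, rev0, rev1, rev2, rev3, smul_eq_mul, pf,
      Matrix.one_apply_ne (show (2 : Fin 4) ≠ 0 by decide)]
    linear_combination (A 0 0 * A 2 0 + A 0 0 * A 3 1 + A 0 1 * A 3 0 + A 1 0 * A 2 1 + A 1 1 * A 2 0 + A 1 1 * A 3 1 + A 2 0 * A 2 2 + A 2 0 * A 3 3 + A 2 1 * A 3 2 + A 2 2 * A 3 1 + A 2 3 * A 3 0 + A 3 1 * A 3 3) * h2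
  · show ((A + sinv A) * (A + sinv A) + (A 0 0 + A 1 1 + A 2 2 + A 3 3) • (A + sinv A) +
        pf A • (1 : Matrix (Fin 4) (Fin 4) F)) 2 1 = (0 : Matrix (Fin 4) (Fin 4) F) 2 1
    simp only [Matrix.zero_apply, Matrix.add_apply, Matrix.smul_apply, Matrix.mul_apply,
      Fin.sum_univ_four, sinv_apply, rev0, rev1, rev2, rev3, smul_eq_mul, pf,
      Matrix.one_apply_ne (show (2 : Fin 4) ≠ 1 by decide)]
    linear_combination (A 0 0 * A 2 1 + A 0 1 * A 2 0 + A 0 1 * A 3 1 + 3 * A 1 1 * A 2 1 + A 2 0 * A 2 3 + 3 * A 2 1 * A 2 2 + A 2 1 * A 3 3 + A 2 3 * A 3 1) * h2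
  · show ((A + sinv A) * (A + sinv A) + (A 0 0 + A 1 1 + A 2 2 + A 3 3) • (A + sinv A) +
        pf A • (1 : Matrix (Fin 4) (Fin 4) F)) 2 2 = (0 : Matrix (Fin 4) (Fin 4) F) 2 2
    simp only [Matrix.zero_apply, Matrix.add_apply, Matrix.smul_apply, Matrix.mul_apply,
      Fin.sum_univ_four, sinv_apply, rev0, rev1, rev2, rev3, smul_eq_mul, pf,
      Matrix.one_apply_eq]
    linear_combination (A 0 0 * A 1 1 + A 0 0 * A 2 2 + A 0 1 * A 1 0 + A 0 1 * A 3 2 + A 0 2 * A 2 0 + A 0 2 * A 3 1 + A 1 0 * A 2 3 + A 1 1 * A 1 1 + 2 * A 1 1 * A 2 2 + A 1 1 * A 3 3 + 2 * A 1 2 * A 2 1 + A 1 3 * A 2 0 + A 1 3 * A 3 1 + A 2 2 * A 2 2 + A 2 2 * A 3 3 + A 2 3 * A 3 2) * h2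
  · show ((A + sinv A) * (A + sinv A) + (A 0 0 + A 1 1 + A 2 2 + A 3 3) • (A + sinv A) +
        pf A • (1 : Matrix (Fin 4) (Fin 4) F)) 2 3 = (0 : Matrix (Fin 4) (Fin 4) F) 2 3
    simp only [Matrix.zero_apply, Matrix.add_apply, Matrix.smul_apply, Matrix.mul_apply,
      Fin.sum_univ_four, sinv_apply, rev0, rev1, rev2, rev3, smul_eq_mul, pf,
      Matrix.one_apply_ne (show (2 : Fin 4) ≠ 3 by decide)]
    linear_combination (A 0 0 * A 0 1 + A 0 0 * A 2 3 + A 0 1 * A 1 1 + A 0 1 * A 2 2 + A 0 1 * A 3 3 + A 0 2 * A 2 1 + A 0 3 * A 2 0 + A 0 3 * A 3 1 + A 1 1 * A 2 3 + A 1 3 * A 2 1 + A 2 2 * A 2 3 + A 2 3 * A 3 3) * h2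
  · show ((A + sinv A) * (A + sinv A) + (A 0 0 + A 1 1 + A 2 2 + A 3 3) • (A + sinv A) +
        pf A • (1 : Matrix (Fin 4) (Fin 4) F)) 3 0 = (0 : Matrix (Fin 4) (Fin 4) F) 3 0
    simp only [Matrix.zero_apply, Matrix.add_apply, Matrix.smul_apply, Matrix.mul_apply,
      Fin.sum_univ_four, sinv_apply, rev0, rev1, rev2, rev3, smul_eq_mul, pf,
      Matrix.one_apply_ne (show (3 : Fin 4) ≠ 0 by decide)]
    linear_combination (3 * A 0 0 * A 3 0 + A 1 0 * A 2 0 + A 1 0 * A 3 1 + A 1 1 * A 3 0 + A 2 0 * A 3 2 + A 2 2 * A 3 0 + 3 * A 3 0 * A 3 3 + A 3 1 * A 3 2) * h2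
  · show ((A + sinv A) * (A + sinv A) + (A 0 0 + A 1 1 + A 2 2 + A 3 3) • (A + sinv A) +
        pf A • (1 : Matrix (Fin 4) (Fin 4) F)) 3 1 = (0 : Matrix (Fin 4) (Fin 4) F) 3 1
    simp only [Matrix.zero_apply, Matrix.add_apply, Matrix.smul_apply, Matrix.mul_apply,
      Fin.sum_univ_four, sinv_apply, rev0, rev1, rev2, rev3, smul_eq_mul, pf,
      Matrix.one_apply_ne (show (3 : Fin 4) ≠ 1 by decide)]
    linear_combination (A 0 0 * A 2 0 + A 0 0 * A 3 1 + A 0 1 * A 3 0 + A 1 0 * A 2 1 + A 1 1 * A 2 0 + A 1 1 * A 3 1 + A 2 0 * A 2 2 + A 2 0 * A 3 3 + A 2 1 * A 3 2 + A 2 2 * A 3 1 + A 2 3 * A 3 0 + A 3 1 * A 3 3) * h2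
  · show ((A + sinv A) * (A + sinv A) + (A 0 0 + A 1 1 + A 2 2 + A 3 3) • (A + sinv A) +
        pf A • (1 : Matrix (Fin 4) (Fin 4) F)) 3 2 = (0 : Matrix (Fin 4) (Fin 4) F) 3 2
    simp only [Matrix.zero_apply, Matrix.add_apply, Matrix.smul_apply, Matrix.mul_apply,
      Fin.sum_univ_four, sinv_apply, rev0, rev1, rev2, rev3, smul_eq_mul, pf,
      Matrix.one_apply_ne (show (3 : Fin 4) ≠ 2 by decide)]
    linear_combination (A 0 0 * A 1 0 + A 0 0 * A 3 2 + A 0 2 * A 3 0 + A 1 0 * A 1 1 + A 1 0 * A 2 2 + A 1 0 * A 3 3 + A 1 1 * A 3 2 + A 1 2 * A 2 0 + A 1 2 * A 3 1 + A 1 3 * A 3 0 + A 2 2 * A 3 2 + A 3 2 * A 3 3) * h2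
  · show ((A + sinv A) * (A + sinv A) + (A 0 0 + A 1 1 + A 2 2 + A 3 3) • (A + sinv A) +
        pf A • (1 : Matrix (Fin 4) (Fin 4) F)) 3 3 = (0 : Matrix (Fin 4) (Fin 4) F) 3 3
    simp only [Matrix.zero_apply, Matrix.add_apply, Matrix.smul_apply, Matrix.mul_apply,
      Fin.sum_univ_four, sinv_apply, rev0, rev1, rev2, rev3, smul_eq_mul, pf,
      Matrix.one_apply_eq]
    linear_combination (A 0 0 * A 0 0 + A 0 0 * A 1 1 + A 0 0 * A 2 2 + 2 * A 0 0 * A 3 3 + A 0 1 * A 1 0 + A 0 1 * A 3 2 + A 0 2 * A 2 0 + A 0 2 * A 3 1 + 2 * A 0 3 * A 3 0 + A 1 0 * A 2 3 + A 1 1 * A 3 3 + A 1 3 * A 2 0 + A 1 3 * A 3 1 + A 2 2 * A 3 3 + A 2 3 * A 3 2 + A 3 3 * A 3 3) * h2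

theorem pf_eq (A : Matrix (Fin 4) (Fin 4) F) (hc : ColC A) (hr : RowC A) :
    pf A = minor A 0 1 0 1 + minor A 0 2 0 2 + minor A 1 3 1 3 + minor A 2 3 2 3 := by
  have h2 : (2 : F) = 0 := CharTwo.two_eq_zero
  have hc12 := hc 1 2
  have hr12 := hr 1 2
  have d12 : (dl 1 2 : F) = 1 := if_pos (by decide)
  rw [d12] at hc12 hr12
  unfold pf minor
  linear_combination hc12 + hr12 + (1 + A 0 1 * A 1 0 + A 0 2 * A 2 0 - A 1 1 * A 2 2 -
    A 1 2 * A 2 1 + A 1 3 * A 3 1 + A 2 3 * A 3 2) * h2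

/-- an element of the Suzuki group fixing a nonzero vector has order dividing `4` -/
theorem pow_four_of_fix (e : ℕ) (he : e ≠ 0) (hadd : ∀ x y : F, (x + y) ^ e = x ^ e + y ^ e)
    {g : GL (Fin 4) F} (hg : g ∈ Sz F e) (v : Fin 4 → F) (hv : v ≠ 0)
    (hfix : (g : Matrix (Fin 4) (Fin 4) F) *ᵥ v = v) : g ^ 4 = 1 := by
  have h2 : (2 : F) = 0 := CharTwo.two_eq_zero
  obtain ⟨hsp, hst⟩ := cond_of_mem e he hadd hg
  set A : Matrix (Fin 4) (Fin 4) F := (g : Matrix (Fin 4) (Fin 4) F) with hA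
  have hc : ColC A := colC_of_mem hsp
  have hr : RowC A := rowC_of_colC A hc
  have hSA : sinv A * A = 1 := sinv_mul A hc
  have hAS : A * sinv A = 1 := mul_sinv A hc
  have hSv : sinv A *ᵥ v = v := by
    conv_lhs => rw [← hfix]
    rw [Matrix.mulVec_mulVec, hSA, Matrix.one_mulVec]
  have hTv : (A + sinv A) *ᵥ v = 0 := by
    rw [Matrix.add_mulVec, hfix, hSv]
    funext i
    exact CharTwo.add_self_eq_zero _
  have hQ := Q_identity A
  have hQv : pf A • v = 0 := by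
    have h : ((A + sinv A) * (A + sinv A) + (A 0 0 + A 1 1 + A 2 2 + A 3 3) • (A + sinv A) +
        pf A • (1 : Matrix (Fin 4) (Fin 4) F)) *ᵥ v = (0 : Matrix (Fin 4) (Fin 4) F) *ᵥ v := by
      rw [hQ]
    rw [Matrix.add_mulVec, Matrix.add_mulVec, ← Matrix.mulVec_mulVec, Matrix.smul_mulVec,
      Matrix.smul_mulVec, hTv, Matrix.mulVec_zero, smul_zero, Matrix.one_mulVec,
      Matrix.zero_mulVec, zero_add, zero_add] at h
    exact h
  have hpf0 : pf A = 0 := by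
    rcases smul_eq_zero.mp hQv with h | h
    · exact h
    · exact absurd h hv
  have htr : (A 0 0 + A 1 1 + A 2 2 + A 3 3) ^ e = pf A := by
    rw [pf_eq A hc hr]
    have s0 : minor A 0 1 0 1 = (A 0 0) ^ e := congrFun (congrFun hst 0) 0
    have s1 : minor A 0 2 0 2 = (A 1 1) ^ e := congrFun (congrFun hst 1) 1
    have s2 : minor A 1 3 1 3 = (A 2 2) ^ e := congrFun (congrFun hst 2) 2
    have s3 : minor A 2 3 2 3 = (A 3 3) ^ e := congrFun (congrFun hst 3) 3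
    rw [s0, s1, s2, s3, hadd, hadd, hadd]
  have hc1 : A 0 0 + A 1 1 + A 2 2 + A 3 3 = 0 := by
    rw [hpf0] at htr
    exact (pow_eq_zero_iff he).mp htr
  rw [hc1, hpf0, zero_smul, zero_smul, add_zero, add_zero] at hQ
  have hAA : A * A = sinv A * sinv A := by
    have h3 : (A + sinv A) * (A + sinv A) =
        A * A + sinv A * sinv A + (2 : F) • (1 : Matrix (Fin 4) (Fin 4) F) := by
      rw [add_mul, mul_add, mul_add, hAS, hSA, two_smul]
      abel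
    rw [h3, h2, zero_smul, add_zero] at hQ
    have h4 : A * A = -(sinv A * sinv A) := eq_neg_of_add_eq_zero_left hQ
    rw [h4]
    ext i j
    rw [Matrix.neg_apply]
    exact CharTwo.neg_eq _
  have hA4 : A ^ 4 = 1 := by
    calc A ^ 4 = A ^ 2 * A ^ 2 := by rw [← pow_add]
      _ = A * A * (A * A) := by rw [pow_two]
      _ = A * A * (sinv A * sinv A) := by rw [← hAA]
      _ = A * (A * sinv A) * sinv A := by simp only [Matrix.mul_assoc]
      _ = 1 := by rw [hAS, Matrix.mul_one, hAS]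
  apply Units.ext
  rw [Units.val_pow_eq_pow_val, Units.val_one]
  exact hA4

end char2b

/-- the antidiagonal matrix, an involution of the Suzuki group -/
def Jm : Matrix (Fin 4) (Fin 4) F := Matrix.of fun i j => if j = Fin.rev i then 1 else 0

theorem Jm_mul : (Jm : Matrix (Fin 4) (Fin 4) F) * Jm = 1 := by
  ext i j
  fin_cases i <;> fin_cases j
  · show (Jm * Jm : Matrix (Fin 4) (Fin 4) F) 0 0 = (1 : Matrix (Fin 4) (Fin 4) F) 0 0
    rw [Matrix.mul_apply, Fin.sum_univ_four]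
    simp (config := {decide := true}) [Jm]
  · show (Jm * Jm : Matrix (Fin 4) (Fin 4) F) 0 1 = (1 : Matrix (Fin 4) (Fin 4) F) 0 1
    rw [Matrix.mul_apply, Fin.sum_univ_four]
    simp (config := {decide := true}) [Jm]
  · show (Jm * Jm : Matrix (Fin 4) (Fin 4) F) 0 2 = (1 : Matrix (Fin 4) (Fin 4) F) 0 2
    rw [Matrix.mul_apply, Fin.sum_univ_four]
    simp (config := {decide := true}) [Jm]
  · show (Jm * Jm : Matrix (Fin 4) (Fin 4) F) 0 3 = (1 : Matrix (Fin 4) (Fin 4) F) 0 3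
    rw [Matrix.mul_apply, Fin.sum_univ_four]
    simp (config := {decide := true}) [Jm]
  · show (Jm * Jm : Matrix (Fin 4) (Fin 4) F) 1 0 = (1 : Matrix (Fin 4) (Fin 4) F) 1 0
    rw [Matrix.mul_apply, Fin.sum_univ_four]
    simp (config := {decide := true}) [Jm]
  · show (Jm * Jm : Matrix (Fin 4) (Fin 4) F) 1 1 = (1 : Matrix (Fin 4) (Fin 4) F) 1 1
    rw [Matrix.mul_apply, Fin.sum_univ_four]
    simp (config := {decide := true}) [Jm]
  · show (Jm * Jm : Matrix (Fin 4) (Fin 4) F) 1 2 = (1 : Matrix (Fin 4) (Fin 4) F) 1 2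
    rw [Matrix.mul_apply, Fin.sum_univ_four]
    simp (config := {decide := true}) [Jm]
  · show (Jm * Jm : Matrix (Fin 4) (Fin 4) F) 1 3 = (1 : Matrix (Fin 4) (Fin 4) F) 1 3
    rw [Matrix.mul_apply, Fin.sum_univ_four]
    simp (config := {decide := true}) [Jm]
  · show (Jm * Jm : Matrix (Fin 4) (Fin 4) F) 2 0 = (1 : Matrix (Fin 4) (Fin 4) F) 2 0
    rw [Matrix.mul_apply, Fin.sum_univ_four]
    simp (config := {decide := true}) [Jm]
  · show (Jm * Jm : Matrix (Fin 4) (Fin 4) F) 2 1 = (1 : Matrix (Fin 4) (Fin 4) F) 2 1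
    rw [Matrix.mul_apply, Fin.sum_univ_four]
    simp (config := {decide := true}) [Jm]
  · show (Jm * Jm : Matrix (Fin 4) (Fin 4) F) 2 2 = (1 : Matrix (Fin 4) (Fin 4) F) 2 2
    rw [Matrix.mul_apply, Fin.sum_univ_four]
    simp (config := {decide := true}) [Jm]
  · show (Jm * Jm : Matrix (Fin 4) (Fin 4) F) 2 3 = (1 : Matrix (Fin 4) (Fin 4) F) 2 3
    rw [Matrix.mul_apply, Fin.sum_univ_four]
    simp (config := {decide := true}) [Jm]
  · show (Jm * Jm : Matrix (Fin 4) (Fin 4) F) 3 0 = (1 : Matrix (Fin 4) (Fin 4) F) 3 0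
    rw [Matrix.mul_apply, Fin.sum_univ_four]
    simp (config := {decide := true}) [Jm]
  · show (Jm * Jm : Matrix (Fin 4) (Fin 4) F) 3 1 = (1 : Matrix (Fin 4) (Fin 4) F) 3 1
    rw [Matrix.mul_apply, Fin.sum_univ_four]
    simp (config := {decide := true}) [Jm]
  · show (Jm * Jm : Matrix (Fin 4) (Fin 4) F) 3 2 = (1 : Matrix (Fin 4) (Fin 4) F) 3 2
    rw [Matrix.mul_apply, Fin.sum_univ_four]
    simp (config := {decide := true}) [Jm]
  · show (Jm * Jm : Matrix (Fin 4) (Fin 4) F) 3 3 = (1 : Matrix (Fin 4) (Fin 4) F) 3 3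
    rw [Matrix.mul_apply, Fin.sum_univ_four]
    simp (config := {decide := true}) [Jm]

/-- the antidiagonal matrix as a unit -/
def Ju : GL (Fin 4) F := ⟨Jm, Jm, Jm_mul, Jm_mul⟩

theorem Jm_colC : ColC (Jm : Matrix (Fin 4) (Fin 4) F) := by
  intro i j
  fin_cases i <;> fin_cases j
  · show (Jm : Matrix (Fin 4) (Fin 4) F) 0 0 * Jm 3 0 + Jm 1 0 * Jm 2 0 + Jm 2 0 * Jm 1 0 +
        Jm 3 0 * Jm 0 0 = dl 0 0
    simp (config := {decide := true}) [Jm, dl]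
  · show (Jm : Matrix (Fin 4) (Fin 4) F) 0 0 * Jm 3 1 + Jm 1 0 * Jm 2 1 + Jm 2 0 * Jm 1 1 +
        Jm 3 0 * Jm 0 1 = dl 0 1
    simp (config := {decide := true}) [Jm, dl]
  · show (Jm : Matrix (Fin 4) (Fin 4) F) 0 0 * Jm 3 2 + Jm 1 0 * Jm 2 2 + Jm 2 0 * Jm 1 2 +
        Jm 3 0 * Jm 0 2 = dl 0 2
    simp (config := {decide := true}) [Jm, dl]
  · show (Jm : Matrix (Fin 4) (Fin 4) F) 0 0 * Jm 3 3 + Jm 1 0 * Jm 2 3 + Jm 2 0 * Jm 1 3 +
        Jm 3 0 * Jm 0 3 = dl 0 3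
    simp (config := {decide := true}) [Jm, dl]
  · show (Jm : Matrix (Fin 4) (Fin 4) F) 0 1 * Jm 3 0 + Jm 1 1 * Jm 2 0 + Jm 2 1 * Jm 1 0 +
        Jm 3 1 * Jm 0 0 = dl 1 0
    simp (config := {decide := true}) [Jm, dl]
  · show (Jm : Matrix (Fin 4) (Fin 4) F) 0 1 * Jm 3 1 + Jm 1 1 * Jm 2 1 + Jm 2 1 * Jm 1 1 +
        Jm 3 1 * Jm 0 1 = dl 1 1
    simp (config := {decide := true}) [Jm, dl]
  · show (Jm : Matrix (Fin 4) (Fin 4) F) 0 1 * Jm 3 2 + Jm 1 1 * Jm 2 2 + Jm 2 1 * Jm 1 2 +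
        Jm 3 1 * Jm 0 2 = dl 1 2
    simp (config := {decide := true}) [Jm, dl]
  · show (Jm : Matrix (Fin 4) (Fin 4) F) 0 1 * Jm 3 3 + Jm 1 1 * Jm 2 3 + Jm 2 1 * Jm 1 3 +
        Jm 3 1 * Jm 0 3 = dl 1 3
    simp (config := {decide := true}) [Jm, dl]
  · show (Jm : Matrix (Fin 4) (Fin 4) F) 0 2 * Jm 3 0 + Jm 1 2 * Jm 2 0 + Jm 2 2 * Jm 1 0 +
        Jm 3 2 * Jm 0 0 = dl 2 0
    simp (config := {decide := true}) [Jm, dl]
  · show (Jm : Matrix (Fin 4) (Fin 4) F) 0 2 * Jm 3 1 + Jm 1 2 * Jm 2 1 + Jm 2 2 * Jm 1 1 +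
        Jm 3 2 * Jm 0 1 = dl 2 1
    simp (config := {decide := true}) [Jm, dl]
  · show (Jm : Matrix (Fin 4) (Fin 4) F) 0 2 * Jm 3 2 + Jm 1 2 * Jm 2 2 + Jm 2 2 * Jm 1 2 +
        Jm 3 2 * Jm 0 2 = dl 2 2
    simp (config := {decide := true}) [Jm, dl]
  · show (Jm : Matrix (Fin 4) (Fin 4) F) 0 2 * Jm 3 3 + Jm 1 2 * Jm 2 3 + Jm 2 2 * Jm 1 3 +
        Jm 3 2 * Jm 0 3 = dl 2 3
    simp (config := {decide := true}) [Jm, dl]
  · show (Jm : Matrix (Fin 4) (Fin 4) F) 0 3 * Jm 3 0 + Jm 1 3 * Jm 2 0 + Jm 2 3 * Jm 1 0 +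
        Jm 3 3 * Jm 0 0 = dl 3 0
    simp (config := {decide := true}) [Jm, dl]
  · show (Jm : Matrix (Fin 4) (Fin 4) F) 0 3 * Jm 3 1 + Jm 1 3 * Jm 2 1 + Jm 2 3 * Jm 1 1 +
        Jm 3 3 * Jm 0 1 = dl 3 1
    simp (config := {decide := true}) [Jm, dl]
  · show (Jm : Matrix (Fin 4) (Fin 4) F) 0 3 * Jm 3 2 + Jm 1 3 * Jm 2 2 + Jm 2 3 * Jm 1 2 +
        Jm 3 3 * Jm 0 2 = dl 3 2
    simp (config := {decide := true}) [Jm, dl]
  · show (Jm : Matrix (Fin 4) (Fin 4) F) 0 3 * Jm 3 3 + Jm 1 3 * Jm 2 3 + Jm 2 3 * Jm 1 3 +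
        Jm 3 3 * Jm 0 3 = dl 3 3
    simp (config := {decide := true}) [Jm, dl]

theorem Ju_mul : (Ju : GL (Fin 4) F) * Ju = 1 := Units.ext Jm_mul

theorem Ju_ne : (Ju : GL (Fin 4) F) ≠ 1 := by
  intro h
  have h1 : ((Ju : GL (Fin 4) F) : Matrix (Fin 4) (Fin 4) F) 0 0 =
      ((1 : GL (Fin 4) F) : Matrix (Fin 4) (Fin 4) F) 0 0 := by rw [h]
  have h2 : ((Ju : GL (Fin 4) F) : Matrix (Fin 4) (Fin 4) F) 0 0 = 0 := by
    show (Jm : Matrix (Fin 4) (Fin 4) F) 0 0 = 0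
    simp (config := {decide := true}) [Jm]
  rw [h2, Units.val_one, Matrix.one_apply_eq] at h1
  exact zero_ne_one h1

section char2c

variable [CharP F 2]

set_option linter.unusedSimpArgs false in
theorem Jm_star (e : ℕ) (he : e ≠ 0) :
    star4 (Jm : Matrix (Fin 4) (Fin 4) F) = (Jm : Matrix (Fin 4) (Fin 4) F).map (fun x => x ^ e) := by
  have hneg : (-1 : F) = 1 := CharTwo.neg_eq 1
  ext p r
  fin_cases p <;> fin_cases r
  · show minor (Jm : Matrix (Fin 4) (Fin 4) F) 0 1 0 1 = (Jm 0 0) ^ e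
    simp (config := {decide := true}) [minor, Jm, he, hneg]
  · show minor (Jm : Matrix (Fin 4) (Fin 4) F) 0 1 0 2 = (Jm 0 1) ^ e
    simp (config := {decide := true}) [minor, Jm, he, hneg]
  · show minor (Jm : Matrix (Fin 4) (Fin 4) F) 0 1 1 3 = (Jm 0 2) ^ e
    simp (config := {decide := true}) [minor, Jm, he, hneg]
  · show minor (Jm : Matrix (Fin 4) (Fin 4) F) 0 1 2 3 = (Jm 0 3) ^ e
    simp (config := {decide := true}) [minor, Jm, he, hneg]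
  · show minor (Jm : Matrix (Fin 4) (Fin 4) F) 0 2 0 1 = (Jm 1 0) ^ e
    simp (config := {decide := true}) [minor, Jm, he, hneg]
  · show minor (Jm : Matrix (Fin 4) (Fin 4) F) 0 2 0 2 = (Jm 1 1) ^ e
    simp (config := {decide := true}) [minor, Jm, he, hneg]
  · show minor (Jm : Matrix (Fin 4) (Fin 4) F) 0 2 1 3 = (Jm 1 2) ^ e
    simp (config := {decide := true}) [minor, Jm, he, hneg]
  · show minor (Jm : Matrix (Fin 4) (Fin 4) F) 0 2 2 3 = (Jm 1 3) ^ e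
    simp (config := {decide := true}) [minor, Jm, he, hneg]
  · show minor (Jm : Matrix (Fin 4) (Fin 4) F) 1 3 0 1 = (Jm 2 0) ^ e
    simp (config := {decide := true}) [minor, Jm, he, hneg]
  · show minor (Jm : Matrix (Fin 4) (Fin 4) F) 1 3 0 2 = (Jm 2 1) ^ e
    simp (config := {decide := true}) [minor, Jm, he, hneg]
  · show minor (Jm : Matrix (Fin 4) (Fin 4) F) 1 3 1 3 = (Jm 2 2) ^ e
    simp (config := {decide := true}) [minor, Jm, he, hneg]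
  · show minor (Jm : Matrix (Fin 4) (Fin 4) F) 1 3 2 3 = (Jm 2 3) ^ e
    simp (config := {decide := true}) [minor, Jm, he, hneg]
  · show minor (Jm : Matrix (Fin 4) (Fin 4) F) 2 3 0 1 = (Jm 3 0) ^ e
    simp (config := {decide := true}) [minor, Jm, he, hneg]
  · show minor (Jm : Matrix (Fin 4) (Fin 4) F) 2 3 0 2 = (Jm 3 1) ^ e
    simp (config := {decide := true}) [minor, Jm, he, hneg]
  · show minor (Jm : Matrix (Fin 4) (Fin 4) F) 2 3 1 3 = (Jm 3 2) ^ e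
    simp (config := {decide := true}) [minor, Jm, he, hneg]
  · show minor (Jm : Matrix (Fin 4) (Fin 4) F) 2 3 2 3 = (Jm 3 3) ^ e
    simp (config := {decide := true}) [minor, Jm, he, hneg]

theorem Ju_mem (e : ℕ) (he : e ≠ 0) : (Ju : GL (Fin 4) F) ∈ Sz F e := by
  apply Subgroup.subset_closure
  exact ⟨mem_of_colC Jm_colC, Jm_star e he⟩

end char2c

end Cfsg.Agent.Lib.Helper21.Sz4
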