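import Mathlib
import Cfsg.Agent.Lib.Helper21.Basic
import Cfsg.Agent.Lib.Helper21.Subnormal
import Cfsg.Agent.Lib.Helper21.Wielandt

set_option autoImplicit false

namespace Cfsg.Agent.Lib.Helper21

section SylowRel

variable {G : Type*} [Group G]

/-- If `H` normalizes `K` then the elements of `H ⊔ K` are the products `a * b`. -/
theorem mem_sup_of_le_normalizer {H K : Subgroup G}
    (h : H ≤ Subgroup.normalizer (K : Set G)) {x : G} :
    x ∈ H ⊔ K ↔ ∃ a ∈ H, ∃ b ∈ K, a * b = x := by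
  constructor
  · intro hx
    let S : Subgroup G :=
      { carrier := {x | ∃ a ∈ H, ∃ b ∈ K, a * b = x}
        mul_mem' := by
          rintro _ _ ⟨a, ha, b, hb, rfl⟩ ⟨a', ha', b', hb', rfl⟩
          refine ⟨a * a', H.mul_mem ha ha', (a'⁻¹ * b * a') * b', K.mul_mem ?_ hb', by group⟩
          have h1 := conj_mem_of_mem_normalizer (h (H.inv_mem ha')) hb
          simpa using h1
        one_mem' := ⟨1, H.one_mem, 1, K.one_mem, by simp⟩
        inv_mem' := by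
          rintro _ ⟨a, ha, b, hb, rfl⟩
          exact ⟨a⁻¹, H.inv_mem ha, a * b⁻¹ * a⁻¹,
            conj_mem_of_mem_normalizer (h ha) (K.inv_mem hb), by group⟩ }
    have hle : H ⊔ K ≤ S :=
      sup_le (fun a ha => ⟨a, ha, 1, K.one_mem, by simp⟩)
        (fun b hb => ⟨1, H.one_mem, b, hb, by simp⟩)
    exact hle hx
  · rintro ⟨a, ha, b, hb, rfl⟩
    exact Subgroup.mul_mem _ (Subgroup.mem_sup_left ha) (Subgroup.mem_sup_right hb)

/-- `Q` is a Sylow `q`-subgroup of the subgroup `N` (all inside `G`). -/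
def IsSylOf (q : ℕ) (N Q : Subgroup G) : Prop :=
  Q ≤ N ∧ IsPGroup q Q ∧ ¬ q ∣ Q.relIndex N

theorem isSylOf_map_subtype [Finite G] {q : ℕ} [Fact q.Prime] {N : Subgroup G} (Q : Sylow q N) :
    IsSylOf q N ((Q : Subgroup N).map N.subtype) := by
  refine ⟨Subgroup.map_subtype_le _, Q.isPGroup'.map _, ?_⟩
  have e : ((Q : Subgroup N).map N.subtype).subgroupOf N = (Q : Subgroup N) :=
    Subgroup.comap_map_eq_self_of_injective N.subtype_injective _
  change ¬ q ∣ (((Q : Subgroup N).map N.subtype).subgroupOf N).index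
  rw [e]
  exact Q.not_dvd_index

theorem IsSylOf.map_conj [Finite G] {q : ℕ} {N Q : Subgroup G} (h : IsSylOf q N Q) {g : G}
    (hg : g ∈ Subgroup.normalizer (N : Set G)) :
    IsSylOf q N (Q.map (MulAut.conj g).toMonoidHom) := by
  obtain ⟨h1, h2, h3⟩ := h
  have hle : Q.map (MulAut.conj g).toMonoidHom ≤ N := by
    rw [← (mem_normalizer_iff_map N g).mp hg]
    exact Subgroup.map_mono h1
  refine ⟨hle, h2.map _, ?_⟩
  have e1 := card_mul_relIndex hle
  have e2 := card_mul_relIndex h1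
  rw [card_map_conj] at e1
  have e3 : (Q.map (MulAut.conj g).toMonoidHom).relIndex N = Q.relIndex N := by
    have hpos : 0 < Nat.card Q := Nat.card_pos
    exact Nat.eq_of_mul_eq_mul_left hpos (e1.trans e2.symm)
  rw [e3]; exact h3

theorem IsSylOf.card_eq [Finite G] {q : ℕ} [Fact q.Prime] {N Q₁ Q₂ : Subgroup G}
    (h₁ : IsSylOf q N Q₁) (h₂ : IsSylOf q N Q₂) : Nat.card Q₁ = Nat.card Q₂ := by
  have key : ∀ {A B : Subgroup G}, IsSylOf q N A → IsSylOf q N B → Nat.card A ≤ Nat.card B := by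
    intro A B hA hB
    obtain ⟨h, -, hle⟩ := exists_conj_le_of_relIndex hB.1 hA.1 hB.2.1 hA.2.1 hB.2.2
    have := Subgroup.card_le_of_le hle
    rwa [card_map_conj] at this
  exact le_antisymm (key h₁ h₂) (key h₂ h₁)

theorem IsSylOf.exists_conj [Finite G] {q : ℕ} [Fact q.Prime] {N Q₁ Q₂ : Subgroup G}
    (h₁ : IsSylOf q N Q₁) (h₂ : IsSylOf q N Q₂) :
    ∃ n ∈ N, Q₂ = Q₁.map (MulAut.conj n).toMonoidHom :=
  exists_conj_eq_of_relIndex h₁.1 h₂.1 h₁.2.1 h₂.2.1 h₁.2.2 (h₁.card_eq h₂).le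

theorem IsSylOf.ne_bot [Finite G] {q : ℕ} [Fact q.Prime] {N Q : Subgroup G}
    (h : IsSylOf q N Q) (hq : q ∣ Nat.card N) : Q ≠ ⊥ := by
  rintro rfl
  apply h.2.2
  rwa [Subgroup.relIndex_bot_left]

/-- Coprime action: if a `p`-subgroup `P` normalizes two Sylow `q`-subgroups `Q₁`, `Q₂` of the
normal `p'`-subgroup `N`, then they are conjugate by an element of `N` normalizing `P`. -/
theorem IsSylOf.exists_conj_normalizer [Finite G] {p q : ℕ} [Fact p.Prime] [Fact q.Prime]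
    {N : Subgroup G} [N.Normal] (hN : ¬ p ∣ Nat.card N) {P : Subgroup G} (hP : IsPGroup p P)
    {Q₁ Q₂ : Subgroup G} (h₁ : IsSylOf q N Q₁) (h₂ : IsSylOf q N Q₂)
    (hPQ₁ : P ≤ Subgroup.normalizer (Q₁ : Set G)) (hPQ₂ : P ≤ Subgroup.normalizer (Q₂ : Set G)) :
    ∃ n ∈ N, n ∈ Subgroup.normalizer (P : Set G) ∧ Q₂ = Q₁.map (MulAut.conj n).toMonoidHom := by
  have hp : p.Prime := Fact.out
  have hcop : (Nat.card N).Coprime p := (Nat.Coprime.symm ((Nat.Prime.coprime_iff_not_dvd hp).mpr hN))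
  obtain ⟨n, hnN, hEq⟩ := h₁.exists_conj h₂
  have hPT : P ≤ Subgroup.normalizer (Q₂ : Set G) ⊓ (P ⊔ N) := le_inf hPQ₂ le_sup_left
  have hPnT : P.map (MulAut.conj n).toMonoidHom ≤ Subgroup.normalizer (Q₂ : Set G) ⊓ (P ⊔ N) := by
    refine le_inf ?_ ?_
    · rw [hEq]; exact le_normalizer_map_conj hPQ₁ n
    · have h1 : (P ⊔ N).map (MulAut.conj n).toMonoidHom = P ⊔ N :=
        map_conj_of_mem (Subgroup.mem_sup_right hnN)
      rw [← h1]; exact Subgroup.map_mono le_sup_left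
  have hidx : ¬ p ∣ P.relIndex (Subgroup.normalizer (Q₂ : Set G) ⊓ (P ⊔ N)) := by
    intro hdvd
    have h1 := Subgroup.relIndex_mul_relIndex P _ (P ⊔ N) hPT inf_le_right
    exact not_dvd_relIndex_sup_of_coprime N hcop P (h1 ▸ Dvd.dvd.mul_right hdvd _)
  obtain ⟨y, hyT, hEq2⟩ := exists_conj_eq_of_relIndex hPT hPnT hP (hP.map _) hidx
    (card_map_conj P n).ge
  have hy2 : y ∈ N ⊔ P := by rw [sup_comm]; exact hyT.2
  obtain ⟨z, hz, u, hu, rfl⟩ := Subgroup.mem_sup_of_normal_left.mp hy2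
  rw [map_conj_mul, map_conj_of_mem hu] at hEq2
  have hzn : z⁻¹ * n ∈ Subgroup.normalizer (P : Set G) := by
    rw [mem_normalizer_iff_map, map_conj_mul, hEq2, map_conj_map_conj_inv]
  have hzQ : z ∈ Subgroup.normalizer (Q₂ : Set G) := by
    have h1 : z = (z * u) * u⁻¹ := by group
    rw [h1]
    exact Subgroup.mul_mem _ hyT.1 (Subgroup.inv_mem _ (hPQ₂ hu))
  refine ⟨z⁻¹ * n, N.mul_mem (N.inv_mem hz) hnN, hzn, ?_⟩
  rw [map_conj_mul, ← hEq]
  exact ((mem_normalizer_iff_map Q₂ z⁻¹).mp (Subgroup.inv_mem _ hzQ)).symm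

/-- A `p`-subgroup `P` normalizing a normal `p'`-subgroup `N` normalizes some Sylow
`q`-subgroup of `N`. -/
theorem exists_sylow_normalized [Finite G] {p q : ℕ} [Fact p.Prime] [Fact q.Prime]
    {N : Subgroup G} [N.Normal] (hN : ¬ p ∣ Nat.card N) {P : Subgroup G} (hP : IsPGroup p P) :
    ∃ Q : Sylow q N, P ≤ Subgroup.normalizer (((Q : Subgroup N).map N.subtype : Subgroup G) : Set G) := by
  let _ : MulAction P (Sylow q N) :=
    MulAction.compHom (Sylow q N) ((MulAut.conjNormal : G →* MulAut N).comp P.subtype)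
  have hcard : ¬ p ∣ Nat.card (Sylow q N) := by
    intro hdvd
    obtain ⟨Q₀⟩ : Nonempty (Sylow q N) := inferInstance
    have h1 := Q₀.card_dvd_index
    have h2 : (Q₀ : Subgroup N).index ∣ Nat.card N := Subgroup.index_dvd_card _
    exact hN (hdvd.trans (h1.trans h2))
  obtain ⟨Q, hQ⟩ := hP.nonempty_fixed_point_of_prime_not_dvd_card (Sylow q N) hcard
  refine ⟨Q, ?_⟩
  intro g hg
  have hn : (MulAut.conjNormal g : MulAut N) • Q = Q := hQ ⟨g, hg⟩
  rw [Sylow.ext_iff, Sylow.pointwise_smul_def, Subgroup.pointwise_smul_def] at hn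
  rw [mem_normalizer_iff_map]
  refine Eq.trans ?_ (congrArg (Subgroup.map N.subtype) hn)
  ext x
  constructor
  · rintro ⟨_, ⟨y, hy, rfl⟩, rfl⟩
    exact ⟨_, ⟨y, hy, rfl⟩, rfl⟩
  · rintro ⟨_, ⟨y, hy, rfl⟩, rfl⟩
    exact ⟨_, ⟨y, hy, rfl⟩, rfl⟩

end SylowRel

end Cfsg.Agent.Lib.Helper21
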