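import Cfsg.Agent.Lib.Helper21.FrobCount
import Cfsg.Agent.Lib.Helper5.MinNormal

set_option autoImplicit false

namespace Cfsg.Agent.Lib.Helper21

universe u

/-- A minimal normal subgroup of a finite solvable group has prime exponent. -/
theorem minimal_normal_exp {G : Type*} [Group G] [Finite G] [Group.IsSolvable G]
    {M : Subgroup G} [hMn : M.Normal] (hM : M ≠ ⊥)
    (hmin : ∀ K : Subgroup G, K.Normal → K ≤ M → K = ⊥ ∨ K = M) :
    ∃ p i : ℕ, p.Prime ∧ 0 < i ∧ Nat.card M = p ^ i ∧ ∀ k ∈ M, k ^ p = 1 := by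
  obtain ⟨p, hp, hMp⟩ := Cfsg.Agent.Lib.Helper5.minimal_normal_isPGroup hM hmin
  have hab := Cfsg.Agent.Lib.Helper5.minimal_normal_comm hM hmin
  haveI := Fact.mk hp
  obtain ⟨i, hi⟩ := IsPGroup.iff_card.1 hMp
  have hi0 : 0 < i := by
    rcases Nat.eq_zero_or_pos i with h | h
    · rw [h, pow_zero] at hi
      exact absurd (Subgroup.card_eq_one.1 hi) hM
    · exact h
  refine ⟨p, i, hp, hi0, hi, ?_⟩
  let K₀ : Subgroup G :=
    { carrier := {x | x ∈ M ∧ x ^ p = 1}
      mul_mem' := fun {a b} ha hb => ⟨mul_mem ha.1 hb.1, by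
        have hc : Commute a b := hab a ha.1 b hb.1
        rw [hc.mul_pow, ha.2, hb.2, one_mul]⟩
      one_mem' := ⟨one_mem _, one_pow _⟩
      inv_mem' := fun {a} ha => ⟨inv_mem ha.1, by rw [inv_pow, ha.2, inv_one]⟩ }
  have hK₀n : K₀.Normal := ⟨fun x hx g => ⟨hMn.conj_mem x hx.1 g, by
    rw [conj_pow, hx.2]
    simp⟩⟩
  have hK₀le : K₀ ≤ M := fun x hx => hx.1
  rcases hmin K₀ hK₀n hK₀le with h | h
  · exfalso
    obtain ⟨x, hx⟩ := exists_prime_orderOf_dvd_card' (G := M) p
      (by rw [hi]; exact dvd_pow_self p hi0.ne')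
    have h1 : (x : G) ∈ K₀ := ⟨x.2, by
      have h2 : x ^ p = 1 := by rw [← hx]; exact pow_orderOf_eq_one x
      have h3 := congrArg Subtype.val h2
      simpa using h3⟩
    rw [h, Subgroup.mem_bot] at h1
    have h4 : x = 1 := Subtype.ext h1
    rw [h4, orderOf_one] at hx
    exact hp.one_lt.ne' hx.symm
  · intro k hk
    rw [← h] at hk
    exact hk.2

theorem card_comap_mk {G : Type*} [Group G] [Finite G] (K : Subgroup G) [K.Normal]
    (H : Subgroup (G ⧸ K)) :
    Nat.card (H.comap (QuotientGroup.mk' K)) = Nat.card H * Nat.card K := by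
  have h1 := Subgroup.index_comap_of_surjective H (QuotientGroup.mk'_surjective K)
  have h2 := (H.comap (QuotientGroup.mk' K)).card_mul_index
  have h3 := H.card_mul_index
  have h4 := Subgroup.card_eq_card_quotient_mul_card_subgroup K
  rw [h1] at h2
  have hidx : 0 < H.index := Nat.pos_of_ne_zero Subgroup.index_ne_zero_of_finite
  have h5 : Nat.card (H.comap (QuotientGroup.mk' K)) * H.index =
      Nat.card H * Nat.card K * H.index := by
    rw [h2, h4, ← h3]
    ring
  exact Nat.eq_of_mul_eq_mul_right hidx h5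

theorem coe_eq_of_subset_of_card {G : Type*} [Group G] [Finite G] (H : Subgroup G) (n : ℕ)
    (hsub : ∀ h ∈ H, h ^ n = 1) (hcard : Nat.card {x : G // x ^ n = 1} ≤ Nat.card H) :
    (H : Set G) = {x : G | x ^ n = 1} := by
  have hsub' : (H : Set G) ⊆ {x : G | x ^ n = 1} := fun h hh => hsub h hh
  apply Set.eq_of_subset_of_ncard_le hsub'
  rw [← Nat.card_coe_set_eq, ← Nat.card_coe_set_eq]
  exact hcard

theorem card_preimage_pow_le {G : Type*} [Group G] [Finite G] (K : Subgroup G) [K.Normal]
    (p : ℕ) (hexp : ∀ k ∈ K, k ^ p = 1) (n n₁ : ℕ) (hdvd : n₁ * p ∣ n) :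
    Nat.card {q : G ⧸ K // q ^ n₁ = 1} * Nat.card K ≤ Nat.card {x : G // x ^ n = 1} := by
  rw [← Nat.card_prod]
  have hmem : ∀ (q : G ⧸ K) (k : K), q ^ n₁ = 1 → (q.out * (k : G)) ^ n = 1 := by
    intro q k hq
    have h1 : ((q.out * (k : G) : G) : G ⧸ K) = q := by
      rw [QuotientGroup.mk_mul, QuotientGroup.out_eq', (QuotientGroup.eq_one_iff (k : G)).2 k.2,
        mul_one]
    have h2 : (q.out * (k : G)) ^ n₁ ∈ K := by
      rw [← QuotientGroup.eq_one_iff, QuotientGroup.mk_pow, h1]
      exact hq
    obtain ⟨t, rfl⟩ := hdvd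
    rw [pow_mul, pow_mul, hexp _ h2, one_pow]
  apply Nat.card_le_card_of_injective
    (fun qk : {q : G ⧸ K // q ^ n₁ = 1} × K =>
      (⟨qk.1.1.out * (qk.2 : G), hmem qk.1.1 qk.2 qk.1.2⟩ : {x : G // x ^ n = 1}))
  rintro ⟨⟨q, hq⟩, k⟩ ⟨⟨q', hq'⟩, k'⟩ hh
  have h0 : q.out * (k : G) = q'.out * (k' : G) := congrArg Subtype.val hh
  have h1 : q = q' := by
    have h2 := congrArg (fun x : G => (x : G ⧸ K)) h0
    simp only [QuotientGroup.mk_mul, QuotientGroup.out_eq'] at h2
    rw [(QuotientGroup.eq_one_iff (k : G)).2 k.2, (QuotientGroup.eq_one_iff (k' : G)).2 k'.2,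
      mul_one, mul_one] at h2
    exact h2
  subst h1
  have h3 : (k : G) = (k' : G) := mul_left_cancel h0
  have h4 : k = k' := Subtype.ext h3
  rw [h4]

theorem exists_lift_pow {G : Type*} [Group G] [Finite G] (K : Subgroup G) [K.Normal] (p : ℕ)
    (hp : p.Prime) (hexp : ∀ k ∈ K, k ^ p = 1) (n : ℕ) (hpn : ¬ p ∣ n) (q : G ⧸ K)
    (hq : q ^ n = 1) : ∃ y : G, (y : G ⧸ K) = q ∧ y ^ n = 1 := by
  have hcop : Nat.Coprime n p := ((Nat.Prime.coprime_iff_not_dvd hp).2 hpn).symm
  obtain ⟨u, v, hu1, hu2, -, -, -⟩ := crt_exps n p hcop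
  have hk : q.out ^ n ∈ K := by
    rw [← QuotientGroup.eq_one_iff, QuotientGroup.mk_pow, QuotientGroup.out_eq']
    exact hq
  refine ⟨q.out ^ u, ?_, ?_⟩
  · rw [QuotientGroup.mk_pow, QuotientGroup.out_eq', pow_eq_pow_of_modEq' hq hu1, pow_one]
  · rw [← pow_mul, mul_comm, pow_mul]
    have h1 := pow_eq_pow_of_modEq' (hexp _ hk) hu2
    rw [h1, pow_zero]

theorem solv_frob_aux : ∀ (N : ℕ) (G : Type u) [Group G] [Finite G] [Group.IsSolvable G],
    Nat.card G = N → ∀ n, n ∣ Nat.card G → Nat.card {x : G // x ^ n = 1} = n →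
      ∃ H : Subgroup G, (H : Set G) = {x : G | x ^ n = 1} := by
  intro N
  induction N using Nat.strong_induction_on with
  | _ N ih =>
    intro G _ _ _ hN n hn hcount
    have hn0 : 0 < n := Nat.pos_of_dvd_of_pos hn Nat.card_pos
    by_cases hG : Nontrivial G
    · obtain ⟨K, hKn, hKne, -, hKmin⟩ :=
        Cfsg.Agent.Lib.Helper5.exists_minimal_normal (⊤ : Subgroup G) Subgroup.normal_top
          top_ne_bot
      haveI := hKn
      obtain ⟨p, i, hp, hi0, hKcard, hexp⟩ := minimal_normal_exp hKne hKmin
      have hGK : Nat.card G = Nat.card (G ⧸ K) * p ^ i := by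
        rw [← hKcard]
        exact Subgroup.card_eq_card_quotient_mul_card_subgroup K
      have hpi : 2 ≤ p ^ i := by
        calc 2 ≤ p := hp.two_le
          _ = p ^ 1 := (pow_one p).symm
          _ ≤ p ^ i := Nat.pow_le_pow_right hp.pos hi0
      have hQpos : 0 < Nat.card (G ⧸ K) := Nat.card_pos
      have hQlt : Nat.card (G ⧸ K) < N := by
        rw [← hN, hGK]
        nlinarith
      have IHQ : ∀ m, m ∣ Nat.card (G ⧸ K) → Nat.card {x : G ⧸ K // x ^ m = 1} = m →
          ∃ H : Subgroup (G ⧸ K), (H : Set (G ⧸ K)) = {x : G ⧸ K | x ^ m = 1} :=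
        fun m hm hc => ih _ hQlt (G ⧸ K) rfl m hm hc
      have hfrobpos : ∀ m, 0 < m → m ∣ Nat.card (G ⧸ K) →
          m ≤ Nat.card {x : G ⧸ K // x ^ m = 1} := by
        intro m hm0 hm
        have h1 := frobenius (G := G ⧸ K) m hm
        haveI : Nonempty {x : G ⧸ K // x ^ m = 1} := ⟨⟨1, one_pow m⟩⟩
        exact Nat.le_of_dvd Nat.card_pos h1
      have hcardH : ∀ (m : ℕ) (H : Subgroup (G ⧸ K)),
          (H : Set (G ⧸ K)) = {x : G ⧸ K | x ^ m = 1} →
          Nat.card H = Nat.card {x : G ⧸ K // x ^ m = 1} := by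
        intro m H hH
        have h1 : Nat.card ((H : Set (G ⧸ K)) : Type u) =
            Nat.card (({x : G ⧸ K | x ^ m = 1} : Set (G ⧸ K)) : Type u) := by rw [hH]
        exact h1
      by_cases hpin : p ^ i ∣ n
      · -- Case A
        obtain ⟨n₁, rfl⟩ := hpin
        have hn₁0 : 0 < n₁ := by
          rcases Nat.eq_zero_or_pos n₁ with h | h
          · rw [h, mul_zero] at hn0
            omega
          · exact h
        have hn₁Q : n₁ ∣ Nat.card (G ⧸ K) := by
          rw [hGK, mul_comm (Nat.card (G ⧸ K))] at hn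
          exact Nat.dvd_of_mul_dvd_mul_left (by omega) hn
        have hdvd : n₁ * p ∣ p ^ i * n₁ := by
          have h1 : p ^ i = p ^ (i - 1) * p := by
            rw [← pow_succ]
            congr 1
            omega
          rw [h1]
          exact ⟨p ^ (i - 1), by ring⟩
        have hPL := card_preimage_pow_le K p hexp (p ^ i * n₁) n₁ hdvd
        rw [hcount, hKcard] at hPL
        have hge := hfrobpos n₁ hn₁0 hn₁Q
        have hle : Nat.card {q : G ⧸ K // q ^ n₁ = 1} ≤ n₁ := by
          rw [mul_comm (p ^ i) n₁] at hPL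
          exact Nat.le_of_mul_le_mul_right hPL (by omega)
        have heq : Nat.card {q : G ⧸ K // q ^ n₁ = 1} = n₁ := le_antisymm hle hge
        obtain ⟨Hb, hHb⟩ := IHQ n₁ hn₁Q heq
        refine ⟨Hb.comap (QuotientGroup.mk' K), ?_⟩
        apply coe_eq_of_subset_of_card
        · intro x hx
          have h1 : ((x : G) : G ⧸ K) ∈ (Hb : Set (G ⧸ K)) := hx
          rw [hHb] at h1
          have h2 : x ^ n₁ ∈ K := by
            rw [← QuotientGroup.eq_one_iff, QuotientGroup.mk_pow]
            exact h1
          obtain ⟨t, ht⟩ := hdvd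
          rw [ht, pow_mul, pow_mul, hexp _ h2, one_pow]
        · rw [hcount, card_comap_mk, hcardH n₁ Hb hHb, heq, hKcard, mul_comm]
      · by_cases hpn : p ∣ n
        · -- Case C
          exfalso
          obtain ⟨j, n', hpn', hnj⟩ := Nat.exists_eq_pow_mul_and_not_dvd hn0.ne' p hp.ne_one
          have hj0 : 0 < j := by
            rcases Nat.eq_zero_or_pos j with h | h
            · rw [h, pow_zero, one_mul] at hnj
              rw [hnj] at hpn
              exact absurd hpn hpn'
            · exact h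
          have hn'0 : 0 < n' := by
            rcases Nat.eq_zero_or_pos n' with h | h
            · rw [h, mul_zero] at hnj
              omega
            · exact h
          have hji : j < i := by
            by_contra hcon
            apply hpin
            rw [hnj]
            exact Dvd.dvd.mul_right (pow_dvd_pow p (by omega)) n'
          have hn'Q : n' ∣ Nat.card (G ⧸ K) := by
            have h1 : n' ∣ Nat.card (G ⧸ K) * p ^ i := by
              rw [← hGK]
              exact (Dvd.intro_left _ hnj.symm).trans hn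
            exact Nat.Coprime.dvd_of_dvd_mul_right
              (Nat.Coprime.pow_right i ((Nat.Prime.coprime_iff_not_dvd hp).2 hpn').symm) h1
          have hdvd : n' * p ∣ n := by
            rw [hnj]
            have h1 : p ^ j = p ^ (j - 1) * p := by
              rw [← pow_succ]
              congr 1
              omega
            rw [h1]
            exact ⟨p ^ (j - 1), by ring⟩
          have hPL := card_preimage_pow_le K p hexp n n' hdvd
          rw [hcount, hKcard] at hPL
          have hge := hfrobpos n' hn'0 hn'Q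
          have h2 : n' * p ^ i ≤ p ^ j * n' := by
            rw [← hnj]
            exact le_trans (Nat.mul_le_mul_right _ hge) hPL
          have h3 : p ^ i ≤ p ^ j := by
            rw [mul_comm (p ^ j) n'] at h2
            exact Nat.le_of_mul_le_mul_left h2 hn'0
          have h4 : i ≤ j := (Nat.pow_le_pow_iff_right hp.one_lt).1 h3
          omega
        · -- Case B
          have hnQ : n ∣ Nat.card (G ⧸ K) := by
            have h1 : n ∣ Nat.card (G ⧸ K) * p ^ i := by
              rw [← hGK]
              exact hn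
            exact Nat.Coprime.dvd_of_dvd_mul_right
              (Nat.Coprime.pow_right i ((Nat.Prime.coprime_iff_not_dvd hp).2 hpn).symm) h1
          have hle : Nat.card {q : G ⧸ K // q ^ n = 1} ≤ Nat.card {x : G // x ^ n = 1} := by
            apply Nat.card_le_card_of_surjective
              (fun x : {x : G // x ^ n = 1} =>
                (⟨(x.1 : G ⧸ K), by rw [← QuotientGroup.mk_pow, x.2]; rfl⟩ :
                  {q : G ⧸ K // q ^ n = 1}))
            rintro ⟨q, hq⟩
            obtain ⟨y, hy1, hy2⟩ := exists_lift_pow K p hp hexp n hpn q hq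
            exact ⟨⟨y, hy2⟩, Subtype.ext hy1⟩
          rw [hcount] at hle
          have hge := hfrobpos n hn0 hnQ
          have heq : Nat.card {q : G ⧸ K // q ^ n = 1} = n := le_antisymm hle hge
          obtain ⟨Hb, hHb⟩ := IHQ n hnQ heq
          obtain ⟨Nn, hNn⟩ : ∃ Nn : Subgroup G, Nn = Hb.comap (QuotientGroup.mk' K) := ⟨_, rfl⟩
          have hNcard : Nat.card Nn = n * p ^ i := by
            rw [hNn, card_comap_mk, hcardH n Hb hHb, heq, hKcard]
          have hKN : K ≤ Nn := by
            intro k hk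
            rw [hNn, Subgroup.mem_comap]
            have h1 : (QuotientGroup.mk' K) k = 1 := (QuotientGroup.eq_one_iff k).2 hk
            rw [h1]
            exact one_mem _
          have hK'card : Nat.card (K.subgroupOf Nn) = p ^ i := by
            rw [← hKcard]
            exact Nat.card_congr (Subgroup.subgroupOfEquivOfLe hKN).toEquiv
          have hK'idx : (K.subgroupOf Nn).index = n := by
            have h1 := (K.subgroupOf Nn).card_mul_index
            rw [hK'card, hNcard, mul_comm n (p ^ i)] at h1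
            exact Nat.eq_of_mul_eq_mul_left (by omega) h1
          have hcop : Nat.Coprime (Nat.card (K.subgroupOf Nn)) (K.subgroupOf Nn).index := by
            rw [hK'card, hK'idx]
            exact Nat.Coprime.pow_left i ((Nat.Prime.coprime_iff_not_dvd hp).2 hpn)
          obtain ⟨H', hH'⟩ := Subgroup.exists_right_complement'_of_coprime hcop
          have hH'card : Nat.card H' = n := by
            have h1 := hH'.card_mul_card
            rw [hK'card, hNcard, mul_comm n (p ^ i)] at h1
            exact Nat.eq_of_mul_eq_mul_left (by omega) h1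
          refine ⟨H'.map Nn.subtype, ?_⟩
          have hmapcard : Nat.card (H'.map Nn.subtype) = n := by
            rw [Subgroup.card_subtype, hH'card]
          apply coe_eq_of_subset_of_card
          · intro x hx
            have h1 : (⟨x, hx⟩ : H'.map Nn.subtype) ^ Nat.card (H'.map Nn.subtype) = 1 :=
              pow_card_eq_one'
            rw [hmapcard] at h1
            have h2 := congrArg Subtype.val h1
            simpa using h2
          · rw [hcount, hmapcard]
    · rw [not_nontrivial_iff_subsingleton] at hG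
      refine ⟨⊤, ?_⟩
      ext x
      simp only [Subgroup.coe_top, Set.mem_univ, Set.mem_ofPred_eq, true_iff]
      rw [Subsingleton.elim x 1, one_pow]

/-- Frobenius' conjecture for finite solvable groups. -/
theorem solv_frob {G : Type u} [Group G] [Finite G] [Group.IsSolvable G] (n : ℕ)
    (hn : n ∣ Nat.card G) (hcount : Nat.card {x : G // x ^ n = 1} = n) :
    ∃ H : Subgroup G, H.Normal ∧ (H : Set G) = {x : G | x ^ n = 1} := by
  obtain ⟨H, hH⟩ := solv_frob_aux _ G rfl n hn hcount
  refine ⟨H, ⟨fun x hx g => ?_⟩, hH⟩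
  have h1 : x ∈ (H : Set G) := hx
  rw [hH] at h1
  have h2 : g * x * g⁻¹ ∈ {x : G | x ^ n = 1} := by
    show (g * x * g⁻¹) ^ n = 1
    have h3 : x ^ n = 1 := h1
    rw [conj_pow, h3]
    simp
  rw [← hH] at h2
  exact h2

end Cfsg.Agent.Lib.Helper21
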