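import Cfsg.Agent.Lib.Helper21.SelfCent2

set_option autoImplicit false
open scoped commutatorElement

namespace Cfsg.Agent.Lib.Helper21

variable {G : Type*} [Group G] [Finite G]

theorem sc_normalizer_inf {p : ℕ} (hp : p.Prime) {x : G} (hx : orderOf x = p)
    (hC : Subgroup.centralizer ({x} : Set G) = Subgroup.zpowers x) (S : Subgroup G)
    [hSn : S.Normal] (hS : ¬ p ∣ Nat.card S) :
    S ⊓ Subgroup.normalizer ((Subgroup.zpowers x : Subgroup G) : Set G) = ⊥ := by
  rw [eq_bot_iff]
  rintro e ⟨heS, heN⟩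
  have h1 : e * x * e⁻¹ ∈ Subgroup.zpowers x :=
    (Subgroup.mem_normalizer_iff.mp heN x).mp (Subgroup.mem_zpowers x)
  have h2 : e * x * e⁻¹ * x⁻¹ ∈ Subgroup.zpowers x :=
    mul_mem h1 (inv_mem (Subgroup.mem_zpowers x))
  have h3 : e * x * e⁻¹ * x⁻¹ ∈ S := by
    have h4 : x * e⁻¹ * x⁻¹ ∈ S := hSn.conj_mem _ (inv_mem heS) x
    have h5 : e * x * e⁻¹ * x⁻¹ = e * (x * e⁻¹ * x⁻¹) := by group
    rw [h5]
    exact mul_mem heS h4
  have h6 := Cfsg.Agent.S4496.mem_inf_eq_one hp hx S hS h2 h3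
  have hcomm : x * e = e * x := by
    calc x * e = (e * x * e⁻¹ * x⁻¹)⁻¹ * (e * x) := by group
      _ = e * x := by rw [h6]; simp
  exact Subgroup.mem_bot.2 (Cfsg.Agent.S4496.mem_inf_eq_one hp hx S hS
    (Cfsg.Agent.S4496.mem_zpowers_of_comm hC hcomm) heS)

omit [Finite G] in
theorem card_sup_of_inf_eq_bot (H S : Subgroup G) [S.Normal] (h : S ⊓ H = ⊥) :
    Nat.card (H ⊔ S : Subgroup G) = Nat.card S * Nat.card H := by
  have h1 := Subgroup.relIndex_mul_relIndex (H := ⊥) (K := S) (L := H ⊔ S) bot_le le_sup_right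
  rw [Subgroup.relIndex_bot_left, Subgroup.relIndex_bot_left, Subgroup.relIndex_sup_right,
    ← Subgroup.inf_relIndex_right, h, Subgroup.relIndex_bot_left] at h1
  exact h1.symm

theorem sc_part2 {p : ℕ} (hp : p.Prime) {x : G} (hx : orderOf x = p)
    (hC : Subgroup.centralizer ({x} : Set G) = Subgroup.zpowers x)
    (hN : Subgroup.normalizer ((Subgroup.zpowers x : Subgroup G) : Set G) ≤
      Subgroup.zpowers x) :
    Nat.card (commutator G) = Nat.card {H : Subgroup G // Nat.card H = p} ∧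
      IsCyclic (G ⧸ commutator G) ∧ (commutator G).index = p := by
  obtain ⟨hidx, hDp⟩ := sc_burnside hp hx hC hN
  have h1 := sc_card_subgroups hp hx hC
  have h2 := (Subgroup.normalizer ((Subgroup.zpowers x : Subgroup G) : Set G)).index_mul_card
  have h3 := (commutator G).card_mul_index
  have hNcard : Nat.card (Subgroup.normalizer ((Subgroup.zpowers x : Subgroup G) : Set G)) =
      p := by
    have h4 : Subgroup.normalizer ((Subgroup.zpowers x : Subgroup G) : Set G) =
        Subgroup.zpowers x := le_antisymm hN Subgroup.le_normalizer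
    rw [h4, Nat.card_zpowers, hx]
  rw [hidx] at h3
  rw [hNcard, ← h1] at h2
  refine ⟨?_, ?_, hidx⟩
  · exact Nat.eq_of_mul_eq_mul_right hp.pos (h3.trans h2.symm)
  · haveI := Fact.mk hp
    apply isCyclic_of_prime_card (p := p)
    rw [← Subgroup.index_eq_card, hidx]

theorem sc_part3 {p : ℕ} (hp : p.Prime) {x : G} (hx : orderOf x = p)
    (hC : Subgroup.centralizer ({x} : Set G) = Subgroup.zpowers x) (hxD : x ∈ commutator G)
    (hne : derivedSeries G 2 ≠ derivedSeries G 1) :
    Nat.card (derivedSeries G 2) = Nat.card {H : Subgroup G // Nat.card H = p} ∧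
      Nat.card (commutator G) = p * Nat.card {H : Subgroup G // Nat.card H = p} := by
  haveI hEn : (derivedSeries G 2).Normal := derivedSeries_normal G 2
  have hE : derivedSeries G 2 = ⁅commutator G, commutator G⁆ := by
    rw [derivedSeries_succ, derivedSeries_one]
  have hED : derivedSeries G 2 ≤ commutator G := by
    rw [hE]
    exact Subgroup.commutator_le_left _ _
  have hEp : ¬ p ∣ Nat.card (derivedSeries G 2) := by
    intro h
    apply hne
    rw [derivedSeries_one]
    exact le_antisymm hED (Cfsg.Agent.S4496.part_a hp hx hC _ h)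
  have hall : ∀ g : G, g * x * g⁻¹ ∈ (Subgroup.zpowers x ⊔ derivedSeries G 2 : Subgroup G) := by
    intro g
    obtain ⟨d, hd, z, hz, hdz⟩ := sc_conj_decomp hp hx hC (commutator G) hxD g
    rw [hdz]
    have h1 : d * z * d⁻¹ = ⁅d, z⁆ * z := by
      rw [commutatorElement_def]
      group
    rw [h1]
    apply mul_mem
    · apply (le_sup_right : derivedSeries G 2 ≤ _)
      rw [hE]
      exact Subgroup.commutator_mem_commutator hd (Subgroup.zpowers_le.2 hxD hz)
    · exact (le_sup_left : Subgroup.zpowers x ≤ _) hz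
  have hD1 := sc_commutator_le_of_conj hp hx hC _ hall
  have hD2 : (Subgroup.zpowers x ⊔ derivedSeries G 2 : Subgroup G) ≤ commutator G :=
    sup_le (Subgroup.zpowers_le.2 hxD) hED
  have hDeq : commutator G = Subgroup.zpowers x ⊔ derivedSeries G 2 := le_antisymm hD1 hD2
  have hinf : derivedSeries G 2 ⊓ Subgroup.zpowers x = ⊥ := by
    rw [inf_comm]
    exact Cfsg.Agent.S4496.inf_eq_bot hp hx _ hEp
  have hDcard : Nat.card (commutator G) = Nat.card (derivedSeries G 2) * p := by
    rw [hDeq, card_sup_of_inf_eq_bot _ _ hinf, Nat.card_zpowers, hx]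
  have hDN : commutator G ⊓ Subgroup.normalizer ((Subgroup.zpowers x : Subgroup G) : Set G) =
      Subgroup.zpowers x := by
    apply le_antisymm
    · rintro a ⟨haD, haN⟩
      have haD' : a ∈ ((Subgroup.zpowers x ⊔ derivedSeries G 2 : Subgroup G) : Set G) := by
        rw [← hDeq]
        exact haD
      rw [Subgroup.mul_normal] at haD'
      obtain ⟨z, hz, e, he, rfl⟩ := Set.mem_mul.mp haD'
      have heN : e ∈ Subgroup.normalizer ((Subgroup.zpowers x : Subgroup G) : Set G) := by
        have h1 : e = z⁻¹ * (z * e) := by group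
        rw [h1]
        exact mul_mem (inv_mem (Subgroup.le_normalizer hz)) haN
      have h2 : e ∈ derivedSeries G 2 ⊓
          Subgroup.normalizer ((Subgroup.zpowers x : Subgroup G) : Set G) := ⟨he, heN⟩
      rw [sc_normalizer_inf hp hx hC _ hEp, Subgroup.mem_bot] at h2
      rw [h2, mul_one]
      exact hz
    · exact le_inf (Subgroup.zpowers_le.2 hxD) Subgroup.le_normalizer
  have hfr := sc_frattini hp hx hC (commutator G) hxD
  have hidx : (commutator G).index = (Subgroup.zpowers x).relIndex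
      (Subgroup.normalizer ((Subgroup.zpowers x : Subgroup G) : Set G)) := by
    rw [← Subgroup.relIndex_top_right, ← hfr, Subgroup.relIndex_sup_right,
      ← Subgroup.inf_relIndex_right, hDN]
  have h1 := sc_card_subgroups hp hx hC
  have h2 := (Subgroup.normalizer ((Subgroup.zpowers x : Subgroup G) : Set G)).index_mul_card
  have h3 := (commutator G).card_mul_index
  have h4 := sc_relIndex (G := G) hx
  rw [← h1, ← h4] at h2
  rw [hDcard, hidx] at h3
  have hr0 : 0 < p * (Subgroup.zpowers x).relIndex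
      (Subgroup.normalizer ((Subgroup.zpowers x : Subgroup G) : Set G)) := by
    rw [h4]
    exact Nat.card_pos
  have hEcard : Nat.card (derivedSeries G 2) =
      Nat.card {H : Subgroup G // Nat.card H = p} := by
    have h5 : Nat.card (derivedSeries G 2) * (p * (Subgroup.zpowers x).relIndex
        (Subgroup.normalizer ((Subgroup.zpowers x : Subgroup G) : Set G))) =
        Nat.card {H : Subgroup G // Nat.card H = p} * (p * (Subgroup.zpowers x).relIndex
        (Subgroup.normalizer ((Subgroup.zpowers x : Subgroup G) : Set G))) := by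
      rw [h2, ← h3]
      ring
    exact Nat.eq_of_mul_eq_mul_right hr0 h5
  exact ⟨hEcard, by rw [hDcard, hEcard, mul_comm]⟩

theorem sc_part1 {p : ℕ} (hp : p.Prime) {x : G} (hx : orderOf x = p)
    (hC : Subgroup.centralizer ({x} : Set G) = Subgroup.zpowers x) (hxD : x ∈ commutator G)
    (S₀ : Subgroup G) [hS₀n : S₀.Normal]
    (hS₀ : Nat.card S₀ = Nat.card {H : Subgroup G // Nat.card H = p})
    (hS₀p : ¬ p ∣ Nat.card S₀) : derivedSeries G 2 ≠ derivedSeries G 1 := by
  have hinf := sc_normalizer_inf hp hx hC S₀ hS₀p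
  have htop : Subgroup.normalizer ((Subgroup.zpowers x : Subgroup G) : Set G) ⊔ S₀ = ⊤ := by
    rw [← Subgroup.card_eq_iff_eq_top, card_sup_of_inf_eq_bot _ _ hinf, hS₀,
      sc_card_subgroups hp hx hC]
    exact Subgroup.index_mul_card _
  have hall : ∀ g : G, g * x * g⁻¹ ∈ (Subgroup.zpowers x ⊔ S₀ : Subgroup G) := by
    intro g
    have hg : g ∈ ((S₀ ⊔ Subgroup.normalizer ((Subgroup.zpowers x : Subgroup G) : Set G) :
        Subgroup G) : Set G) := by
      rw [sup_comm, htop]
      trivial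
    rw [Subgroup.normal_mul] at hg
    obtain ⟨s', hs', n, hn, rfl⟩ := Set.mem_mul.mp hg
    have hz : n * x * n⁻¹ ∈ Subgroup.zpowers x :=
      (Subgroup.mem_normalizer_iff.mp hn x).mp (Subgroup.mem_zpowers x)
    have h1 : s' * n * x * (s' * n)⁻¹ = ⁅s', n * x * n⁻¹⁆ * (n * x * n⁻¹) := by
      rw [commutatorElement_def]
      group
    rw [h1]
    apply mul_mem
    · apply (le_sup_right : S₀ ≤ _)
      rw [commutatorElement_def]
      have h2 : (n * x * n⁻¹) * s'⁻¹ * (n * x * n⁻¹)⁻¹ ∈ S₀ :=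
        hS₀n.conj_mem _ (inv_mem hs') _
      have h3 : s' * (n * x * n⁻¹) * s'⁻¹ * (n * x * n⁻¹)⁻¹ =
          s' * ((n * x * n⁻¹) * s'⁻¹ * (n * x * n⁻¹)⁻¹) := by group
      rw [h3]
      exact mul_mem hs' h2
    · exact (le_sup_left : Subgroup.zpowers x ≤ _) hz
  have hD1 := sc_commutator_le_of_conj hp hx hC _ hall
  have hE : derivedSeries G 2 ≤ S₀ := by
    rw [derivedSeries_succ, derivedSeries_one, Subgroup.commutator_le]
    intro a ha b hb
    have ha' : a ∈ ((Subgroup.zpowers x ⊔ S₀ : Subgroup G) : Set G) := hD1 ha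
    have hb' : b ∈ ((Subgroup.zpowers x ⊔ S₀ : Subgroup G) : Set G) := hD1 hb
    rw [Subgroup.mul_normal] at ha' hb'
    obtain ⟨z₁, hz₁, s₁, hs₁, rfl⟩ := Set.mem_mul.mp ha'
    obtain ⟨z₂, hz₂, s₂, hs₂, rfl⟩ := Set.mem_mul.mp hb'
    rw [← QuotientGroup.eq_one_iff]
    have e1 : ((z₁ * s₁ : G) : G ⧸ S₀) = (z₁ : G ⧸ S₀) := by
      rw [QuotientGroup.mk_mul, (QuotientGroup.eq_one_iff s₁).2 hs₁, mul_one]
    have e2 : ((z₂ * s₂ : G) : G ⧸ S₀) = (z₂ : G ⧸ S₀) := by
      rw [QuotientGroup.mk_mul, (QuotientGroup.eq_one_iff s₂).2 hs₂, mul_one]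
    have e3 : ((⁅z₁ * s₁, z₂ * s₂⁆ : G) : G ⧸ S₀) =
        ⁅((z₁ * s₁ : G) : G ⧸ S₀), ((z₂ * s₂ : G) : G ⧸ S₀)⁆ := by
      simp [commutatorElement_def]
    rw [e3, e1, e2, commutatorElement_eq_one_iff_mul_comm, ← QuotientGroup.mk_mul,
      ← QuotientGroup.mk_mul]
    congr 1
    obtain ⟨i, rfl⟩ := Subgroup.mem_zpowers_iff.1 hz₁
    obtain ⟨j, rfl⟩ := Subgroup.mem_zpowers_iff.1 hz₂
    exact ((Commute.refl x).zpow_zpow i j).eq
  intro heq
  rw [derivedSeries_one] at heq
  have hxS : x ∈ S₀ := hE (by rw [heq]; exact hxD)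
  have h1 := Subgroup.card_dvd_of_le (Subgroup.zpowers_le.2 hxS)
  rw [Nat.card_zpowers, hx] at h1
  exact hS₀p h1

end Cfsg.Agent.Lib.Helper21
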