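import Mathlib
import Cfsg.Agent.Lib.Helper1.Hall
import Cfsg.Agent.Lib.Helper5.MinNormal
import Cfsg.Agent.Lib.Helper21.Basic
import Cfsg.Agent.Lib.Helper21.CoprimeHall
import Cfsg.Agent.Lib.Helper21.FrobSolv
import Cfsg.Agent.Lib.Helper21.SelfCent3
import Cfsg.Agent.Lib.Helper21.Subnormal

/-!
The number of Hall subgroups of a finite solvable group (P. Hall 1928): it is a product of
prime powers, each dividing a chief factor and congruent to `1` modulo a prime divisor of the
Hall order.
-/

set_option autoImplicit false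

namespace Cfsg.Agent.Lib.Helper21

open Pointwise

universe u

section HallCount

variable {G : Type*} [Group G]

/-- A normal maximal subgroup has prime index. -/
theorem index_prime_of_normal_coatom [Finite G] {M : Subgroup G} [M.Normal] (hM : IsCoatom M) :
    M.index.Prime := by
  have hne : Nat.card (G ⧸ M) ≠ 1 := by
    intro h
    have h1 : M.index = 1 := h
    exact hM.1 (Subgroup.index_eq_one.1 h1)
  obtain ⟨p, hp, hpd⟩ := Nat.exists_prime_and_dvd hne
  haveI := Fact.mk hp
  obtain ⟨x, hx⟩ := exists_prime_orderOf_dvd_card' p hpd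
  have hx1 : x ≠ 1 := by
    rintro rfl
    rw [orderOf_one] at hx
    exact hp.one_lt.ne hx
  have hlt : M < (Subgroup.zpowers x).comap (QuotientGroup.mk' M) := by
    refine lt_of_le_of_ne ?_ ?_
    · intro m hm
      rw [Subgroup.mem_comap, QuotientGroup.mk'_apply, (QuotientGroup.eq_one_iff m).2 hm]
      exact Subgroup.one_mem _
    · intro h
      obtain ⟨g, hg⟩ := QuotientGroup.mk'_surjective M x
      have h1 : g ∈ (Subgroup.zpowers x).comap (QuotientGroup.mk' M) := by
        rw [Subgroup.mem_comap, hg]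
        exact Subgroup.mem_zpowers _
      rw [← h] at h1
      apply hx1
      rw [← hg, QuotientGroup.mk'_apply]
      exact (QuotientGroup.eq_one_iff g).2 h1
  have htop := hM.2 _ hlt
  have hz : Subgroup.zpowers x = ⊤ := by
    rw [eq_top_iff]
    intro y _
    obtain ⟨g, rfl⟩ := QuotientGroup.mk'_surjective M y
    have h1 : g ∈ (Subgroup.zpowers x).comap (QuotientGroup.mk' M) := by
      rw [htop]; exact Subgroup.mem_top g
    exact Subgroup.mem_comap.1 h1
  have hcard : Nat.card (G ⧸ M) = p := by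
    rw [← Subgroup.card_top (G := G ⧸ M), ← hz, Nat.card_zpowers, hx]
  rw [Subgroup.index_eq_card, hcard]
  exact hp

/-- A nontrivial finite solvable group has a normal subgroup of prime index. -/
theorem exists_normal_index_prime [Finite G] [Group.IsSolvable G] [Nontrivial G] :
    ∃ M : Subgroup G, M.Normal ∧ M.index.Prime := by
  have hlt : commutator G < ⊤ := Group.IsSolvable.commutator_lt_top_of_nontrivial G
  obtain ⟨M, hM, hle⟩ := (eq_top_or_exists_le_coatom (commutator G)).resolve_left hlt.ne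
  haveI : M.Normal := by
    refine ⟨fun m hm g => ?_⟩
    have h1 : g * m * g⁻¹ * m⁻¹ ∈ commutator G := by
      rw [commutator_def]
      exact Subgroup.commutator_mem_commutator (Subgroup.mem_top g) (Subgroup.mem_top m)
    have h2 := M.mul_mem (hle h1) hm
    simpa using h2
  exact ⟨M, inferInstance, index_prime_of_normal_coatom hM⟩

/-- One step of a coprime action: if `H₁` is normal of prime index `p` in `H₂`, then the index
of `C_N(H₂)` in `C_N(H₁)` is congruent to `1` modulo `p`. -/
theorem relIndex_centralizer_modEq [Finite G] (N : Subgroup G) [hNn : N.Normal] {p : ℕ}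
    [hp : Fact p.Prime] (hN : (Nat.card N).Coprime p) {H₁ H₂ : Subgroup G} (h12 : H₁ ≤ H₂)
    (hnorm : H₂ ≤ Subgroup.normalizer (H₁ : Set G)) (hidx : H₁.relIndex H₂ = p) :
    (N ⊓ Subgroup.centralizer (H₂ : Set G)).relIndex (N ⊓ Subgroup.centralizer (H₁ : Set G))
      ≡ 1 [MOD p] := by
  classical
  obtain ⟨U₁, hU₁⟩ : ∃ U : Subgroup G, U = N ⊓ Subgroup.centralizer (H₁ : Set G) := ⟨_, rfl⟩
  obtain ⟨U₂, hU₂⟩ : ∃ U : Subgroup G, U = N ⊓ Subgroup.centralizer (H₂ : Set G) := ⟨_, rfl⟩
  rw [← hU₁, ← hU₂]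
  have hU21 : U₂ ≤ U₁ := by
    rw [hU₁, hU₂]
    exact inf_le_inf_left N (Subgroup.centralizer_le (SetLike.coe_subset_coe.2 h12))
  haveI hnsub : (H₁.subgroupOf H₂).Normal := Subgroup.normal_subgroupOf_of_le_normalizer hnorm
  have hpow : ∀ x ∈ H₂, x ^ p ∈ H₁ := by
    intro x hx
    have h0 := Subgroup.pow_relIndex_mem (H₁.subgroupOf H₂) (K := ⊤) (g := (⟨x, hx⟩ : ↥H₂))
      (Subgroup.mem_top _)
    rw [Subgroup.relIndex_top_right] at h0
    have h1 : (H₁.subgroupOf H₂).index = p := hidx
    rw [h1] at h0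
    exact Subgroup.mem_subgroupOf.1 h0
  obtain ⟨x₀, hx₀2, hx₀1⟩ : ∃ x ∈ H₂, x ∉ H₁ := by
    by_contra hcon
    have hle : H₂ ≤ H₁ := by
      intro x hx
      by_contra hx1
      exact hcon ⟨x, hx, hx1⟩
    have h1 : H₁.relIndex H₂ = 1 := Subgroup.relIndex_eq_one.2 hle
    rw [hidx] at h1
    exact hp.out.one_lt.ne' h1
  obtain ⟨a, m', hm', hord⟩ :=
    Nat.exists_eq_pow_mul_and_not_dvd (orderOf_pos x₀).ne' p hp.out.ne_one
  obtain ⟨h, hh⟩ : ∃ h : G, h = x₀ ^ m' := ⟨_, rfl⟩
  have hh2 : h ∈ H₂ := hh ▸ H₂.pow_mem hx₀2 _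
  have hhp : h ^ p ^ a = 1 := by rw [hh, ← pow_mul', ← hord, pow_orderOf_eq_one]
  have hh1 : h ∉ H₁ := by
    intro h0
    have hcop : Nat.Coprime m' p := ((Nat.Prime.coprime_iff_not_dvd hp.out).2 hm').symm
    have h3 : x₀ ^ (Nat.gcd m' p : ℤ) ∈ H₁ := by
      rw [Nat.gcd_eq_gcd_ab, zpow_add, zpow_mul, zpow_mul, zpow_natCast, zpow_natCast]
      exact H₁.mul_mem (H₁.zpow_mem (hh ▸ h0) _) (H₁.zpow_mem (hpow x₀ hx₀2) _)
    rw [hcop.gcd_eq_one, Nat.cast_one, zpow_one] at h3
    exact hx₀1 h3
  have hconjU : ∀ z ∈ H₂, ∀ u ∈ U₁, z * u * z⁻¹ ∈ U₁ := by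
    intro z hz u hu
    rw [hU₁] at hu ⊢
    refine Subgroup.mem_inf.2 ⟨hNn.conj_mem u hu.1 z, ?_⟩
    rw [Subgroup.mem_centralizer_iff]
    intro x hx
    have hx' : z⁻¹ * x * z ∈ H₁ := by
      have h0 := (Subgroup.mem_normalizer_iff.1 (hnorm (H₂.inv_mem hz)) x).1 hx
      simpa using h0
    have hc := Subgroup.mem_centralizer_iff.1 hu.2 _ hx'
    calc x * (z * u * z⁻¹) = z * ((z⁻¹ * x * z) * u) * z⁻¹ := by group
      _ = z * (u * (z⁻¹ * x * z)) * z⁻¹ := by rw [hc]
      _ = z * u * z⁻¹ * x := by group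
  obtain ⟨Z, hZ⟩ : ∃ Z : Subgroup G, Z = Subgroup.zpowers h := ⟨_, rfl⟩
  have hhZ : h ∈ Z := hZ ▸ Subgroup.mem_zpowers h
  have hZ2 : Z ≤ H₂ := hZ ▸ Subgroup.zpowers_le.2 hh2
  have hZp : IsPGroup p Z := by
    rw [hZ]
    obtain ⟨j, -, hj⟩ := (Nat.dvd_prime_pow hp.out).1 (orderOf_dvd_of_pow_eq_one hhp)
    exact IsPGroup.of_card (n := j) (by rw [Nat.card_zpowers, hj])
  -- fixed points
  have hF1 : ∀ u ∈ U₁, h * u * h⁻¹ = u → u ∈ U₂ := by
    intro u hu hfix
    have hhu : u * h = h * u := by
      calc u * h = (h * u * h⁻¹) * h := by rw [hfix]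
        _ = h * u := by group
    obtain ⟨D, hD⟩ : ∃ D : Subgroup G, D = H₂ ⊓ Subgroup.centralizer ({u} : Set G) := ⟨_, rfl⟩
    have hmemD : ∀ x : G, x ∈ D ↔ x ∈ H₂ ∧ u * x = x * u := by
      intro x
      rw [hD, Subgroup.mem_inf, Subgroup.mem_centralizer_iff]
      constructor
      · rintro ⟨h1, h2⟩
        exact ⟨h1, h2 u (Set.mem_singleton u)⟩
      · rintro ⟨h1, h2⟩
        refine ⟨h1, fun y hy => ?_⟩
        rw [Set.mem_singleton_iff] at hy
        rw [hy]; exact h2
    have h1D : H₁ ≤ D := by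
      intro x hx
      rw [hmemD]
      rw [hU₁] at hu
      exact ⟨h12 hx, (Subgroup.mem_centralizer_iff.1 hu.2 x hx).symm⟩
    have hD2 : D ≤ H₂ := hD ▸ inf_le_left
    have hhD : h ∈ D := (hmemD h).2 ⟨hh2, hhu⟩
    have hmul := Subgroup.relIndex_mul_relIndex H₁ D H₂ h1D hD2
    rw [hidx] at hmul
    have hdvd : H₁.relIndex D ∣ p := Dvd.intro _ hmul
    rcases (Nat.dvd_prime hp.out).1 hdvd with h1 | h1
    · exfalso
      exact hh1 (Subgroup.relIndex_eq_one.1 h1 hhD)
    · rw [h1] at hmul
      have h2 : D.relIndex H₂ = 1 := by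
        have h3 : p * D.relIndex H₂ = p * 1 := by rw [hmul, mul_one]
        exact Nat.eq_of_mul_eq_mul_left hp.out.pos h3
      have h4 : H₂ ≤ D := Subgroup.relIndex_eq_one.1 h2
      rw [hU₂]
      rw [hU₁] at hu
      refine Subgroup.mem_inf.2 ⟨hu.1, ?_⟩
      rw [Subgroup.mem_centralizer_iff]
      intro x hx
      exact (((hmemD x).1 (h4 hx)).2).symm
  have hF2 : ∀ u ∈ U₂, ∀ z ∈ H₂, z * u * z⁻¹ = u := by
    intro u hu z hz
    rw [hU₂] at hu
    have hc := Subgroup.mem_centralizer_iff.1 hu.2 z hz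
    rw [hc]; group
  letI act : MulAction ↥Z ↥U₁ :=
    { smul := fun z u => ⟨(z : G) * (u : G) * (z : G)⁻¹, hconjU z (hZ2 z.2) u u.2⟩
      one_smul := fun u => Subtype.ext (by
        show ((1 : ↥Z) : G) * (u : G) * ((1 : ↥Z) : G)⁻¹ = u
        simp)
      mul_smul := fun z w u => Subtype.ext (by
        show ((z * w : ↥Z) : G) * (u : G) * ((z * w : ↥Z) : G)⁻¹ =
          (z : G) * ((w : G) * (u : G) * (w : G)⁻¹) * (z : G)⁻¹
        simp [mul_assoc]) }
  have hsmul : ∀ (z : ↥Z) (u : ↥U₁), ((z • u : ↥U₁) : G) = (z : G) * (u : G) * (z : G)⁻¹ :=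
    fun z u => rfl
  have hmod := hZp.card_modEq_card_fixedPoints ↥U₁
  have hfix : Nat.card (MulAction.fixedPoints ↥Z ↥U₁) = Nat.card U₂ := by
    refine Nat.card_congr ⟨fun x => ⟨(x.1 : G), hF1 _ x.1.2 ?_⟩,
      fun w => ⟨⟨w.1, hU21 w.2⟩, fun z => Subtype.ext ?_⟩, fun x => rfl, fun w => rfl⟩
    · have h0 := congrArg Subtype.val (x.2 ⟨h, hhZ⟩)
      rw [hsmul] at h0
      exact h0
    · rw [hsmul]
      exact hF2 w.1 w.2 z (hZ2 z.2)
  rw [hfix] at hmod
  have hcard := card_mul_relIndex hU21
  rw [← hcard] at hmod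
  have hcop : Nat.Coprime (Nat.card U₂) p :=
    Nat.Coprime.coprime_dvd_left (Subgroup.card_dvd_of_le (hU₂ ▸ inf_le_left)) hN
  have h1 : Nat.card U₂ * U₂.relIndex U₁ ≡ Nat.card U₂ * 1 [MOD p] := by rwa [mul_one]
  exact Nat.ModEq.cancel_left_of_coprime (by rw [Nat.gcd_comm]; exact hcop) h1

/-- Coprime action of a solvable group `H` on a normal subgroup `N`: the index of `C_N(H)` in
`N` is a product of divisors of `|N|`, each congruent to `1` modulo a prime divisor of `|H|`. -/
theorem relIndex_centralizer_prod [Finite G] [Group.IsSolvable G] (N : Subgroup G) [N.Normal] :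
    ∀ (k : ℕ) (H : Subgroup G), Nat.card H ≤ k → (Nat.card N).Coprime (Nat.card H) →
      ∃ l : List ℕ, (N ⊓ Subgroup.centralizer (H : Set G)).relIndex N = l.prod ∧
        ∀ f ∈ l, f ∣ Nat.card N ∧ ∃ p : ℕ, p.Prime ∧ p ∣ Nat.card H ∧ f ≡ 1 [MOD p] := by
  intro k
  induction k with
  | zero =>
    intro H hk
    have := Nat.card_pos (α := H)
    omega
  | succ k ih =>
    intro H hk hcop
    by_cases hH : H = ⊥
    · subst hH
      refine ⟨[], ?_, by simp⟩
      have h0 : Subgroup.centralizer ((⊥ : Subgroup G) : Set G) = ⊤ := by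
        rw [Subgroup.centralizer_eq_top_iff_subset]
        intro x hx
        rw [SetLike.mem_coe, Subgroup.mem_bot] at hx
        rw [hx]
        exact Subgroup.one_mem _
      rw [h0, inf_top_eq, Subgroup.relIndex_self, List.prod_nil]
    · haveI : Nontrivial ↥H := (Subgroup.nontrivial_iff_ne_bot H).2 hH
      obtain ⟨M, hMn, hMp⟩ := exists_normal_index_prime (G := ↥H)
      obtain ⟨H₁, hH₁⟩ : ∃ H₁ : Subgroup G, H₁ = M.map H.subtype := ⟨_, rfl⟩
      have h12 : H₁ ≤ H := hH₁ ▸ Subgroup.map_subtype_le M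
      have hsub : H₁.subgroupOf H = M := by
        rw [hH₁]
        exact Subgroup.comap_map_eq_self_of_injective H.subtype_injective M
      have hidx : H₁.relIndex H = M.index := by
        rw [Subgroup.relIndex, hsub]
      have hnorm : H ≤ Subgroup.normalizer (H₁ : Set G) :=
        (Subgroup.normal_subgroupOf_iff_le_normalizer h12).1 (hsub ▸ hMn)
      have hcard1 := card_mul_relIndex h12
      rw [hidx] at hcard1
      have hpdvd : M.index ∣ Nat.card H := Dvd.intro_left _ hcard1
      have h1lt : Nat.card H₁ ≤ k := by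
        have h2 := hMp.two_le
        have hpos : 0 < Nat.card H₁ := Nat.card_pos
        nlinarith
      have hcop1 : (Nat.card N).Coprime (Nat.card H₁) :=
        Nat.Coprime.coprime_dvd_right (Subgroup.card_dvd_of_le h12) hcop
      obtain ⟨l₁, hl₁, hl₁P⟩ := ih H₁ h1lt hcop1
      haveI := Fact.mk hMp
      have hA := relIndex_centralizer_modEq N (p := M.index)
        (Nat.Coprime.coprime_dvd_right hpdvd hcop) h12 hnorm hidx
      have hU21 : N ⊓ Subgroup.centralizer (H : Set G) ≤ N ⊓ Subgroup.centralizer (H₁ : Set G) :=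
        inf_le_inf_left N (Subgroup.centralizer_le (SetLike.coe_subset_coe.2 h12))
      have hmul := Subgroup.relIndex_mul_relIndex (N ⊓ Subgroup.centralizer (H : Set G))
        (N ⊓ Subgroup.centralizer (H₁ : Set G)) N hU21 inf_le_left
      refine ⟨(N ⊓ Subgroup.centralizer (H : Set G)).relIndex
        (N ⊓ Subgroup.centralizer (H₁ : Set G)) :: l₁, ?_, ?_⟩
      · rw [List.prod_cons, ← hl₁, hmul]
      · intro f hf
        rcases List.mem_cons.1 hf with hf | hf
        · rw [hf]
          refine ⟨?_, M.index, hMp, hpdvd, hA⟩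
          exact dvd_trans (Subgroup.relIndex_dvd_card _ _) (Subgroup.card_dvd_of_le inf_le_left)
        · obtain ⟨hfd, p, hp, hpH, hmod⟩ := hl₁P f hf
          exact ⟨hfd, p, hp, dvd_trans hpH (Subgroup.card_dvd_of_le h12), hmod⟩

/-- If all subgroups of order `m` are conjugate to `H`, their number is `|G : N_G(H)|`. -/
theorem card_subgroups_eq_index_normalizer [Finite G] (H : Subgroup G) (m : ℕ)
    (hH : Nat.card H = m)
    (hconj : ∀ K : Subgroup G, Nat.card K = m → ∃ g : G, MulAut.conj g • H = K) :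
    Nat.card {K : Subgroup G // Nat.card K = m} = (Subgroup.normalizer (H : Set G)).index := by
  letI act : MulAction G (Subgroup G) :=
    MulAction.compHom (Subgroup G) (MulAut.conj : G →* MulAut G)
  have hsmul : ∀ (g : G) (K : Subgroup G), g • K = MulAut.conj g • K := fun g K => rfl
  have hstab : MulAction.stabilizer G H = Subgroup.normalizer (H : Set G) := by
    ext g
    rw [MulAction.mem_stabilizer_iff, hsmul, ← map_conj_eq_smul, ← mem_normalizer_iff_map]
  have horb : {K : Subgroup G | Nat.card K = m} = MulAction.orbit G H := by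
    ext K
    constructor
    · intro hK
      obtain ⟨g, hg⟩ := hconj K hK
      exact ⟨g, hg⟩
    · rintro ⟨g, rfl⟩
      show Nat.card ↥(g • H) = m
      rw [hsmul, ← map_conj_eq_smul, card_map_conj, hH]
  rw [← hstab, MulAction.index_stabilizer, ← horb]
  exact Nat.card_coe_set_eq _

/-- Chief factors of a quotient pull back to chief factors. -/
theorem chief_comap (N : Subgroup G) [N.Normal] (Kb Lb : Subgroup (G ⧸ N)) (hK : Kb.Normal)
    (hL : Lb.Normal) (hKL : Kb < Lb)
    (hmin : ∀ M : Subgroup (G ⧸ N), M.Normal → Kb ≤ M → M ≤ Lb → M = Kb ∨ M = Lb)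
    (f : ℕ) (hf : f ∣ Kb.relIndex Lb) :
    ∃ K L : Subgroup G, K.Normal ∧ L.Normal ∧ K < L ∧
      (∀ M : Subgroup G, M.Normal → K ≤ M → M ≤ L → M = K ∨ M = L) ∧ f ∣ K.relIndex L := by
  have hsurj := QuotientGroup.mk'_surjective N
  refine ⟨Kb.comap (QuotientGroup.mk' N), Lb.comap (QuotientGroup.mk' N), hK.comap _,
    hL.comap _, ?_, ?_, ?_⟩
  · exact (Subgroup.comap_lt_comap_of_surjective hsurj).2 hKL
  · intro M hM hKM hML
    have hNM : N ≤ M := by
      refine le_trans ?_ hKM
      intro x hx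
      rw [Subgroup.mem_comap, QuotientGroup.mk'_apply, (QuotientGroup.eq_one_iff x).2 hx]
      exact Subgroup.one_mem _
    have hMeq : (M.map (QuotientGroup.mk' N)).comap (QuotientGroup.mk' N) = M := by
      rw [Subgroup.comap_map_eq, QuotientGroup.ker_mk', sup_eq_left.2 hNM]
    have h1 : Kb ≤ M.map (QuotientGroup.mk' N) := by
      rw [← Subgroup.map_comap_eq_self_of_surjective hsurj Kb]
      exact Subgroup.map_mono hKM
    have h2 : M.map (QuotientGroup.mk' N) ≤ Lb := Subgroup.map_le_iff_le_comap.2 hML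
    rcases hmin _ (hM.map (QuotientGroup.mk' N) hsurj) h1 h2 with h | h
    · left; rw [← hMeq, h]
    · right; rw [← hMeq, h]
  · rw [Subgroup.relIndex_comap, Subgroup.map_comap_eq_self_of_surjective hsurj]
    exact hf

end HallCount

/-- P. Hall (1928): the number of Hall subgroups of order `m` of a finite solvable group. -/
theorem hall_count_aux : ∀ (k : ℕ) (G : Type u) [Group G] [Finite G] [Group.IsSolvable G],
    Nat.card G ≤ k → ∀ m n : ℕ, Nat.card G = m * n → m.Coprime n →
    ∃ l : List ℕ, Nat.card {H : Subgroup G // Nat.card H = m} = l.prod ∧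
      ∀ f ∈ l, (∃ q e : ℕ, q.Prime ∧ f = q ^ e) ∧
        (∃ K L : Subgroup G, K.Normal ∧ L.Normal ∧ K < L ∧
          (∀ M : Subgroup G, M.Normal → K ≤ M → M ≤ L → M = K ∨ M = L) ∧ f ∣ K.relIndex L) ∧
        (∃ q : ℕ, q.Prime ∧ q ∣ m ∧ f ≡ 1 [MOD q]) := by
  intro k
  induction k with
  | zero =>
    intro G _ _ _ hk
    have := Nat.card_pos (α := G)
    omega
  | succ k ih =>
    intro G _ _ _ hk m n hG hmn
    have hmpos : 0 < m := by
      apply Nat.pos_of_ne_zero
      rintro rfl
      rw [zero_mul] at hG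
      exact Nat.card_pos.ne' hG
    by_cases hG1 : Nat.card G = 1
    · have hm1 : m = 1 := by
        rw [hG1] at hG
        exact Nat.eq_one_of_mul_eq_one_right hG.symm
      refine ⟨[], ?_, by simp⟩
      rw [List.prod_nil, Nat.card_eq_one_iff_unique]
      obtain ⟨hsub, -⟩ := Nat.card_eq_one_iff_unique.1 hG1
      refine ⟨⟨fun a b => Subtype.ext (Subgroup.ext fun x => ?_)⟩,
        ⟨⟨⊥, by rw [Subgroup.card_bot, hm1]⟩⟩⟩
      have hx : x = 1 := Subsingleton.elim x 1
      rw [hx]
      exact ⟨fun _ => Subgroup.one_mem _, fun _ => Subgroup.one_mem _⟩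
    · have htop : (⊤ : Subgroup G) ≠ ⊥ := by
        intro h
        apply hG1
        rw [← Subgroup.card_top (G := G), h, Subgroup.card_bot]
      obtain ⟨N, hNn, hN1, -, hNmin⟩ :=
        Helper5.exists_minimal_normal (⊤ : Subgroup G) inferInstance htop
      haveI := hNn
      obtain ⟨q, i, hq, hi, hNcard, -⟩ := minimal_normal_exp hN1 hNmin
      have hquot : Nat.card (G ⧸ N) * Nat.card N = Nat.card G :=
        (Subgroup.card_eq_card_quotient_mul_card_subgroup N).symm
      have hNgt : 1 < Nat.card N := (Subgroup.one_lt_card_iff_ne_bot N).2 hN1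
      have hquotle : Nat.card (G ⧸ N) ≤ k := by
        have hpos : 0 < Nat.card (G ⧸ N) := Nat.card_pos
        nlinarith
      have hqpos : 0 < q ^ i := pow_pos hq.pos i
      have hNdvd : q ^ i ∣ m * n := by
        rw [← hG, ← hNcard]
        exact Subgroup.card_subgroup_dvd_card N
      obtain ⟨⟨H, hH⟩, hconjG, -⟩ := Helper1.hall_aux _ G le_rfl m n hG hmn
      by_cases hqm : q ∣ m
      · have hqn : Nat.Coprime (q ^ i) n :=
          Nat.Coprime.pow_left i (Nat.Coprime.coprime_dvd_left hqm hmn)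
        obtain ⟨m', hm'⟩ := hqn.dvd_of_dvd_mul_right hNdvd
        have hGq : Nat.card (G ⧸ N) = m' * n := by
          rw [hG, hNcard, hm'] at hquot
          have h0 : Nat.card (G ⧸ N) * q ^ i = (m' * n) * q ^ i := by rw [hquot]; ring
          exact Nat.eq_of_mul_eq_mul_right hqpos h0
        have hm'n : Nat.Coprime m' n :=
          Nat.Coprime.coprime_dvd_left (Dvd.intro_left _ hm'.symm) hmn
        have hNle : ∀ H : Subgroup G, Nat.card H = m → N ≤ H := by
          intro H hH
          have h1 : Nat.card ↥(H ⊔ N) ∣ m := by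
            have h2 : Nat.card ↥(H ⊔ N) ∣ m * q ^ i := by
              have h3 := card_sup_dvd_of_le_normalizer (A := H) (B := N)
                (by rw [Subgroup.normalizer_eq_top]; exact le_top)
              rwa [hH, hNcard] at h3
            have h4 : Nat.card ↥(H ⊔ N) ∣ m * n := hG ▸ Subgroup.card_subgroup_dvd_card _
            have h5 := Nat.dvd_gcd h2 h4
            rwa [Nat.gcd_mul_left, hqn.gcd_eq_one, mul_one] at h5
          have h6 : H = H ⊔ N :=
            Subgroup.eq_of_le_of_card_ge le_sup_left (by rw [hH]; exact Nat.le_of_dvd hmpos h1)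
          calc N ≤ H ⊔ N := le_sup_right
            _ = H := h6.symm
        have hcardmap : ∀ H : Subgroup G, Nat.card H = m →
            Nat.card (H.map (QuotientGroup.mk' N)) = m' := by
          intro H hH
          have h0 := card_comap_mk N (H.map (QuotientGroup.mk' N))
          rw [Subgroup.comap_map_eq, QuotientGroup.ker_mk', sup_eq_left.2 (hNle H hH), hH,
            hNcard, hm'] at h0
          have h1 : Nat.card (H.map (QuotientGroup.mk' N)) * q ^ i = m' * q ^ i := by
            rw [← h0]; ring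
          exact Nat.eq_of_mul_eq_mul_right hqpos h1
        have hcardcomap : ∀ Hb : Subgroup (G ⧸ N), Nat.card Hb = m' →
            Nat.card (Hb.comap (QuotientGroup.mk' N)) = m := by
          intro Hb hHb
          rw [card_comap_mk, hHb, hNcard, hm', mul_comm]
        have hcount : Nat.card {H : Subgroup G // Nat.card H = m} =
            Nat.card {Hb : Subgroup (G ⧸ N) // Nat.card Hb = m'} := by
          refine Nat.card_congr ⟨fun H => ⟨H.1.map (QuotientGroup.mk' N), hcardmap H.1 H.2⟩,
            fun Hb => ⟨Hb.1.comap (QuotientGroup.mk' N), hcardcomap Hb.1 Hb.2⟩, ?_, ?_⟩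
          · intro H
            apply Subtype.ext
            show (H.1.map (QuotientGroup.mk' N)).comap (QuotientGroup.mk' N) = H.1
            rw [Subgroup.comap_map_eq, QuotientGroup.ker_mk', sup_eq_left.2 (hNle H.1 H.2)]
          · intro Hb
            apply Subtype.ext
            show (Hb.1.comap (QuotientGroup.mk' N)).map (QuotientGroup.mk' N) = Hb.1
            exact Subgroup.map_comap_eq_self_of_surjective (QuotientGroup.mk'_surjective N) _
        obtain ⟨l, hl, hlP⟩ := ih (G ⧸ N) hquotle m' n hGq hm'n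
        refine ⟨l, hcount.trans hl, fun f hf => ?_⟩
        obtain ⟨hP1, ⟨Kb, Lb, hKbn, hLbn, hKL, hmin, hdvd⟩, ⟨q', hq', hq'm, hmod⟩⟩ := hlP f hf
        refine ⟨hP1, chief_comap N Kb Lb hKbn hLbn hKL hmin f hdvd, ⟨q', hq', ?_, hmod⟩⟩
        rw [hm']
        exact Dvd.dvd.mul_left hq'm _
      · have hqm' : Nat.Coprime (q ^ i) m :=
          Nat.Coprime.pow_left i ((Nat.Prime.coprime_iff_not_dvd hq).2 hqm)
        obtain ⟨n', hn'⟩ := hqm'.dvd_of_dvd_mul_left hNdvd
        have hGq : Nat.card (G ⧸ N) = m * n' := by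
          rw [hG, hNcard, hn'] at hquot
          have h0 : Nat.card (G ⧸ N) * q ^ i = (m * n') * q ^ i := by rw [hquot]; ring
          exact Nat.eq_of_mul_eq_mul_right hqpos h0
        have hmn' : Nat.Coprime m n' :=
          Nat.Coprime.coprime_dvd_right (Dvd.intro_left _ hn'.symm) hmn
        obtain ⟨l, hl, hlP⟩ := ih (G ⧸ N) hquotle m n' hGq hmn'
        have hHN : N ⊓ H = ⊥ :=
          (Subgroup.disjoint_of_coprime_natCard (by rw [hNcard, hH]; exact hqm')).eq_bot
        have hHNcard : Nat.card ↥(H ⊔ N) = m * q ^ i := by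
          rw [card_sup_of_inf_eq_bot H N hHN, hNcard, hH, mul_comm]
        have hmapcard : Nat.card (H.map (QuotientGroup.mk' N)) = m := by
          have h0 := card_comap_mk N (H.map (QuotientGroup.mk' N))
          rw [Subgroup.comap_map_eq, QuotientGroup.ker_mk', hHNcard, hNcard] at h0
          exact (Nat.eq_of_mul_eq_mul_right hqpos h0).symm
        obtain ⟨-, hconjQ, -⟩ := Helper1.hall_aux _ (G ⧸ N) le_rfl m n' hGq hmn'
        have hc1 := card_subgroups_eq_index_normalizer H m hH (fun K hK => hconjG H K hH hK)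
        have hc2 := card_subgroups_eq_index_normalizer (H.map (QuotientGroup.mk' N)) m hmapcard
          (fun K hK => hconjQ _ K hmapcard hK)
        have hnorm_comap :
            (Subgroup.normalizer ((H.map (QuotientGroup.mk' N) : Subgroup (G ⧸ N)) :
              Set (G ⧸ N))).comap (QuotientGroup.mk' N) =
            Subgroup.normalizer ((H ⊔ N : Subgroup G) : Set G) := by
          rw [Subgroup.comap_normalizer_eq_of_surjective _ (QuotientGroup.mk'_surjective N),
            Subgroup.comap_map_eq, QuotientGroup.ker_mk']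
        have hidx :
            (Subgroup.normalizer ((H.map (QuotientGroup.mk' N) : Subgroup (G ⧸ N)) :
              Set (G ⧸ N))).index =
            (Subgroup.normalizer ((H ⊔ N : Subgroup G) : Set G)).index := by
          rw [← hnorm_comap, Subgroup.index_comap_of_surjective _ (QuotientGroup.mk'_surjective N)]
        have hle : Subgroup.normalizer (H : Set G) ≤
            Subgroup.normalizer ((H ⊔ N : Subgroup G) : Set G) := by
          intro g hg
          rw [mem_normalizer_iff_map] at hg ⊢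
          have hN' : N.map (MulAut.conj g).toMonoidHom = N :=
            (mem_normalizer_iff_map N g).1
              (by rw [Subgroup.normalizer_eq_top]; exact Subgroup.mem_top g)
          rw [Subgroup.map_sup, hg, hN']
        have hfrat : Subgroup.normalizer ((H ⊔ N : Subgroup G) : Set G) =
            Subgroup.normalizer (H : Set G) ⊔ N := by
          apply le_antisymm
          · intro g hg
            have hgH : H.map (MulAut.conj g).toMonoidHom ≤ H ⊔ N := by
              have h0 := (mem_normalizer_iff_map (H ⊔ N) g).1 hg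
              calc H.map (MulAut.conj g).toMonoidHom
                  ≤ (H ⊔ N).map (MulAut.conj g).toMonoidHom := Subgroup.map_mono le_sup_left
                _ = H ⊔ N := h0
            obtain ⟨x, hx, hxc⟩ := hall_sub_conj (H ⊔ N) m (q ^ i) hHNcard hqm'.symm H
              (H.map (MulAut.conj g).toMonoidHom) le_sup_left hgH hH
              (by rw [card_map_conj, hH])
            have hxg : x⁻¹ * g ∈ Subgroup.normalizer (H : Set G) := by
              rw [mem_normalizer_iff_map, map_conj_mul, ← hxc, ← map_conj_eq_smul,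
                map_conj_map_conj_inv]
            have hx' : x ∈ Subgroup.normalizer (H : Set G) ⊔ N :=
              (sup_le_sup_right Subgroup.le_normalizer N) hx
            have e : g = x * (x⁻¹ * g) := by group
            rw [e]
            exact Subgroup.mul_mem _ hx' (Subgroup.mem_sup_left hxg)
          · exact sup_le hle (le_trans le_sup_right Subgroup.le_normalizer)
        have hNC : Subgroup.normalizer (H : Set G) ⊓ N = N ⊓ Subgroup.centralizer (H : Set G) := by
          apply le_antisymm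
          · rintro x ⟨hx1, hx2⟩
            refine Subgroup.mem_inf.2 ⟨hx2, ?_⟩
            rw [Subgroup.mem_centralizer_iff]
            intro h hh
            have h1 : x * h * x⁻¹ ∈ H := (Subgroup.mem_normalizer_iff.1 hx1 h).1 hh
            have h2 : x * h * x⁻¹ * h⁻¹ ∈ N ⊓ H := by
              refine ⟨?_, H.mul_mem h1 (H.inv_mem hh)⟩
              have h3 : x * (h * x⁻¹ * h⁻¹) ∈ N :=
                N.mul_mem hx2 (hNn.conj_mem _ (N.inv_mem hx2) h)
              have e : x * h * x⁻¹ * h⁻¹ = x * (h * x⁻¹ * h⁻¹) := by group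
              rw [e]
              exact h3
            rw [hHN, Subgroup.mem_bot] at h2
            have e2 : x * h = (x * h * x⁻¹ * h⁻¹) * (h * x) := by group
            rw [e2, h2, one_mul]
          · rintro x ⟨hx1, hx2⟩
            exact ⟨Subgroup.centralizer_le_normalizer _ hx2, hx1⟩
        have hf1 : (Subgroup.normalizer (H : Set G)).relIndex
            (Subgroup.normalizer ((H ⊔ N : Subgroup G) : Set G)) =
            (N ⊓ Subgroup.centralizer (H : Set G)).relIndex N := by
          rw [hfrat, ← relIndex_inf_eq_relIndex_sup, hNC]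
        obtain ⟨l₂, hl₂, hl₂P⟩ := relIndex_centralizer_prod N (Nat.card H) H le_rfl
          (by rw [hNcard, hH]; exact hqm')
        have hcountG : Nat.card {K : Subgroup G // Nat.card K = m} = l₂.prod * l.prod := by
          rw [hc1, ← Subgroup.relIndex_mul_index hle, hf1, hl₂, ← hidx, ← hc2, hl]
        refine ⟨l₂ ++ l, by rw [hcountG, List.prod_append], fun f hf => ?_⟩
        rcases List.mem_append.1 hf with hf | hf
        · obtain ⟨hfd, p, hp, hpH, hmod⟩ := hl₂P f hf
          refine ⟨?_, ⟨⊥, N, inferInstance, hNn, bot_lt_iff_ne_bot.2 hN1,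
            fun M hM _ hMN => hNmin M hM hMN, by rw [Subgroup.relIndex_bot_left]; exact hfd⟩,
            ⟨p, hp, hH ▸ hpH, hmod⟩⟩
          rw [hNcard] at hfd
          obtain ⟨e, -, he⟩ := (Nat.dvd_prime_pow hq).1 hfd
          exact ⟨q, e, hq, he⟩
        · obtain ⟨hP1, ⟨Kb, Lb, hKbn, hLbn, hKL, hmin, hdvd⟩, hP3⟩ := hlP f hf
          exact ⟨hP1, chief_comap N Kb Lb hKbn hLbn hKL hmin f hdvd, hP3⟩

end Cfsg.Agent.Lib.Helper21
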