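import Mathlib
import Cfsg.Agent.Lib.Helper1.Coprime
import Cfsg.Agent.Lib.Helper21.Basic
import Cfsg.Agent.Lib.Helper21.Wielandt

set_option autoImplicit false

namespace Cfsg.Agent.Lib.Helper21

open scoped commutatorElement

section PGroupMore

variable {X : Type*} [Group X]

/-- In a finite `p`-group, a subgroup of order `p^j` lies in a subgroup of order `p^k` for every
`j ≤ k` with `p^k` at most the order of the group. -/
theorem exists_between_card [Finite X] {p : ℕ} [Fact p.Prime] {H P : Subgroup X}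
    (hP : IsPGroup p P) (hHP : H ≤ P) {j k : ℕ} (hH : Nat.card H = p ^ j) (hjk : j ≤ k)
    (hk : p ^ k ≤ Nat.card P) : ∃ E : Subgroup X, H ≤ E ∧ E ≤ P ∧ Nat.card E = p ^ k := by
  have hp : p.Prime := Fact.out
  obtain ⟨n, hn⟩ := IsPGroup.iff_card.mp hP
  have hkn : k ≤ n := by
    rw [hn] at hk
    exact (Nat.pow_le_pow_iff_right hp.one_lt).mp hk
  have hdvd : p ^ k ∣ Nat.card ↥P := by rw [hn]; exact pow_dvd_pow p hkn
  have hc : Nat.card (H.subgroupOf P) = p ^ j := by
    rw [← hH]; exact Nat.card_congr (Subgroup.subgroupOfEquivOfLe hHP).toEquiv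
  obtain ⟨K, hK, hHK⟩ := Sylow.exists_subgroup_card_pow_prime_le p hdvd (H.subgroupOf P) hc hjk
  refine ⟨K.map P.subtype, ?_, Subgroup.map_subtype_le K, ?_⟩
  · intro h hh
    exact ⟨⟨h, hHP hh⟩, hHK (Subgroup.mem_subgroupOf.mpr hh), rfl⟩
  · rw [Subgroup.card_map_of_injective P.subtype_injective, hK]

/-- An element normalizing a cyclic subgroup maps each of its elements to a power of itself. -/
theorem conj_mem_zpowers_of_isCyclic {E : Subgroup X} (hE : IsCyclic E) {a x : X}
    (ha : a ∈ Subgroup.normalizer (E : Set X)) (hx : x ∈ E) :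
    a * x * a⁻¹ ∈ Subgroup.zpowers x := by
  obtain ⟨g, hg⟩ := hE.exists_generator
  have h1 : a * (g : X) * a⁻¹ ∈ E := conj_mem_of_mem_normalizer ha g.2
  obtain ⟨r, hr⟩ := Subgroup.mem_zpowers_iff.mp (hg ⟨a * (g : X) * a⁻¹, h1⟩)
  obtain ⟨s, hs⟩ := Subgroup.mem_zpowers_iff.mp (hg ⟨x, hx⟩)
  have hr' : (g : X) ^ r = a * (g : X) * a⁻¹ := by
    have := congrArg Subtype.val hr
    simpa using this
  have hs' : (g : X) ^ s = x := by
    have := congrArg Subtype.val hs
    simpa using this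
  rw [Subgroup.mem_zpowers_iff]
  refine ⟨r, ?_⟩
  rw [← hs', ← conj_zpow, ← hr', ← zpow_mul, ← zpow_mul, mul_comm]

/-- An element of odd order sending an element `x` with `x^4 = 1` to a power of `x` fixes it. -/
theorem conj_eq_of_mem_zpowers_of_odd {a x : X} (ha : Odd (orderOf a)) (hx : x ^ 4 = 1)
    (h : a * x * a⁻¹ ∈ Subgroup.zpowers x) : a * x * a⁻¹ = x := by
  obtain ⟨j, hj⟩ := Subgroup.mem_zpowers_iff.mp h
  rw [zpow_eq_zpow_emod' j hx] at hj
  have h4 : j % (4 : ℕ) = 0 ∨ j % (4 : ℕ) = 1 ∨ j % (4 : ℕ) = 2 ∨ j % (4 : ℕ) = 3 := by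
    push_cast; omega
  rcases h4 with h0 | h0 | h0 | h0
  · rw [h0, zpow_zero] at hj
    have hx1 : x = 1 := conj_eq_one_iff.mp hj.symm
    rw [hx1]; group
  · rw [h0, zpow_one] at hj
    exact hj.symm
  · rw [h0] at hj
    have hj' : a * x * a⁻¹ = x ^ 2 := by rw [← hj]; norm_cast
    have h2 : a * x ^ 2 * a⁻¹ = 1 := by
      rw [← conj_pow, hj', ← pow_mul]; exact hx
    have h3 : x ^ 2 = 1 := conj_eq_one_iff.mp h2
    rw [h3] at hj'
    have hx1 : x = 1 := conj_eq_one_iff.mp hj'
    rw [hx1]; group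
  · rw [h0] at hj
    have hj' : a * x * a⁻¹ = x⁻¹ := by
      rw [← hj]
      have : x ^ (3 : ℤ) * x = 1 := by
        have : x ^ (3 : ℤ) * x = x ^ 4 := by
          rw [show (3 : ℤ) = ((3 : ℕ) : ℤ) from rfl, zpow_natCast]; exact (pow_succ x 3).symm
        rw [this, hx]
      exact eq_inv_of_mul_eq_one_left this
    have h2 : Commute (a ^ 2) x := by
      have e1 : a * x = x⁻¹ * a := by rw [← hj']; group
      have e2 : a * x⁻¹ = x * a := by
        have : a * x⁻¹ * a⁻¹ = x := by
          have : a * x⁻¹ * a⁻¹ = (a * x * a⁻¹)⁻¹ := by group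
          rw [this, hj', inv_inv]
        calc a * x⁻¹ = (a * x⁻¹ * a⁻¹) * a := by group
          _ = x * a := by rw [this]
      show a ^ 2 * x = x * a ^ 2
      calc a ^ 2 * x = a * (a * x) := by rw [pow_two, mul_assoc]
        _ = a * (x⁻¹ * a) := by rw [e1]
        _ = (a * x⁻¹) * a := by rw [mul_assoc]
        _ = (x * a) * a := by rw [e2]
        _ = x * a ^ 2 := by rw [pow_two, mul_assoc]
    obtain ⟨t, ht⟩ := ha
    have h3 : a ^ (2 * t + 1) = 1 := by rw [← ht]; exact pow_orderOf_eq_one a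
    have h4 : a = ((a ^ 2) ^ t)⁻¹ := by
      rw [pow_succ, pow_mul] at h3
      exact eq_inv_of_mul_eq_one_right h3
    have h5 : Commute a x := by
      rw [h4]; exact (h2.pow_left t).inv_left
    rw [h5.eq]; group

/-- An odd-order element normalizing a `2`-group `F` and every subgroup of index `2` of `F`
centralizes `F`. -/
theorem centralizes_of_normalizes_index_two [Finite X] {F : Subgroup X} (hF : IsPGroup 2 F)
    {a : X} (ha : Odd (orderOf a)) (haF : a ∈ Subgroup.normalizer (F : Set X))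
    (hmax : ∀ M : Subgroup X, M ≤ F → Nat.card M * 2 = Nat.card F →
      a ∈ Subgroup.normalizer (M : Set X)) :
    ∀ x ∈ F, a * x * a⁻¹ = x := by
  classical
  haveI : Fact (Nat.Prime 2) := ⟨Nat.prime_two⟩
  have hAF : Subgroup.zpowers a ≤ Subgroup.normalizer (F : Set X) := Subgroup.zpowers_le.mpr haF
  obtain ⟨n, hn⟩ := IsPGroup.iff_card.mp hF
  have hcop : (Nat.card (Subgroup.zpowers a)).Coprime (Nat.card F) := by
    rw [hn, Nat.card_zpowers]
    exact Nat.Coprime.pow_right n (Nat.coprime_two_right.mpr ha)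
  have hnil : Group.IsNilpotent F := hF.isNilpotent
  have hsup := Helper1.coprime_commutator_sup (Subgroup.zpowers a) F hAF hcop
    (Or.inr IsNilpotent.to_isSolvable)
  have hC : F ⊓ Subgroup.centralizer (Subgroup.zpowers a : Set X) = F := by
    by_contra hne
    have hlt : F ⊓ Subgroup.centralizer (Subgroup.zpowers a : Set X) < F :=
      lt_of_le_of_ne inf_le_left hne
    obtain ⟨j, hj⟩ := IsPGroup.iff_card.mp (hF.to_le hlt.le)
    have hjn : j < n := by
      have := card_lt_card_of_lt hlt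
      rw [hj, hn] at this
      exact (Nat.pow_lt_pow_iff_right (by norm_num)).mp this
    obtain ⟨M, hCM, hMF, hMcard⟩ := exists_between_card hF hlt.le hj (show j ≤ n - 1 by omega)
      (by rw [hn]; exact Nat.pow_le_pow_right (by norm_num) (by omega))
    have hM2 : Nat.card M * 2 = Nat.card F := by
      rw [hMcard, hn, ← pow_succ]
      congr 1; omega
    have haM := hmax M hMF hM2
    have hidx : (M.subgroupOf F).index = 2 := by
      have h1 := card_mul_relIndex hMF
      rw [← hM2] at h1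
      have hpos : 0 < Nat.card M := Nat.card_pos
      exact Nat.eq_of_mul_eq_mul_left hpos h1
    have hcomm : ⁅F, Subgroup.zpowers a⁆ ≤ M := by
      rw [Subgroup.commutator_le]
      intro f hf b hb
      have hbM : b ∈ Subgroup.normalizer (M : Set X) := (Subgroup.zpowers_le.mpr haM) hb
      have hbF : b * f⁻¹ * b⁻¹ ∈ F := conj_mem_of_mem_normalizer (hAF hb) (F.inv_mem hf)
      have e : ⁅f, b⁆ = f * (b * f⁻¹ * b⁻¹) := by rw [commutatorElement_def]; group
      rw [e]
      have h1 := Subgroup.mul_mem_iff_of_index_two hidx (a := (⟨f, hf⟩ : F))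
        (b := (⟨b * f⁻¹ * b⁻¹, hbF⟩ : F))
      have h2 : ((⟨f, hf⟩ : F) ∈ M.subgroupOf F ↔ (⟨b * f⁻¹ * b⁻¹, hbF⟩ : F) ∈ M.subgroupOf F) := by
        rw [Subgroup.mem_subgroupOf, Subgroup.mem_subgroupOf]
        show f ∈ M ↔ b * f⁻¹ * b⁻¹ ∈ M
        rw [← Subgroup.mem_normalizer_iff.mp hbM f⁻¹, inv_mem_iff]
      have h3 := h1.mpr h2
      rw [Subgroup.mem_subgroupOf] at h3
      exact h3
    have hle : F ≤ M := by
      rw [← hsup]
      exact sup_le hcomm hCM
    have := Subgroup.card_le_of_le hle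
    have hpos : 0 < Nat.card M := Nat.card_pos
    omega
  intro x hx
  have h1 : x ∈ F ⊓ Subgroup.centralizer (Subgroup.zpowers a : Set X) := by rw [hC]; exact hx
  have h2 : x ∈ Subgroup.centralizer (Subgroup.zpowers a : Set X) := h1.2
  rw [Subgroup.mem_centralizer_iff] at h2
  have h3 := h2 a (Subgroup.mem_zpowers a)
  rw [h3]; group

/-- A noncyclic `p`-group of order `p^(k+1)` is generated by any subgroup of order `p^k` together
with a suitable second one. -/
theorem exists_second_maximal [Finite X] {p : ℕ} [Fact p.Prime] {E F : Subgroup X}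
    (hF : IsPGroup p F) (hEF : E ≤ F) {k : ℕ} (hE : Nat.card E = p ^ k)
    (hFcard : Nat.card F = p ^ (k + 1)) (hnc : ¬ IsCyclic F) :
    ∃ M : Subgroup X, M ≤ F ∧ Nat.card M = p ^ k ∧ E ⊔ M = F := by
  have hp : p.Prime := Fact.out
  have hEF' : E < F := by
    refine lt_of_le_of_ne hEF ?_
    rintro rfl
    rw [hE] at hFcard
    have := (Nat.pow_right_injective hp.two_le) hFcard
    omega
  obtain ⟨y, hyF, hyE⟩ := SetLike.exists_of_lt hEF'
  have hzF : Subgroup.zpowers y ≤ F := Subgroup.zpowers_le.mpr hyF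
  have hzne : Subgroup.zpowers y ≠ F := by
    intro h
    apply hnc
    rw [← h]
    infer_instance
  have hzlt : Subgroup.zpowers y < F := lt_of_le_of_ne hzF hzne
  obtain ⟨j, hj⟩ := IsPGroup.iff_card.mp (hF.to_le hzF)
  have hjk : j ≤ k := by
    have := card_lt_card_of_lt hzlt
    rw [hj, hFcard] at this
    have := (Nat.pow_lt_pow_iff_right hp.one_lt).mp this
    omega
  obtain ⟨M, hzM, hMF, hMcard⟩ := exists_between_card hF hzF hj hjk
    (by rw [hFcard]; exact Nat.pow_le_pow_right hp.pos (Nat.le_succ k))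
  refine ⟨M, hMF, hMcard, ?_⟩
  have hlt : E < E ⊔ M := by
    refine lt_of_le_of_ne le_sup_left ?_
    intro h
    apply hyE
    rw [h]
    exact le_sup_right (a := E) (hzM (Subgroup.mem_zpowers y))
  have hle : E ⊔ M ≤ F := sup_le hEF hMF
  obtain ⟨i, hi⟩ := IsPGroup.iff_card.mp (hF.to_le hle)
  have hki : k < i := by
    have := card_lt_card_of_lt hlt
    rw [hE, hi] at this
    exact (Nat.pow_lt_pow_iff_right hp.one_lt).mp this
  apply Subgroup.eq_of_le_of_card_ge hle
  rw [hFcard, hi]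
  exact Nat.pow_le_pow_right hp.pos hki

end PGroupMore

end Cfsg.Agent.Lib.Helper21
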