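import Mathlib
import Cfsg.Agent.Lib.Helper21.Basic
import Cfsg.Agent.Lib.Helper21.PGroupMore

set_option autoImplicit false

namespace Cfsg.Agent.Lib.Helper21

section AbSub

variable {X : Type*} [Group X]

theorem relIndex_comap_mk' (N : Subgroup X) [N.Normal] (B : Subgroup (X ⧸ N)) :
    N.relIndex (B.comap (QuotientGroup.mk' N)) = Nat.card B := by
  have h1 : ((⊥ : Subgroup (X ⧸ N)).comap (QuotientGroup.mk' N)).relIndex
      (B.comap (QuotientGroup.mk' N)) = Nat.card B := by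
    rw [Subgroup.relIndex_comap,
      Subgroup.map_comap_eq_self_of_surjective (QuotientGroup.mk'_surjective N),
      Subgroup.relIndex_bot_left]
  have h2 : (⊥ : Subgroup (X ⧸ N)).comap (QuotientGroup.mk' N) = N := by
    rw [MonoidHom.comap_bot, QuotientGroup.ker_mk']
  rw [h2] at h1
  exact h1

theorem le_comap_mk' (N : Subgroup X) [N.Normal] (B : Subgroup (X ⧸ N)) :
    N ≤ B.comap (QuotientGroup.mk' N) := by
  intro x hx
  show QuotientGroup.mk' N x ∈ B
  have h1 : QuotientGroup.mk' N x = 1 := (QuotientGroup.eq_one_iff x).mpr hx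
  rw [h1]
  exact B.one_mem

/-- a finite `p`-group has a central element of order `p` -/
theorem exists_central_orderOf_eq [Finite X] [Nontrivial X] {p : ℕ} [Fact p.Prime]
    (hS : IsPGroup p X) : ∃ z : X, z ∈ Subgroup.center X ∧ orderOf z = p := by
  have hZ : p ∣ Nat.card (Subgroup.center X) := by
    have h1 := hS.center_nontrivial
    rcases (hS.to_subgroup (Subgroup.center X)).card_eq_or_dvd with h | h
    · exact absurd (Nat.card_eq_one_iff_unique.mp h).1 (not_subsingleton _)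
    · exact h
  obtain ⟨z', hz'⟩ := exists_prime_orderOf_dvd_card' p hZ
  refine ⟨(z' : X), z'.2, ?_⟩
  rw [Subgroup.orderOf_coe]
  exact hz'

/-- a finite `p`-group of order at least `p ^ 4` has an abelian subgroup of order `p ^ 3` -/
theorem exists_abelian_card_cube [Finite X] {p : ℕ} [Fact p.Prime]
    (hS : IsPGroup p X) (hcard : p ^ 4 ≤ Nat.card X) :
    ∃ M : Subgroup X, IsMulCommutative M ∧ Nat.card M = p ^ 3 := by
  classical
  have hp : p.Prime := Fact.out
  obtain ⟨n, hn⟩ := IsPGroup.iff_card.mp hS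
  have hn4 : 4 ≤ n := by
    rw [hn] at hcard
    exact (Nat.pow_le_pow_iff_right hp.one_lt).mp hcard
  haveI : Nontrivial X := by
    rw [← Finite.one_lt_card_iff_nontrivial, hn]
    exact Nat.one_lt_pow (by omega) hp.one_lt
  obtain ⟨z, hzcen, hzo⟩ := exists_central_orderOf_eq hS
  have hzc : ∀ g : X, g * z = z * g := fun g => Subgroup.mem_center_iff.mp hzcen g
  set Z₁ : Subgroup X := Subgroup.zpowers z with hZ₁
  have hZ₁c : ∀ w ∈ Z₁, ∀ a : X, a * w = w * a := by
    intro w hw a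
    obtain ⟨k, rfl⟩ := Subgroup.mem_zpowers_iff.mp hw
    exact (Commute.zpow_right (hzc a) k).eq
  haveI hZ₁n : Z₁.Normal := by
    constructor
    intro a ha g
    have h1 : g * a * g⁻¹ = a := by
      rw [hZ₁c a ha g, mul_inv_cancel_right]
    rw [h1]
    exact ha
  have hZ₁card : Nat.card Z₁ = p := by rw [Nat.card_zpowers, hzo]
  have hSq : IsPGroup p (X ⧸ Z₁) := hS.to_quotient Z₁
  have hcardq : Nat.card (X ⧸ Z₁) = p ^ (n - 1) := by
    have h1 := Subgroup.card_eq_card_quotient_mul_card_subgroup Z₁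
    rw [hn, hZ₁card] at h1
    have h2 : p ^ n = p ^ (n - 1) * p := by
      rw [← pow_succ]
      congr 1
      omega
    rw [h2] at h1
    exact (Nat.eq_of_mul_eq_mul_right hp.pos h1).symm
  haveI : Nontrivial (X ⧸ Z₁) := by
    rw [← Finite.one_lt_card_iff_nontrivial, hcardq]
    exact Nat.one_lt_pow (by omega) hp.one_lt
  obtain ⟨yb, hybcen, hybo⟩ := exists_central_orderOf_eq hSq
  obtain ⟨y, hy⟩ := QuotientGroup.mk_surjective yb
  have hcomm : ∀ g : X, g * y * g⁻¹ * y⁻¹ ∈ Z₁ := by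
    intro g
    rw [← QuotientGroup.eq_one_iff]
    have hc := Subgroup.mem_center_iff.mp hybcen (g : X ⧸ Z₁)
    rw [← hy] at hc
    show ((g : X ⧸ Z₁) * (y : X ⧸ Z₁) * (g : X ⧸ Z₁)⁻¹ * (y : X ⧸ Z₁)⁻¹) = 1
    rw [hc]
    group
  let θ : X →* Z₁ := MonoidHom.mk' (fun g => ⟨g * y * g⁻¹ * y⁻¹, hcomm g⟩) (by
    intro g h
    apply Subtype.ext
    show g * h * y * (g * h)⁻¹ * y⁻¹ = (g * y * g⁻¹ * y⁻¹) * (h * y * h⁻¹ * y⁻¹)
    have hw : ∀ a : X, a * (h * y * h⁻¹ * y⁻¹) = (h * y * h⁻¹ * y⁻¹) * a :=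
      fun a => hZ₁c _ (hcomm h) a
    calc g * h * y * (g * h)⁻¹ * y⁻¹ = (g * (h * y * h⁻¹ * y⁻¹)) * y * g⁻¹ * y⁻¹ := by group
      _ = ((h * y * h⁻¹ * y⁻¹) * g) * y * g⁻¹ * y⁻¹ := by rw [hw g]
      _ = (h * y * h⁻¹ * y⁻¹) * (g * y * g⁻¹ * y⁻¹) := by group
      _ = (g * y * g⁻¹ * y⁻¹) * (h * y * h⁻¹ * y⁻¹) := by rw [← hw])
  set C : Subgroup X := θ.ker with hC
  have hCmem : ∀ g : X, g ∈ C ↔ g * y = y * g := by
    intro g
    rw [hC, MonoidHom.mem_ker]
    constructor
    · intro h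
      have h1 : g * y * g⁻¹ * y⁻¹ = 1 := congrArg Subtype.val h
      have e : g * y = (g * y * g⁻¹ * y⁻¹) * y * g := by group
      rw [e, h1, one_mul]
    · intro h
      apply Subtype.ext
      show g * y * g⁻¹ * y⁻¹ = 1
      rw [h]
      group
  have hidx : C.index ∣ p := by
    rw [hC, Subgroup.index_ker, ← hZ₁card]
    exact Subgroup.card_subgroup_dvd_card _
  have hCcard : p ^ 3 ≤ Nat.card C := by
    have h1 := Subgroup.card_mul_index C
    rw [hn] at h1
    rcases (Nat.dvd_prime hp).mp hidx with h | h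
    · rw [h, mul_one] at h1
      rw [h1]
      exact Nat.pow_le_pow_right hp.pos (by omega)
    · rw [h] at h1
      have h2 : p ^ n = p ^ (n - 1) * p := by
        rw [← pow_succ]
        congr 1
        omega
      rw [h2] at h1
      rw [Nat.eq_of_mul_eq_mul_right hp.pos h1]
      exact Nat.pow_le_pow_right hp.pos (by omega)
  set N : Subgroup X := (Subgroup.zpowers (y : X ⧸ Z₁)).comap (QuotientGroup.mk' Z₁) with hN
  have hNcard : Nat.card N = p ^ 2 := by
    rw [← card_mul_relIndex (le_comap_mk' Z₁ _), relIndex_comap_mk', hZ₁card, Nat.card_zpowers,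
      hy, hybo, sq]
  have hNform : ∀ g ∈ N, ∃ k : ℤ, ∃ w ∈ Z₁, g = y ^ k * w := by
    intro g hg
    have h1 : (g : X ⧸ Z₁) ∈ Subgroup.zpowers (y : X ⧸ Z₁) := hg
    obtain ⟨k, hk⟩ := Subgroup.mem_zpowers_iff.mp h1
    have h2 : ((y ^ k : X) : X ⧸ Z₁) = (g : X ⧸ Z₁) := by
      rw [← hk]
      rfl
    have h3 : (y ^ k)⁻¹ * g ∈ Z₁ := QuotientGroup.eq.mp h2
    exact ⟨k, _, h3, by group⟩
  have hNcen : ∀ c ∈ C, ∀ g ∈ N, c * g = g * c := by
    intro c hc g hg
    obtain ⟨k, w, hw, rfl⟩ := hNform g hg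
    have h1 : Commute c y := (hCmem c).mp hc
    have h2 : Commute c (y ^ k) := h1.zpow_right k
    have h3 : Commute c w := hZ₁c w hw c
    exact (h2.mul_right h3).eq
  have hNC : N ≤ C := by
    intro g hg
    rw [hCmem]
    obtain ⟨k, w, hw, rfl⟩ := hNform g hg
    have h1 : Commute (y ^ k) y := (Commute.refl y).zpow_left k
    have h2 : Commute w y := (hZ₁c w hw y).symm
    exact (h1.mul_left h2).eq
  have hCp : IsPGroup p C := hS.to_subgroup C
  obtain ⟨M, hNM, hMC, hMcard⟩ := exists_between_card hCp hNC hNcard (by norm_num) hCcard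
  refine ⟨M, ?_, hMcard⟩
  have hNcenM : N.subgroupOf M ≤ Subgroup.center M := by
    intro a ha
    rw [Subgroup.mem_center_iff]
    intro b
    apply Subtype.ext
    exact hNcen b (hMC b.2) a (Subgroup.mem_subgroupOf.mp ha)
  haveI : (N.subgroupOf M).Normal := by
    constructor
    intro a ha g
    have h1 : g * a * g⁻¹ = a := by
      rw [Subgroup.mem_center_iff.mp (hNcenM ha) g, mul_inv_cancel_right]
    rw [h1]
    exact ha
  have hqcard : Nat.card (M ⧸ N.subgroupOf M) = p := by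
    have h1 : Nat.card N * N.relIndex M = Nat.card M := card_mul_relIndex hNM
    rw [hNcard, hMcard] at h1
    have h2 : p ^ 3 = p ^ 2 * p := by ring
    rw [h2] at h1
    exact Nat.eq_of_mul_eq_mul_left (pow_pos hp.pos 2) h1
  haveI : IsCyclic (M ⧸ N.subgroupOf M) := isCyclic_of_prime_card (p := p) hqcard
  apply (QuotientGroup.mk' (N.subgroupOf M)).isMulCommutative_of_isCyclic_of_ker_le_center
  rw [QuotientGroup.ker_mk']
  exact hNcenM

end AbSub

end Cfsg.Agent.Lib.Helper21
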