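import Mathlib
import Cfsg.Agent.Lib.Helper1.CoprimeSylow
import Cfsg.Agent.Lib.Helper18.PIndex
import Cfsg.Agent.Lib.Helper18.PGroupFrat

set_option autoImplicit false
set_option linter.style.haveILetI false
open Pointwise

namespace Cfsg.Agent.Lib.Helper21

/-- Coprime action (abstract form): there is an `A`-invariant Sylow `p`-subgroup. -/
theorem exists_invariant_sylow_abs {A G : Type*} [Group A] [Finite A] [Group G] [Finite G]
    [MulDistribMulAction A G] (hcop : (Nat.card A).Coprime (Nat.card G))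
    (hsol : Group.IsSolvable A ∨ Group.IsSolvable G) (p : ℕ) [Fact p.Prime] :
    ∃ P : Sylow p G, ∀ a : A, ∀ x ∈ P, a • x ∈ P := by
  classical
  obtain ⟨φ, hφ⟩ : ∃ φ : A →* MulAut G, φ = MulDistribMulAction.toMulAut A G := ⟨_, rfl⟩
  have hφa : ∀ (a : A) (x : G), φ a x = a • x := by
    intro a x; rw [hφ]; rfl
  let il : G →* G ⋊[φ] A := SemidirectProduct.inl
  let ir : A →* G ⋊[φ] A := SemidirectProduct.inr
  have hil : Function.Injective il := SemidirectProduct.inl_injective
  have hir : Function.Injective ir := SemidirectProduct.inr_injective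
  haveI : Finite (G ⋊[φ] A) := Finite.of_equiv _ (SemidirectProduct.equivProd).symm
  have hnorm : (il.range).Normal := by
    have : il.range = (SemidirectProduct.rightHom : G ⋊[φ] A →* A).ker :=
      SemidirectProduct.range_inl_eq_ker_rightHom
    rw [this]; infer_instance
  have hAK : ir.range ≤ Subgroup.normalizer (il.range : Set (G ⋊[φ] A)) := by
    rw [Subgroup.normalizer_eq_top]; exact le_top
  have hcA : Nat.card ir.range = Nat.card A :=
    (Nat.card_congr (MonoidHom.ofInjective hir).toEquiv).symm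
  have hcG : Nat.card il.range = Nat.card G :=
    (Nat.card_congr (MonoidHom.ofInjective hil).toEquiv).symm
  have hcop' : (Nat.card ir.range).Coprime (Nat.card il.range) := by
    rw [hcA, hcG]; exact hcop
  have hsol' : Group.IsSolvable ir.range ∨ Group.IsSolvable il.range := by
    rcases hsol with h | h
    · left
      exact Group.isSolvable_of_surjective (f := (MonoidHom.ofInjective hir).toMonoidHom)
        (MonoidHom.ofInjective hir).surjective
    · right
      exact Group.isSolvable_of_surjective (f := (MonoidHom.ofInjective hil).toMonoidHom)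
        (MonoidHom.ofInjective hil).surjective
  obtain ⟨R, hR⟩ := Cfsg.Agent.Lib.Helper1.exists_invariant_sylow ir.range il.range hAK hcop'
    hsol' p
  obtain ⟨Q, hQ⟩ : ∃ Q : Subgroup (G ⋊[φ] A), Q = (R : Subgroup il.range).map il.range.subtype :=
    ⟨_, rfl⟩
  rw [← hQ] at hR
  have hQle : Q ≤ il.range := hQ ▸ Subgroup.map_subtype_le _
  have hQc : Nat.card Q = Nat.card R := by
    rw [hQ]; exact Subgroup.card_map_of_injective il.range.subtype_injective
  have hPc : Nat.card (Q.comap il) = p ^ (Nat.card G).factorization p := by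
    have h1 : Nat.card ((Q.comap il).map il) = Nat.card (Q.comap il) :=
      Subgroup.card_map_of_injective hil
    rw [← h1, Subgroup.map_comap_eq_self hQle, hQc, Sylow.card_eq_multiplicity, hcG]
  refine ⟨Sylow.ofCard (Q.comap il) hPc, ?_⟩
  intro a x hx
  have hx' : il x ∈ Q := hx
  change il (a • x) ∈ Q
  have h2 : il (a • x) = ir a * il x * (ir a)⁻¹ := by
    rw [← hφa, ← map_inv]
    exact SemidirectProduct.inl_aut a x
  rw [h2]
  exact (Subgroup.mem_normalizer_iff.mp (hR ⟨a, rfl⟩) (il x)).mp hx'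

/-- In a finite `p`-group, `p`-th powers lie in the Frattini subgroup. -/
theorem pow_mem_frattini' {W : Type*} [Group W] [Finite W] {p : ℕ} [hp : Fact p.Prime]
    (hW : IsPGroup p W) (x : W) : x ^ p ∈ frattini W := by
  unfold frattini Order.radical
  simp only [Subgroup.mem_iInf]
  intro M hM
  haveI : M.Normal := Cfsg.Agent.Lib.Helper18.normal_of_isCoatom hW hM
  have h := Subgroup.pow_index_mem M x
  rwa [Cfsg.Agent.Lib.Helper18.index_eq_prime_of_isCoatom hW hM] at h

/-- Maschke's theorem for an elementary abelian `p`-group acted on by a `p'`-group. -/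
theorem maschke_elem {A V : Type*} [Group A] [Finite A] [Group V] [Finite V]
    (hcomm : ∀ x y : V, x * y = y * x) (ρ : A → V →* V)
    (h1 : ∀ v, ρ 1 v = v) (hmul : ∀ a b v, ρ (a * b) v = ρ a (ρ b v))
    (p : ℕ) (hp : p.Prime) (hexp : ∀ v : V, v ^ p = 1) (hcop : (Nat.card A).Coprime p)
    (U : Subgroup V) (hU : ∀ a, ∀ v ∈ U, ρ a v ∈ U) :
    ∃ W : Subgroup V, (∀ a, ∀ v ∈ W, ρ a v ∈ W) ∧ U ⊓ W = ⊥ ∧ U ⊔ W = ⊤ := by
  classical
  letI : CommGroup V := { (inferInstance : Group V) with mul_comm := hcomm }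
  haveI := Fintype.ofFinite A
  -- a (not necessarily invariant) complement
  obtain ⟨W₁, hW₁, hmax⟩ : ∃ W₁ : Subgroup V, U ⊓ W₁ = ⊥ ∧
      ∀ W : Subgroup V, U ⊓ W = ⊥ → Nat.card W ≤ Nat.card W₁ := by
    obtain ⟨W₁, hW₁, hmax⟩ := Set.exists_max_image {W : Subgroup V | U ⊓ W = ⊥}
      (fun W => Nat.card W) (Set.toFinite _) ⟨⊥, inf_bot_eq U⟩
    exact ⟨W₁, hW₁, hmax⟩
  have htop : U ⊔ W₁ = ⊤ := by
    by_contra hne
    obtain ⟨v, hv⟩ : ∃ v, v ∉ U ⊔ W₁ := by
      by_contra h
      push Not at h
      exact hne (eq_top_iff.mpr (fun y _ => h y))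
    have hinf : U ⊓ (W₁ ⊔ Subgroup.zpowers v) = ⊥ := by
      rw [eq_bot_iff]
      intro x hx
      obtain ⟨hxU, hxW⟩ := Subgroup.mem_inf.mp hx
      obtain ⟨w, hw, z, hz, hwz⟩ := Subgroup.mem_sup.mp hxW
      obtain ⟨k, hk⟩ := Subgroup.mem_zpowers_iff.mp hz
      have hzUW : z ∈ U ⊔ W₁ := by
        have : z = x * w⁻¹ := by rw [← hwz]; simp
        rw [this]
        exact Subgroup.mul_mem_sup hxU (inv_mem hw)
      by_cases hz1 : z = 1
      · have : x = w := by rw [← hwz, hz1, mul_one]
        have hxW₁ : x ∈ U ⊓ W₁ := Subgroup.mem_inf.mpr ⟨hxU, this ▸ hw⟩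
        rw [hW₁] at hxW₁
        exact hxW₁
      · exfalso
        apply hv
        have hzp : z ^ p = 1 := hexp z
        have hoz : orderOf z = p := by
          have := orderOf_dvd_of_pow_eq_one hzp
          rcases (Nat.dvd_prime hp).mp this with h | h
          · exact absurd (orderOf_eq_one_iff.mp h) hz1
          · exact h
        have hov : orderOf v = p := by
          have := orderOf_dvd_of_pow_eq_one (hexp v)
          rcases (Nat.dvd_prime hp).mp this with h | h
          · rw [orderOf_eq_one_iff] at h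
            rw [h] at hv
            exact absurd (one_mem _) hv
          · exact h
        have hzv : Subgroup.zpowers z = Subgroup.zpowers v := by
          have hle : Subgroup.zpowers z ≤ Subgroup.zpowers v := by
            rw [Subgroup.zpowers_le]; exact hz
          apply Subgroup.eq_of_le_of_card_ge hle
          rw [Nat.card_zpowers, Nat.card_zpowers, hoz, hov]
        have : v ∈ Subgroup.zpowers z := hzv ▸ Subgroup.mem_zpowers v
        exact (Subgroup.zpowers_le.mpr hzUW) this
    have hlt : W₁ < W₁ ⊔ Subgroup.zpowers v := by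
      refine lt_of_le_of_ne le_sup_left ?_
      intro h
      apply hv
      have : v ∈ W₁ ⊔ Subgroup.zpowers v := le_sup_right (a := W₁) (Subgroup.mem_zpowers v)
      rw [← h] at this
      exact le_sup_right (a := U) this
    have := hmax _ hinf
    exact hlt.ne (Subgroup.eq_of_le_of_card_ge hlt.le this)
  -- the projection onto U along W₁
  have hbij : Function.Bijective ((QuotientGroup.mk' W₁).comp U.subtype) := by
    constructor
    · rw [injective_iff_map_eq_one]
      intro u hu
      have hu' : (u : V) ∈ W₁ := by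
        have : ((u : V) : V ⧸ W₁) = 1 := hu
        exact (QuotientGroup.eq_one_iff _).mp this
      have : (u : V) ∈ U ⊓ W₁ := Subgroup.mem_inf.mpr ⟨u.2, hu'⟩
      rw [hW₁] at this
      exact Subtype.ext this
    · intro q
      induction q using QuotientGroup.induction_on with
      | H v =>
        have hv : v ∈ U ⊔ W₁ := htop ▸ Subgroup.mem_top v
        obtain ⟨u, hu, w, hw, huw⟩ := Subgroup.mem_sup.mp hv
        refine ⟨⟨u, hu⟩, ?_⟩
        change ((u : V) : V ⧸ W₁) = (v : V ⧸ W₁)
        rw [QuotientGroup.eq]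
        rw [← huw]
        simpa using hw
  let e : U ≃* V ⧸ W₁ := MulEquiv.ofBijective _ hbij
  let π₀ : V →* V := U.subtype.comp (e.symm.toMonoidHom.comp (QuotientGroup.mk' W₁))
  have hπU : ∀ v, π₀ v ∈ U := fun v => (e.symm (QuotientGroup.mk' W₁ v)).2
  have hπid : ∀ u ∈ U, π₀ u = u := by
    intro u hu
    have : e ⟨u, hu⟩ = QuotientGroup.mk' W₁ u := rfl
    change ((e.symm (QuotientGroup.mk' W₁ u) : U) : V) = u
    rw [← this, e.symm_apply_apply]
  let S : V →* V := ∏ a : A, (ρ a).comp (π₀.comp (ρ a⁻¹))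
  have hS : ∀ v, S v = ∏ a : A, ρ a (π₀ (ρ a⁻¹ v)) := by
    intro v
    change (∏ a : A, (ρ a).comp (π₀.comp (ρ a⁻¹))) v = _
    rw [MonoidHom.finsetProd_apply]
    rfl
  have hSU : ∀ v, S v ∈ U := by
    intro v
    rw [hS]
    exact Subgroup.prod_mem _ (fun a _ => hU a _ (hπU _))
  have hSid : ∀ u ∈ U, S u = u ^ Nat.card A := by
    intro u hu
    rw [hS]
    have : ∀ a : A, ρ a (π₀ (ρ a⁻¹ u)) = u := by
      intro a
      rw [hπid _ (hU a⁻¹ u hu), ← hmul, mul_inv_cancel, h1]
    rw [Finset.prod_congr rfl (fun a _ => this a), Finset.prod_const, Finset.card_univ,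
      Nat.card_eq_fintype_card]
  have hSeq : ∀ b v, S (ρ b v) = ρ b (S v) := by
    intro b v
    rw [hS, hS, map_prod]
    rw [← Equiv.prod_comp (Equiv.mulLeft b)]
    refine Finset.prod_congr rfl (fun c _ => ?_)
    simp only [Equiv.coe_mulLeft]
    rw [hmul b c, ← hmul (b * c)⁻¹ b]
    congr 3
    group
  refine ⟨S.ker, ?_, ?_, ?_⟩
  · intro a v hv
    rw [MonoidHom.mem_ker] at hv ⊢
    rw [hSeq, hv, map_one]
  · rw [eq_bot_iff]
    intro u hu
    obtain ⟨huU, huK⟩ := Subgroup.mem_inf.mp hu
    rw [MonoidHom.mem_ker, hSid u huU] at huK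
    have hd1 := orderOf_dvd_of_pow_eq_one huK
    have hd2 := orderOf_dvd_of_pow_eq_one (hexp u)
    have hd := Nat.dvd_gcd hd1 hd2
    rw [Nat.Coprime] at hcop
    rw [hcop, Nat.dvd_one, orderOf_eq_one_iff] at hd
    exact hd
  · rw [eq_top_iff]
    intro v _
    obtain ⟨k, -, hk⟩ := Nat.exists_mul_mod_eq_one_of_coprime hcop hp.one_lt
    have huU : (S v) ^ k ∈ U := pow_mem (hSU v) k
    have hSu : S ((S v) ^ k) = S v := by
      rw [hSid _ huU, ← pow_mul, mul_comm, pow_eq_pow_mod _ (hexp (S v)), hk, pow_one]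
    have hker : ((S v) ^ k)⁻¹ * v ∈ S.ker := by
      rw [MonoidHom.mem_ker, map_mul, map_inv, hSu, inv_mul_cancel]
    have : v = (S v) ^ k * (((S v) ^ k)⁻¹ * v) := by group
    rw [this]
    exact Subgroup.mul_mem_sup huU hker

end Cfsg.Agent.Lib.Helper21
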