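import Mathlib

set_option autoImplicit false

namespace Cfsg.Agent.Lib.Helper21

universe u

/-- Orbit-sum divisibility: an invariant weight summed over a finite `G`-set. -/
theorem dvd_sum_of_orbit {G X : Type*} [Group G] [Finite G] [MulAction G X] [Fintype X]
    (w : X → ℕ) (hw : ∀ (g : G) (x : X), w (g • x) = w x) (d : ℕ)
    (h : ∀ x, d ∣ (MulAction.stabilizer G x).index * w x) : d ∣ ∑ x, w x := by
  classical
  rw [← Finset.sum_fiberwise Finset.univ (Quotient.mk (MulAction.orbitRel G X)) w]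
  apply Finset.dvd_sum
  intro ω _
  induction ω using Quotient.inductionOn with
  | _ x₀ =>
    have h1 : ∀ x ∈ Finset.univ.filter
        (fun x => Quotient.mk (MulAction.orbitRel G X) x = Quotient.mk _ x₀), w x = w x₀ := by
      intro x hx
      have h0 := Quotient.exact (Finset.mem_filter.1 hx).2
      obtain ⟨g, rfl⟩ := h0
      exact hw g x₀
    rw [Finset.sum_congr rfl h1, Finset.sum_const, smul_eq_mul]
    have h2 : (Finset.univ.filter
        (fun x => Quotient.mk (MulAction.orbitRel G X) x = Quotient.mk _ x₀)).card =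
        (MulAction.stabilizer G x₀).index := by
      rw [MulAction.index_stabilizer, ← Set.ncard_coe_finset]
      congr 1
      ext x
      simp only [Finset.coe_filter, Finset.mem_univ, true_and, Set.mem_ofPred_eq]
      rw [Quotient.eq]
      exact MulAction.orbitRel_apply
    rw [h2]
    exact h x₀

/-- The number of generators of a cyclic subgroup. -/
theorem card_zpowers_eq {G : Type*} [Group G] [Finite G] (x : G) :
    Nat.card {y : G // Subgroup.zpowers y = Subgroup.zpowers x} = Nat.totient (orderOf x) := by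
  classical
  haveI : Fintype (Subgroup.zpowers x) := Fintype.ofFinite _
  have h := IsCyclic.card_orderOf_eq_totient (α := Subgroup.zpowers x) (d := orderOf x)
    (by rw [← Nat.card_eq_fintype_card, Nat.card_zpowers])
  rw [← h, ← Fintype.card_subtype, ← Nat.card_eq_fintype_card]
  refine Nat.card_congr ?_
  refine Equiv.ofBijective
    (fun y => ⟨⟨y.1, (le_of_eq y.2) (Subgroup.mem_zpowers y.1)⟩, ?_⟩) ⟨?_, ?_⟩
  · rw [Subgroup.orderOf_mk, ← Nat.card_zpowers, y.2, Nat.card_zpowers]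
  · intro y y' hyy'
    exact Subtype.ext (congrArg (fun t => (t.1 : G)) hyy')
  · rintro ⟨⟨a, ha⟩, hao⟩
    refine ⟨⟨a, ?_⟩, rfl⟩
    apply Subgroup.eq_of_le_of_card_ge ((Subgroup.zpowers_le).2 ha)
    rw [Nat.card_zpowers, Nat.card_zpowers]
    rw [Subgroup.orderOf_mk] at hao
    exact hao.ge

theorem crt_exps (A B : ℕ) (hAB : Nat.Coprime A B) :
    ∃ u v : ℕ, u ≡ 1 [MOD A] ∧ u ≡ 0 [MOD B] ∧ v ≡ 0 [MOD A] ∧ v ≡ 1 [MOD B] ∧
      u + v ≡ 1 [MOD A * B] := by
  obtain ⟨u, hu1, hu2⟩ := Nat.chineseRemainder hAB 1 0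
  obtain ⟨v, hv1, hv2⟩ := Nat.chineseRemainder hAB 0 1
  refine ⟨u, v, hu1, hu2, hv1, hv2, ?_⟩
  rw [← Nat.modEq_and_modEq_iff_modEq_mul hAB]
  exact ⟨by simpa using hu1.add hv1, by simpa using hu2.add hv2⟩

theorem pow_eq_pow_of_modEq' {G : Type*} [Group G] {x : G} {k a b : ℕ} (hx : x ^ k = 1)
    (h : a ≡ b [MOD k]) : x ^ a = x ^ b :=
  pow_eq_pow_iff_modEq.2 (h.of_dvd (orderOf_dvd_of_pow_eq_one hx))

/-- CRT decomposition count. -/
theorem card_crt {G : Type*} [Group G] [Finite G] (A B : ℕ) (hAB : Nat.Coprime A B)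
    (P Q : G → Prop)
    (hPQ : ∀ y z : G, y ^ A = 1 → z ^ B = 1 → Commute y z → (P (y * z) ↔ Q y)) :
    Nat.card {x : G // x ^ (A * B) = 1 ∧ P x} =
      Nat.card (Σ y : {y : G // y ^ A = 1 ∧ Q y}, {z : G // Commute y.1 z ∧ z ^ B = 1}) := by
  obtain ⟨u, v, hu1, hu2, hv1, hv2, huv⟩ := crt_exps A B hAB
  have key : ∀ x : G, x ^ (A * B) = 1 →
      (x ^ u) ^ A = 1 ∧ (x ^ v) ^ B = 1 ∧ x ^ u * x ^ v = x := by
    intro x hx
    have hox := orderOf_dvd_of_pow_eq_one hx
    refine ⟨?_, ?_, ?_⟩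
    · rw [← pow_mul]
      have hBu : B ∣ u := (Nat.modEq_zero_iff_dvd).1 hu2
      have : A * B ∣ u * A := by
        rw [mul_comm u A]; exact Nat.mul_dvd_mul_left A hBu
      exact orderOf_dvd_iff_pow_eq_one.1 (hox.trans this)
    · rw [← pow_mul]
      have hAv : A ∣ v := (Nat.modEq_zero_iff_dvd).1 hv1
      have : A * B ∣ v * B := Nat.mul_dvd_mul_right hAv B
      exact orderOf_dvd_iff_pow_eq_one.1 (hox.trans this)
    · rw [← pow_add]
      have := pow_eq_pow_of_modEq' hx huv
      rw [this, pow_one]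
  have hQ : ∀ x : G, x ^ (A * B) = 1 → P x → Q (x ^ u) := by
    intro x hx hP
    obtain ⟨h1, h2, h3⟩ := key x hx
    have h0 := hPQ (x ^ u) (x ^ v) h1 h2 ((Commute.refl x).pow_pow u v)
    rw [h3] at h0
    exact h0.1 hP
  have key2 : ∀ y z : G, y ^ A = 1 → z ^ B = 1 → Commute y z →
      (y * z) ^ u = y ∧ (y * z) ^ v = z ∧ (y * z) ^ (A * B) = 1 := by
    intro y z hy hz hc
    refine ⟨?_, ?_, ?_⟩
    · rw [hc.mul_pow, pow_eq_pow_of_modEq' hy hu1, pow_eq_pow_of_modEq' hz hu2, pow_one,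
        pow_zero, mul_one]
    · rw [hc.mul_pow, pow_eq_pow_of_modEq' hy hv1, pow_eq_pow_of_modEq' hz hv2, pow_one,
        pow_zero, one_mul]
    · rw [hc.mul_pow, pow_mul, hy, one_pow, mul_comm A B, pow_mul, hz, one_pow, mul_one]
  refine Nat.card_congr (Equiv.ofBijective
    (fun x => ⟨⟨x.1 ^ u, (key x.1 x.2.1).1, hQ x.1 x.2.1 x.2.2⟩,
      ⟨x.1 ^ v, (Commute.refl x.1).pow_pow u v, (key x.1 x.2.1).2.1⟩⟩) ⟨?_, ?_⟩)
  · intro x x' hxx'
    have h1 : x.1 ^ u = x'.1 ^ u := congrArg (fun s => (s.1 : G)) hxx'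
    have h2 : x.1 ^ v = x'.1 ^ v := congrArg (fun s => (s.2 : G)) hxx'
    apply Subtype.ext
    calc x.1 = x.1 ^ u * x.1 ^ v := (key x.1 x.2.1).2.2.symm
      _ = x'.1 ^ u * x'.1 ^ v := by rw [h1, h2]
      _ = x'.1 := (key x'.1 x'.2.1).2.2
  · rintro ⟨⟨y, hy, hQy⟩, ⟨z, hc, hz⟩⟩
    obtain ⟨k1, k2, k3⟩ := key2 y z hy hz hc
    refine ⟨⟨y * z, k3, (hPQ y z hy hz hc).2 hQy⟩, ?_⟩
    apply Sigma.subtype_ext
    · exact Subtype.ext k1
    · exact k2

/-- Class-sum divisibility. -/
theorem dvd_card_sigma_conj {G : Type*} [Group G] [Finite G] (d : ℕ) (Q : G → Prop)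
    (W : G → G → Prop)
    (hQ : ∀ g y : G, Q y → Q (g * y * g⁻¹))
    (hW : ∀ g y z : G, W y z → W (g * y * g⁻¹) (g * z * g⁻¹))
    (h : ∀ y, Q y → d ∣ (Subgroup.centralizer {y}).index * Nat.card {z : G // W y z}) :
    d ∣ Nat.card (Σ y : {y : G // Q y}, {z : G // W y.1 z}) := by
  classical
  haveI : Fintype {y : G // Q y} := Fintype.ofFinite _
  letI act : MulAction G {y : G // Q y} :=
    { smul := fun g y => ⟨g * y.1 * g⁻¹, hQ g y.1 y.2⟩
      one_smul := fun y => Subtype.ext (by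
        show 1 * y.1 * 1⁻¹ = y.1
        simp)
      mul_smul := fun g g' y => Subtype.ext (by
        show g * g' * y.1 * (g * g')⁻¹ = g * (g' * y.1 * g'⁻¹) * g⁻¹
        simp [mul_assoc]) }
  have hsm : ∀ (g : G) (y : {y : G // Q y}), (g • y).1 = g * y.1 * g⁻¹ := fun _ _ => rfl
  rw [Nat.card_sigma]
  apply dvd_sum_of_orbit (G := G) (fun y : {y : G // Q y} => Nat.card {z : G // W y.1 z})
  · have hle : ∀ (g : G) (y : {y : G // Q y}),
        Nat.card {z : G // W y.1 z} ≤ Nat.card {z : G // W (g • y).1 z} := by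
      intro g y
      apply Nat.card_le_card_of_injective
        (fun z => (⟨g * z.1 * g⁻¹, hW g y.1 z.1 z.2⟩ : {z : G // W (g • y).1 z}))
      intro z z' hzz'
      have h0 : g * z.1 * g⁻¹ = g * z'.1 * g⁻¹ := congrArg Subtype.val hzz'
      apply Subtype.ext
      simpa using h0
    intro g y
    apply le_antisymm
    · have h0 := hle g⁻¹ (g • y)
      rwa [inv_smul_smul] at h0
    · exact hle g y
  · intro y
    have h0 : MulAction.stabilizer G y = Subgroup.centralizer {y.1} := by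
      ext g
      rw [MulAction.mem_stabilizer_iff, Subgroup.mem_centralizer_iff]
      constructor
      · intro hg t ht
        rw [Set.mem_singleton_iff] at ht
        subst ht
        have h1 : g * y.1 * g⁻¹ = y.1 := congrArg Subtype.val hg
        calc y.1 * g = g * y.1 * g⁻¹ * g := by rw [h1]
          _ = g * y.1 := by group
      · intro hg
        apply Subtype.ext
        rw [hsm, ← hg y.1 rfl]
        group
    rw [h0]
    exact h y.1 y.2

/-- Elements commuting with `y` and of exponent `s`, counted inside the centralizer. -/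
theorem card_commute_pow {G : Type*} [Group G] [Finite G] (y : G) (s : ℕ) :
    Nat.card {z : G // Commute y z ∧ z ^ s = 1} =
      Nat.card {c : Subgroup.centralizer ({y} : Set G) // c ^ s = 1} := by
  symm
  refine Nat.card_congr (Equiv.ofBijective
    (fun c => ⟨c.1.1, Subgroup.mem_centralizer_iff.1 c.1.2 y rfl,
      by have h0 := congrArg Subtype.val c.2; simpa using h0⟩) ⟨?_, ?_⟩)
  · intro c c' hcc'
    have h0 : c.1.1 = c'.1.1 :=
      congrArg (fun t : {z : G // Commute y z ∧ z ^ s = 1} => (t : G)) hcc'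
    exact Subtype.ext (Subtype.ext h0)
  · rintro ⟨z, hz1, hz2⟩
    refine ⟨⟨⟨z, ?_⟩, ?_⟩, rfl⟩
    · rw [Subgroup.mem_centralizer_iff]
      intro t ht
      rw [Set.mem_singleton_iff] at ht
      subst ht
      exact hz1.eq
    · exact Subtype.ext hz2

theorem card_pow_gcd {H : Type*} [Group H] [Finite H] (s : ℕ) :
    Nat.card {h : H // h ^ s = 1} = Nat.card {h : H // h ^ (Nat.gcd s (Nat.card H)) = 1} := by
  refine Nat.card_congr (Equiv.subtypeEquivRight (fun h => ?_))
  rw [← orderOf_dvd_iff_pow_eq_one, ← orderOf_dvd_iff_pow_eq_one, Nat.dvd_gcd_iff]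
  exact ⟨fun hh => ⟨hh, orderOf_dvd_natCard h⟩, fun hh => hh.1⟩

theorem cent_count {G : Type u} [Group G] [Finite G]
    (IH : ∀ (H : Type u) [Group H] [Finite H], Nat.card H < Nat.card G →
      ∀ m, m ∣ Nat.card H → m ∣ Nat.card {h : H // h ^ m = 1})
    (y : G) (hy : y ≠ 1) (s : ℕ) (hs : Nat.Coprime (orderOf y) s) (hsG : s ∣ Nat.card G) :
    s ∣ (Subgroup.centralizer {y}).index * Nat.card {z : G // Commute y z ∧ z ^ s = 1} := by
  classical
  rw [card_commute_pow]
  obtain ⟨C, hC⟩ : ∃ C : Subgroup G, C = Subgroup.centralizer {y} := ⟨_, rfl⟩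
  rw [← hC]
  have hyC : y ∈ C := by
    rw [hC, Subgroup.mem_centralizer_iff]
    intro t ht
    rw [Set.mem_singleton_iff] at ht
    rw [ht]
  have hcomm : ∀ c ∈ C, Commute y c := by
    intro c hc
    rw [hC] at hc
    exact Subgroup.mem_centralizer_iff.1 hc y rfl
  obtain ⟨yC, hyC'⟩ : ∃ yC : C, yC = ⟨y, hyC⟩ := ⟨_, rfl⟩
  have hcen : ∀ c : C, Commute yC c := fun c => by
    rw [hyC']
    exact Subtype.ext (hcomm c.1 c.2)
  obtain ⟨Z, hZ⟩ : ∃ Z : Subgroup C, Z = Subgroup.zpowers yC := ⟨_, rfl⟩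
  haveI hZn : Z.Normal := by
    refine ⟨fun t ht c => ?_⟩
    rw [hZ] at ht ⊢
    obtain ⟨i, rfl⟩ := Subgroup.mem_zpowers_iff.1 ht
    have h1 : c * yC ^ i * c⁻¹ = yC ^ i := by
      have h2 := ((hcen c).zpow_left i)
      rw [← h2.eq, mul_inv_cancel_right]
    rw [h1]
    exact Subgroup.zpow_mem_zpowers yC i
  have hoC : orderOf yC = orderOf y := by rw [hyC']; exact Subgroup.orderOf_mk y hyC
  have hZcard : Nat.card Z = orderOf y := by rw [hZ, Nat.card_zpowers, hoC]
  have hcardC : Nat.card C = Nat.card (C ⧸ Z) * orderOf y := by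
    rw [← hZcard]
    exact Subgroup.card_eq_card_quotient_mul_card_subgroup Z
  have hCG : C.index * Nat.card C = Nat.card G := C.index_mul_card
  have ho1 : 1 < orderOf y := by
    have h1 := orderOf_pos y
    have h2 : orderOf y ≠ 1 := fun h => hy (orderOf_eq_one_iff.1 h)
    omega
  have hlt : Nat.card (C ⧸ Z) < Nat.card G := by
    have h1 : 0 < Nat.card (C ⧸ Z) := Nat.card_pos
    have h2 : Nat.card C ≤ Nat.card G := Subgroup.card_le_card_group C
    nlinarith
  have e2 : Nat.card {c : C // c ^ s = 1} = Nat.card {h : C ⧸ Z // h ^ s = 1} := by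
    obtain ⟨u, v, hu1, hu2, hv1, hv2, huv⟩ := crt_exps (orderOf y) s hs
    refine Nat.card_congr (Equiv.ofBijective
      (fun c => ⟨(c.1 : C ⧸ Z), by rw [← QuotientGroup.mk_pow, c.2]; rfl⟩) ⟨?_, ?_⟩)
    · intro c c' hcc'
      have h1 : ((c.1 : C) : C ⧸ Z) = (c'.1 : C ⧸ Z) := congrArg Subtype.val hcc'
      rw [QuotientGroup.eq, hZ] at h1
      obtain ⟨i, hi⟩ := Subgroup.mem_zpowers_iff.1 h1
      have ht : (yC ^ i) ^ s = 1 := by
        have hcomm' : Commute (c.1⁻¹) c'.1 := by
          have h2 : c'.1 = c.1 * yC ^ i := by rw [hi]; group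
          rw [h2]
          exact ((Commute.refl c.1).inv_left).mul_right (((hcen c.1).zpow_left i).symm.inv_left)
        rw [hi, hcomm'.mul_pow, inv_pow, c.2, c'.2]
        simp
      have ho : orderOf (yC ^ i) ∣ s := orderOf_dvd_of_pow_eq_one ht
      have ho' : orderOf (yC ^ i) ∣ orderOf y := by
        rw [← hoC]
        exact orderOf_dvd_of_mem_zpowers (Subgroup.zpow_mem_zpowers yC i)
      have h3 : orderOf (yC ^ i) = 1 := by
        have h4 := Nat.dvd_gcd ho' ho
        rw [hs] at h4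
        exact Nat.dvd_one.1 h4
      rw [orderOf_eq_one_iff] at h3
      rw [h3] at hi
      apply Subtype.ext
      exact inv_mul_eq_one.1 hi.symm
    · rintro ⟨h, hh⟩
      obtain ⟨c, rfl⟩ := QuotientGroup.mk_surjective h
      have hcs : c ^ s ∈ Z := by
        rw [← QuotientGroup.eq_one_iff, QuotientGroup.mk_pow]
        exact hh
      have hcso : (c ^ s) ^ orderOf y = 1 := by
        rw [hZ] at hcs
        obtain ⟨i, hi⟩ := Subgroup.mem_zpowers_iff.1 hcs
        rw [← hi, ← hoC, ← zpow_natCast, ← zpow_mul, mul_comm, zpow_mul, zpow_natCast,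
          pow_orderOf_eq_one, one_zpow]
      refine ⟨⟨c ^ v, ?_⟩, ?_⟩
      · rw [← pow_mul]
        have hd : orderOf y ∣ v := (Nat.modEq_zero_iff_dvd).1 hv1
        obtain ⟨k, rfl⟩ := hd
        have h5 : orderOf y * k * s = s * orderOf y * k := by ring
        rw [h5, pow_mul, pow_mul, hcso, one_pow]
      · apply Subtype.ext
        show ((c ^ v : C) : C ⧸ Z) = (c : C ⧸ Z)
        rw [QuotientGroup.mk_pow]
        have h6 := pow_eq_pow_of_modEq' hh hv2
        rw [h6, pow_one]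
  have hIH := IH (C ⧸ Z) hlt (Nat.gcd s (Nat.card (C ⧸ Z))) (Nat.gcd_dvd_right _ _)
  rw [e2, card_pow_gcd]
  have h1 : s ∣ C.index * Nat.card (C ⧸ Z) := by
    have h2 : s ∣ C.index * Nat.card (C ⧸ Z) * orderOf y := by
      rw [mul_assoc, ← hcardC, hCG]
      exact hsG
    exact Nat.Coprime.dvd_of_dvd_mul_right hs.symm h2
  have h2 : s ∣ C.index * Nat.gcd s (Nat.card (C ⧸ Z)) := by
    rw [← Nat.gcd_mul_left]
    exact Nat.dvd_gcd (Dvd.intro_left _ rfl) h1
  exact h2.trans (Nat.mul_dvd_mul_left _ hIH)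

theorem frob_step {G : Type u} [Group G] [Finite G]
    (IH : ∀ (H : Type u) [Group H] [Finite H], Nat.card H < Nat.card G →
      ∀ m, m ∣ Nat.card H → m ∣ Nat.card {h : H // h ^ m = 1})
    (n p : ℕ) (hp : p.Prime) (hnp : n * p ∣ Nat.card G)
    (h : n * p ∣ Nat.card {g : G // g ^ (n * p) = 1}) :
    n ∣ Nat.card {g : G // g ^ n = 1} := by
  classical
  haveI : Fintype G := Fintype.ofFinite G
  have hn0 : n ≠ 0 := by
    rintro rfl
    rw [zero_mul, zero_dvd_iff] at hnp
    exact (Nat.card_pos (α := G)).ne' hnp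
  obtain ⟨a, s, hps, rfl⟩ := Nat.exists_eq_pow_mul_and_not_dvd hn0 p hp.ne_one
  have hcop : Nat.Coprime (p ^ (a + 1)) s :=
    Nat.Coprime.pow_left _ ((Nat.Prime.coprime_iff_not_dvd hp).2 hps)
  have hnp' : p ^ a * s * p = p ^ (a + 1) * s := by ring
  have hsplit : Nat.card {g : G // g ^ (p ^ a * s * p) = 1} =
      Nat.card {g : G // g ^ (p ^ a * s) = 1} +
        Nat.card {g : G // g ^ (p ^ (a + 1) * s) = 1 ∧ g ^ (p ^ a * s) ≠ 1} := by
    simp only [Nat.card_eq_fintype_card, Fintype.card_subtype]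
    rw [← Finset.card_filter_add_card_filter_not
      (s := Finset.univ.filter (fun g : G => g ^ (p ^ a * s * p) = 1))
      (fun g : G => g ^ (p ^ a * s) = 1)]
    congr 1
    · congr 1
      ext g
      simp only [Finset.mem_filter, Finset.mem_univ, true_and]
      constructor
      · exact fun h => h.2
      · intro h
        exact ⟨by rw [pow_mul, h, one_pow], h⟩
    · congr 1
      ext g
      simp only [Finset.mem_filter, Finset.mem_univ, true_and, hnp']
  have hord : ∀ g : G, g ^ (p ^ (a + 1) * s) = 1 → g ^ (p ^ a * s) ≠ 1 →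
      p ^ (a + 1) ∣ orderOf g := by
    intro g h1 h2
    have ho := orderOf_dvd_of_pow_eq_one h1
    have hg : orderOf g = Nat.gcd (orderOf g) (p ^ (a + 1)) * Nat.gcd (orderOf g) s := by
      rw [← Nat.Coprime.gcd_mul _ hcop]
      exact (Nat.gcd_eq_left ho).symm
    obtain ⟨b, hb, hb'⟩ := (Nat.dvd_prime_pow hp).1 (Nat.gcd_dvd_right (orderOf g) (p ^ (a + 1)))
    rcases Nat.lt_or_ge b (a + 1) with hlt | hge
    · exfalso
      apply h2
      rw [← orderOf_dvd_iff_pow_eq_one, hg, hb']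
      exact Nat.mul_dvd_mul (pow_dvd_pow p (by omega)) (Nat.gcd_dvd_right _ _)
    · have h3 : b = a + 1 := by omega
      rw [h3] at hb'
      rw [← hb']
      exact Nat.gcd_dvd_left _ _
  have c1 : p ^ a ∣ Nat.card {g : G // g ^ (p ^ (a + 1) * s) = 1 ∧ g ^ (p ^ a * s) ≠ 1} := by
    rw [Nat.card_eq_fintype_card, Fintype.card_subtype]
    rw [Finset.card_eq_sum_card_fiberwise (f := fun g : G => Subgroup.zpowers g)
      (t := (Finset.univ.filter
        (fun g : G => g ^ (p ^ (a + 1) * s) = 1 ∧ g ^ (p ^ a * s) ≠ 1)).image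
          (fun g : G => Subgroup.zpowers g))
      (fun g hg => Finset.mem_image_of_mem _ hg)]
    apply Finset.dvd_sum
    intro C hC
    obtain ⟨x, hx, rfl⟩ := Finset.mem_image.1 hC
    rw [Finset.mem_filter] at hx
    have h1 : (Finset.filter (fun g => Subgroup.zpowers g = Subgroup.zpowers x)
        (Finset.univ.filter
          (fun g : G => g ^ (p ^ (a + 1) * s) = 1 ∧ g ^ (p ^ a * s) ≠ 1))).card =
        Nat.card {g : G // Subgroup.zpowers g = Subgroup.zpowers x} := by
      rw [Nat.card_eq_fintype_card, Fintype.card_subtype]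
      congr 1
      ext g
      simp only [Finset.mem_filter, Finset.mem_univ, true_and]
      constructor
      · exact fun h => h.2
      · intro hg
        refine ⟨?_, hg⟩
        have hoo : orderOf g = orderOf x := by
          rw [← Nat.card_zpowers, hg, Nat.card_zpowers]
        rw [← orderOf_dvd_iff_pow_eq_one, Ne, ← orderOf_dvd_iff_pow_eq_one, hoo,
          orderOf_dvd_iff_pow_eq_one, orderOf_dvd_iff_pow_eq_one]
        exact hx.2
    rw [h1, card_zpowers_eq]
    exact (Dvd.intro _ (Nat.totient_prime_pow_succ hp a).symm).trans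
      (Nat.totient_dvd_of_dvd (hord x hx.2.1 hx.2.2))
  have c2 : s ∣ Nat.card {g : G // g ^ (p ^ (a + 1) * s) = 1 ∧ g ^ (p ^ a * s) ≠ 1} := by
    have hPQ : ∀ y z : G, y ^ (p ^ (a + 1)) = 1 → z ^ s = 1 → Commute y z →
        ((y * z) ^ (p ^ a * s) ≠ 1 ↔ y ^ (p ^ a) ≠ 1) := by
      intro y z hy hz hc
      have e : (y * z) ^ (p ^ a * s) = (y ^ (p ^ a)) ^ s := by
        rw [hc.mul_pow, pow_mul y, mul_comm (p ^ a) s, pow_mul z, hz, one_pow, mul_one]
      rw [e]
      refine not_congr ⟨fun h => ?_, fun h => by rw [h, one_pow]⟩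
      have h1 : orderOf (y ^ (p ^ a)) ∣ s := orderOf_dvd_of_pow_eq_one h
      have h2 : orderOf (y ^ (p ^ a)) ∣ p :=
        orderOf_dvd_of_pow_eq_one (by rw [← pow_mul, ← pow_succ]; exact hy)
      have h3 : orderOf (y ^ (p ^ a)) = 1 := by
        have h4 := Nat.dvd_gcd h2 h1
        rw [(Nat.Prime.coprime_iff_not_dvd hp).2 hps] at h4
        exact Nat.dvd_one.1 h4
      exact orderOf_eq_one_iff.1 h3
    rw [card_crt (p ^ (a + 1)) s hcop (fun g => g ^ (p ^ a * s) ≠ 1)
      (fun y => y ^ (p ^ a) ≠ 1) hPQ]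
    apply dvd_card_sigma_conj s (fun y : G => y ^ (p ^ (a + 1)) = 1 ∧ y ^ (p ^ a) ≠ 1)
      (fun y z => Commute y z ∧ z ^ s = 1)
    · rintro g y ⟨h1, h2⟩
      rw [conj_pow, conj_pow, h1]
      refine ⟨by simp, fun h3 => h2 ?_⟩
      have h4 : y ^ (p ^ a) = g⁻¹ * (g * y ^ (p ^ a) * g⁻¹) * g := by group
      rw [h4, h3]
      simp
    · rintro g y z ⟨h1, h2⟩
      refine ⟨?_, by rw [conj_pow, h2]; simp⟩
      show g * y * g⁻¹ * (g * z * g⁻¹) = g * z * g⁻¹ * (g * y * g⁻¹)
      have h3 : y * z = z * y := h1.eq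
      calc g * y * g⁻¹ * (g * z * g⁻¹) = g * (y * z) * g⁻¹ := by group
        _ = g * (z * y) * g⁻¹ := by rw [h3]
        _ = g * z * g⁻¹ * (g * y * g⁻¹) := by group
    · rintro y ⟨hy1, hy2⟩
      apply cent_count IH y ?_ s ?_ ?_
      · rintro rfl
        exact hy2 (one_pow _)
      · exact Nat.Coprime.coprime_dvd_left (orderOf_dvd_of_pow_eq_one hy1) hcop
      · exact (Dvd.intro_left _ rfl : s ∣ p ^ a * s).trans ((Dvd.intro _ rfl).trans hnp)
  have hK : p ^ a * s ∣
      Nat.card {g : G // g ^ (p ^ (a + 1) * s) = 1 ∧ g ^ (p ^ a * s) ≠ 1} :=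
    Nat.Coprime.mul_dvd_of_dvd_of_dvd
      (Nat.Coprime.pow_left _ ((Nat.Prime.coprime_iff_not_dvd hp).2 hps)) c1 c2
  have h1 : p ^ a * s ∣ Nat.card {g : G // g ^ (p ^ a * s * p) = 1} :=
    (Dvd.intro _ rfl).trans h
  rw [hsplit] at h1
  have h2 := Nat.dvd_sub h1 hK
  rwa [Nat.add_sub_cancel] at h2

theorem frobenius_aux : ∀ (N : ℕ) (G : Type u) [Group G] [Finite G], Nat.card G = N →
    ∀ m, m ∣ Nat.card G → m ∣ Nat.card {g : G // g ^ m = 1} := by
  intro N
  induction N using Nat.strong_induction_on with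
  | _ N ih =>
    intro G _ _ hN
    have IH : ∀ (H : Type u) [Group H] [Finite H], Nat.card H < Nat.card G →
        ∀ m, m ∣ Nat.card H → m ∣ Nat.card {h : H // h ^ m = 1} := by
      intro H _ _ hlt m hm
      exact ih (Nat.card H) (hN ▸ hlt) H rfl m hm
    have inner : ∀ k n : ℕ, n * k = Nat.card G → n ∣ Nat.card {g : G // g ^ n = 1} := by
      intro k
      induction k using Nat.strong_induction_on with
      | _ k ihk =>
        intro n hnk
        have hk0 : k ≠ 0 := by
          rintro rfl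
          rw [mul_zero] at hnk
          exact (Nat.card_pos (α := G)).ne' hnk.symm
        rcases Nat.lt_or_ge k 2 with hk | hk
        · have hk1 : k = 1 := by omega
          subst hk1
          rw [mul_one] at hnk
          have h1 : Nat.card {g : G // g ^ n = 1} = Nat.card G := by
            apply Nat.card_congr
            exact Equiv.subtypeUnivEquiv (fun g => by rw [hnk]; exact pow_card_eq_one')
          rw [h1, hnk]
        · obtain ⟨p, hp, hpk⟩ := Nat.exists_prime_and_dvd (by omega : k ≠ 1)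
          obtain ⟨k', rfl⟩ := hpk
          have hk'0 : 0 < k' := by
            rcases Nat.eq_zero_or_pos k' with h | h
            · subst h; simp at hk0
            · exact h
          have hk' : k' < p * k' := by
            have := hp.two_le
            nlinarith
          have h1 := ihk k' hk' (n * p) (by rw [← hnk]; ring)
          exact frob_step IH n p hp (by rw [← hnk]; exact Dvd.intro k' (by ring)) h1
    intro m hm
    obtain ⟨k, hk⟩ := hm
    exact inner k m hk.symm

/-- Frobenius' divisibility theorem. -/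
theorem frobenius {G : Type*} [Group G] [Finite G] (m : ℕ) (hm : m ∣ Nat.card G) :
    m ∣ Nat.card {g : G // g ^ m = 1} :=
  frobenius_aux _ G rfl m hm

end Cfsg.Agent.Lib.Helper21
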