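import Cfsg.Agent.Lib.Helper21.FrobCount

set_option autoImplicit false

namespace Cfsg.Agent.Lib.Helper21

universe u

/-- Fibre-count divisibility. -/
theorem dvd_card_of_fibers {α β : Type*} [DecidableEq β] (S : Finset α) (f : α → β) (d : ℕ)
    (h : ∀ x ∈ S, (S.filter (fun y => f y = f x)).card = d) : d ∣ S.card := by
  classical
  rw [Finset.card_eq_sum_card_fiberwise (f := f) (t := S.image f)
    (fun x hx => Finset.mem_image_of_mem _ hx)]
  apply Finset.dvd_sum
  intro b hb
  obtain ⟨x, hx, rfl⟩ := Finset.mem_image.1 hb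
  rw [h x hx]

theorem card_pow_eq_centralizer {G : Type*} [Group G] [Finite G] (c : G) (n : ℕ)
    (hc : c ∈ Subgroup.centralizer ({c} : Set G)) :
    Nat.card {x : G // x ^ n = c} =
      Nat.card {x : Subgroup.centralizer ({c} : Set G) // x ^ n = ⟨c, hc⟩} := by
  symm
  refine Nat.card_congr (Equiv.ofBijective
    (fun x => ⟨x.1.1, by have h0 := congrArg Subtype.val x.2; simpa using h0⟩) ⟨?_, ?_⟩)
  · intro x x' hxx'
    have h0 : x.1.1 = x'.1.1 := congrArg (fun t : {x : G // x ^ n = c} => (t : G)) hxx'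
    exact Subtype.ext (Subtype.ext h0)
  · rintro ⟨x, hx⟩
    refine ⟨⟨⟨x, ?_⟩, ?_⟩, rfl⟩
    · rw [Subgroup.mem_centralizer_iff]
      intro t ht
      rw [Set.mem_singleton_iff] at ht
      rw [ht, ← hx]
      exact pow_mul_comm' x n
    · exact Subtype.ext hx

theorem hall_coprime {G : Type*} [Group G] [Finite G] (c : G) (hc : ∀ g : G, Commute g c)
    (n : ℕ) (hn : Nat.Coprime n (orderOf c)) :
    Nat.gcd n (Nat.card G) ∣ Nat.card {x : G // x ^ n = c} := by
  have hcop : (Nat.card (Subgroup.zpowers c)).Coprime n := by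
    rw [Nat.card_zpowers]
    exact hn.symm
  obtain ⟨⟨c₁, hc₁⟩, hc₁'⟩ := (powCoprime hcop).surjective ⟨c, Subgroup.mem_zpowers c⟩
  have hc₁n : c₁ ^ n = c := by
    have h0 := congrArg Subtype.val hc₁'
    simpa using h0
  have hc₁c : ∀ g : G, Commute g c₁ := by
    intro g
    obtain ⟨i, rfl⟩ := Subgroup.mem_zpowers_iff.1 hc₁
    exact (hc g).zpow_right i
  have e : Nat.card {x : G // x ^ n = c} = Nat.card {x : G // x ^ n = 1} := by
    refine Nat.card_congr (Equiv.subtypeEquiv (Equiv.mulRight c₁⁻¹) (fun x => ?_))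
    simp only [Equiv.coe_mulRight]
    rw [((hc₁c x).inv_right).mul_pow, inv_pow, hc₁n, mul_inv_eq_one]
  rw [e, card_pow_gcd]
  exact frobenius _ (Nat.gcd_dvd_right _ _)

/-- the coset `x * ⟨x ^ m⟩` -/
def powCoset {G : Type*} [Group G] (m : ℕ) (x : G) : Set G :=
  (fun t => x * t) '' ((Subgroup.zpowers (x ^ m) : Subgroup G) : Set G)

theorem hall_prime_pow {G : Type*} [Group G] [Finite G] (c : G) (p a : ℕ) (hp : p.Prime)
    (hpc : p ∣ orderOf c) : p ^ a ∣ Nat.card {x : G // x ^ (p ^ a) = c} := by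
  classical
  haveI : Fintype G := Fintype.ofFinite G
  obtain ⟨m, hm⟩ : ∃ m, m = orderOf c := ⟨_, rfl⟩
  have hm0 : 0 < m := by rw [hm]; exact orderOf_pos c
  have hT : ∀ x : G, x ^ (p ^ a) = c → Nat.card (Subgroup.zpowers (x ^ m)) = p ^ a := by
    intro x hx
    rw [Nat.card_zpowers]
    have h1 : (x ^ m) ^ (p ^ a) = 1 := by
      rw [← pow_mul, mul_comm, pow_mul, hx, hm, pow_orderOf_eq_one]
    obtain ⟨b, hb, hb'⟩ := (Nat.dvd_prime_pow hp).1 (orderOf_dvd_of_pow_eq_one h1)
    rcases Nat.lt_or_ge b a with hlt | hge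
    · exfalso
      have h2 : (x ^ m) ^ (p ^ (a - 1)) = 1 := by
        apply orderOf_dvd_iff_pow_eq_one.1
        rw [hb']
        exact pow_dvd_pow p (by omega)
      obtain ⟨m', hm'⟩ := hpc
      have h3 : c ^ m' = 1 := by
        rw [← hx, ← pow_mul]
        have h4 : p ^ a * m' = m * p ^ (a - 1) := by
          rw [hm, hm']
          have h5 : p ^ a = p ^ (a - 1) * p := by
            rw [← pow_succ]
            congr 1
            omega
          rw [h5]
          ring
        rw [h4, pow_mul]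
        exact h2
      have h5 := orderOf_dvd_of_pow_eq_one h3
      rw [hm'] at h5
      have hm'0 : 0 < m' := by
        rcases Nat.eq_zero_or_pos m' with h | h
        · rw [h, mul_zero] at hm'
          rw [hm, hm'] at hm0
          omega
        · exact h
      have h6 := Nat.le_of_dvd hm'0 h5
      have h7 := hp.two_le
      nlinarith
    · have h8 : b = a := by omega
      rw [hb', h8]
  rw [Nat.card_eq_fintype_card, Fintype.card_subtype]
  apply dvd_card_of_fibers _ (powCoset m)
  intro x₀ hx₀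
  rw [Finset.mem_filter] at hx₀
  have hx₀' := hx₀.2
  have key : ∀ y : G, y ∈ powCoset m x₀ → y ^ (p ^ a) = c ∧ powCoset m y = powCoset m x₀ := by
    rintro y ⟨t, ht, rfl⟩
    have ht' : t ∈ Subgroup.zpowers (x₀ ^ m) := ht
    have hcomm : Commute x₀ t := by
      obtain ⟨i, rfl⟩ := Subgroup.mem_zpowers_iff.1 ht'
      exact ((Commute.refl x₀).pow_right m).zpow_right i
    have htp : t ^ (p ^ a) = 1 := by
      have h0 := hT x₀ hx₀'
      have h1 : (⟨t, ht'⟩ : Subgroup.zpowers (x₀ ^ m)) ^ (p ^ a) = 1 := by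
        rw [← h0]
        exact pow_card_eq_one'
      have h2 := congrArg Subtype.val h1
      simpa using h2
    have hy : (x₀ * t) ^ (p ^ a) = c := by rw [hcomm.mul_pow, htp, mul_one, hx₀']
    have hTy : Subgroup.zpowers ((x₀ * t) ^ m) = Subgroup.zpowers (x₀ ^ m) := by
      apply Subgroup.eq_of_le_of_card_ge
      · rw [Subgroup.zpowers_le, hcomm.mul_pow]
        exact mul_mem (Subgroup.mem_zpowers _) (pow_mem ht' m)
      · rw [hT x₀ hx₀', hT (x₀ * t) hy]
    refine ⟨hy, ?_⟩
    unfold powCoset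
    rw [hTy]
    ext z
    constructor
    · rintro ⟨s, hs, rfl⟩
      exact ⟨t * s, mul_mem ht' hs, by simp [mul_assoc]⟩
    · rintro ⟨s, hs, rfl⟩
      exact ⟨t⁻¹ * s, mul_mem (inv_mem ht') hs, by simp [mul_assoc]⟩
  have hfib : ((Finset.filter (fun y => powCoset m y = powCoset m x₀)
      (Finset.univ.filter (fun x : G => x ^ (p ^ a) = c)) : Finset G) : Set G) =
      powCoset m x₀ := by
    ext y
    simp only [Finset.coe_filter, Finset.mem_filter, Finset.mem_univ, true_and,
      Set.mem_ofPred_eq]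
    constructor
    · rintro ⟨_, h2⟩
      rw [← h2]
      exact ⟨1, one_mem _, mul_one y⟩
    · intro hy
      exact key y hy
  rw [← Set.ncard_coe_finset, hfib]
  unfold powCoset
  rw [Set.ncard_image_of_injective _ (mul_right_injective x₀), ← Nat.card_coe_set_eq]
  exact hT x₀ hx₀'

theorem hall_split {G : Type u} [Group G] [Finite G] (c : G) (hc : ∀ g : G, Commute g c)
    (n₁ n₂ : ℕ)
    (H1 : ∀ y : G, Nat.gcd n₁ (Nat.card (Subgroup.centralizer ({y} : Set G))) ∣
      Nat.card {x : G // x ^ n₁ = y}) :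
    Nat.gcd n₁ (Nat.card G) ∣ Nat.card {x : G // x ^ (n₁ * n₂) = c} := by
  have e : Nat.card {x : G // x ^ (n₁ * n₂) = c} =
      Nat.card (Σ y : {y : G // y ^ n₂ = c}, {x : G // x ^ n₁ = y.1}) := by
    refine Nat.card_congr (Equiv.ofBijective
      (fun x => ⟨⟨x.1 ^ n₁, by rw [← pow_mul]; exact x.2⟩, ⟨x.1, rfl⟩⟩) ⟨?_, ?_⟩)
    · intro x x' hxx'
      have h2 : x.1 = x'.1 := congrArg (fun s => (s.2 : G)) hxx'
      exact Subtype.ext h2
    · rintro ⟨⟨y, hy⟩, ⟨x, hx⟩⟩
      have hx' : x ^ n₁ = y := hx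
      refine ⟨⟨x, by rw [pow_mul, hx']; exact hy⟩, ?_⟩
      apply Sigma.subtype_ext
      · exact Subtype.ext hx'
      · rfl
  rw [e]
  apply dvd_card_sigma_conj (Nat.gcd n₁ (Nat.card G)) (fun y : G => y ^ n₂ = c)
    (fun y x => x ^ n₁ = y)
  · intro g y hy
    rw [conj_pow, hy, (hc g).eq, mul_inv_cancel_right]
  · intro g y x hx
    rw [conj_pow, hx]
  · intro y _
    have h1 := H1 y
    have h2 : Nat.gcd n₁ (Nat.card G) ∣ (Subgroup.centralizer ({y} : Set G)).index *
        Nat.gcd n₁ (Nat.card (Subgroup.centralizer ({y} : Set G))) := by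
      rw [← Nat.gcd_mul_left, Subgroup.index_mul_card]
      exact Nat.dvd_gcd ((Nat.gcd_dvd_left _ _).trans (Dvd.intro_left _ rfl))
        (Nat.gcd_dvd_right _ _)
    exact h2.trans (Nat.mul_dvd_mul_left _ h1)

theorem hall_aux : ∀ (n : ℕ) (G : Type u) [Group G] [Finite G] (c : G),
    Nat.gcd n (Nat.card (Subgroup.centralizer ({c} : Set G))) ∣
      Nat.card {x : G // x ^ n = c} := by
  intro n
  induction n using Nat.strong_induction_on with
  | _ n ih =>
    have central : ∀ (G : Type u) [Group G] [Finite G] (c : G), (∀ g : G, Commute g c) →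
        Nat.gcd n (Nat.card G) ∣ Nat.card {x : G // x ^ n = c} := by
      intro G _ _ c hc
      rcases Nat.eq_zero_or_pos n with hn0 | hn0
      · subst hn0
        rw [Nat.gcd_zero_left]
        by_cases hc1 : c = 1
        · subst hc1
          have h1 : Nat.card {x : G // x ^ 0 = 1} = Nat.card G :=
            Nat.card_congr (Equiv.subtypeUnivEquiv (fun x => pow_zero x))
          rw [h1]
        · haveI : IsEmpty {x : G // x ^ 0 = c} :=
            ⟨fun x => hc1 (by rw [← x.2, pow_zero])⟩
          have h2 : Nat.card {x : G // x ^ 0 = c} = 0 := Nat.card_of_isEmpty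
          rw [h2]
          exact dvd_zero _
      · by_cases hcop : Nat.Coprime n (orderOf c)
        · exact hall_coprime c hc n hcop
        · obtain ⟨p, hp, hpn, hpc⟩ := Nat.Prime.not_coprime_iff_dvd.1 hcop
          obtain ⟨a, n₂, hpn₂, hn⟩ := Nat.exists_eq_pow_mul_and_not_dvd hn0.ne' p hp.ne_one
          have ha : 0 < a := by
            rcases Nat.eq_zero_or_pos a with h | h
            · rw [h, pow_zero, one_mul] at hn
              rw [hn] at hpn
              exact absurd hpn hpn₂
            · exact h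
          have hn₂0 : 0 < n₂ := by
            rcases Nat.eq_zero_or_pos n₂ with h | h
            · rw [h, mul_zero] at hn
              omega
            · exact h
          rcases Nat.lt_or_ge n₂ 2 with hlt | hge
          · have hn₂1 : n₂ = 1 := by omega
            rw [hn₂1, mul_one] at hn
            rw [hn]
            exact (Nat.gcd_dvd_left _ _).trans (hall_prime_pow c p a hp hpc)
          · have hpa : 2 ≤ p ^ a := by
              calc 2 ≤ p := hp.two_le
                _ = p ^ 1 := (pow_one p).symm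
                _ ≤ p ^ a := Nat.pow_le_pow_right hp.pos ha
            have hlt1 : p ^ a < n := by rw [hn]; nlinarith
            have hlt2 : n₂ < n := by rw [hn]; nlinarith
            have hcop' : Nat.Coprime (p ^ a) n₂ :=
              Nat.Coprime.pow_left _ ((Nat.Prime.coprime_iff_not_dvd hp).2 hpn₂)
            have d1 := hall_split c hc (p ^ a) n₂ (fun y => ih (p ^ a) hlt1 G y)
            have d2 := hall_split c hc n₂ (p ^ a) (fun y => ih n₂ hlt2 G y)
            rw [mul_comm n₂ (p ^ a)] at d2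
            rw [hn, Nat.gcd_comm, Nat.Coprime.gcd_mul _ hcop',
              Nat.gcd_comm (Nat.card G) (p ^ a), Nat.gcd_comm (Nat.card G) n₂]
            exact Nat.Coprime.mul_dvd_of_dvd_of_dvd
              (Nat.Coprime.coprime_dvd_left (Nat.gcd_dvd_left _ _)
                (Nat.Coprime.coprime_dvd_right (Nat.gcd_dvd_left _ _) hcop')) d1 d2
    intro G _ _ c
    have hcC : c ∈ Subgroup.centralizer ({c} : Set G) := by
      rw [Subgroup.mem_centralizer_iff]
      intro t ht
      rw [Set.mem_singleton_iff] at ht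
      rw [ht]
    rw [card_pow_eq_centralizer c n hcC]
    apply central
    intro g
    exact Subtype.ext (Subgroup.mem_centralizer_iff.1 g.2 c rfl).symm

theorem card_isConj_eq_index {G : Type*} [Group G] [Finite G] (c : G) :
    Nat.card {y : G // IsConj c y} = (Subgroup.centralizer ({c} : Set G)).index := by
  letI act : MulAction G {y : G // IsConj c y} :=
    { smul := fun g y => ⟨g * y.1 * g⁻¹, y.2.trans (isConj_iff.2 ⟨g, rfl⟩)⟩
      one_smul := fun y => Subtype.ext (by
        show 1 * y.1 * 1⁻¹ = y.1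
        simp)
      mul_smul := fun g g' y => Subtype.ext (by
        show g * g' * y.1 * (g * g')⁻¹ = g * (g' * y.1 * g'⁻¹) * g⁻¹
        simp [mul_assoc]) }
  haveI : MulAction.IsPretransitive G {y : G // IsConj c y} := by
    refine ⟨fun y y' => ?_⟩
    obtain ⟨g, hg⟩ := isConj_iff.1 (y.2.symm.trans y'.2)
    exact ⟨g, Subtype.ext hg⟩
  rw [← MulAction.index_stabilizer_of_transitive G (⟨c, IsConj.refl c⟩ : {y : G // IsConj c y})]
  congr 1
  ext g
  rw [MulAction.mem_stabilizer_iff, Subgroup.mem_centralizer_iff]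
  constructor
  · intro hg t ht
    rw [Set.mem_singleton_iff] at ht
    rw [ht]
    have h1 : g * c * g⁻¹ = c := congrArg Subtype.val hg
    calc c * g = g * c * g⁻¹ * g := by rw [h1]
      _ = g * c := by group
  · intro hg
    apply Subtype.ext
    show g * c * g⁻¹ = c
    rw [← hg c rfl]
    group

/-- P. Hall's generalisation of Frobenius' theorem. -/
theorem hall {G : Type u} [Group G] [Finite G] (c : G) (n : ℕ) :
    Nat.gcd (Nat.card {y : G // IsConj c y} * n) (Nat.card G) ∣
      Nat.card {x : G // IsConj c (x ^ n)} := by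
  have e : Nat.card {x : G // IsConj c (x ^ n)} =
      Nat.card (Σ y : {y : G // IsConj c y}, {x : G // x ^ n = y.1}) := by
    refine Nat.card_congr (Equiv.ofBijective
      (fun x => ⟨⟨x.1 ^ n, x.2⟩, ⟨x.1, rfl⟩⟩) ⟨?_, ?_⟩)
    · intro x x' hxx'
      have h2 : x.1 = x'.1 := congrArg (fun s => (s.2 : G)) hxx'
      exact Subtype.ext h2
    · rintro ⟨⟨y, hy⟩, ⟨x, hx⟩⟩
      have hx' : x ^ n = y := hx
      refine ⟨⟨x, by rw [hx']; exact hy⟩, ?_⟩
      apply Sigma.subtype_ext
      · exact Subtype.ext hx'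
      · rfl
  rw [e]
  apply dvd_card_sigma_conj _ (fun y : G => IsConj c y) (fun y x => x ^ n = y)
  · intro g y hy
    exact hy.trans (isConj_iff.2 ⟨g, rfl⟩)
  · intro g y x hx
    rw [conj_pow, hx]
  · intro y hy
    have h1 := hall_aux n G y
    have hidx : Nat.card {y' : G // IsConj c y'} =
        (Subgroup.centralizer ({y} : Set G)).index := by
      rw [← card_isConj_eq_index y]
      exact Nat.card_congr (Equiv.subtypeEquivRight
        (fun z => ⟨fun h => hy.symm.trans h, fun h => hy.trans h⟩))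
    rw [hidx]
    have h2 : Nat.gcd ((Subgroup.centralizer ({y} : Set G)).index * n) (Nat.card G) ∣
        (Subgroup.centralizer ({y} : Set G)).index *
          Nat.gcd n (Nat.card (Subgroup.centralizer ({y} : Set G))) := by
      rw [← Nat.gcd_mul_left, Subgroup.index_mul_card]
    exact h2.trans (Nat.mul_dvd_mul_left _ h1)

end Cfsg.Agent.Lib.Helper21
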