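import Mathlib
import Cfsg.Prelude.Def_TwoFusion
import Cfsg.Prelude.Def_CaseTheorems
import Cfsg.Agent.Lib.Helper10.ZS7
import Cfsg.Agent.Lib.Helper10.Invol
import Cfsg.Agent.Lib.Helper1.Cores
import Cfsg.Agent.Lib.Helper1.CoprimeSylow
import Cfsg.Agent.Lib.Helper21.Basic

set_option autoImplicit false

/-! Isolated involutions: consequences of Glauberman's `Z*`-theorem (`Helper10.ZS.zstar`). -/

namespace Cfsg.Agent.Lib.Helper21

universe u

section IsoInv

variable {G : Type u} [Group G]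

/-- An involution normalizes `K` as soon as it conjugates `K` into itself. -/
theorem invol_mem_normalizer {z : G} (hz : z * z = 1) {K : Subgroup G}
    (h : ∀ x ∈ K, z * x * z⁻¹ ∈ K) : z ∈ Subgroup.normalizer (K : Set G) := by
  rw [Subgroup.mem_normalizer_iff]
  intro x
  refine ⟨h x, fun hx => ?_⟩
  have hzi : z⁻¹ = z := inv_eq_of_mul_eq_one_left hz
  have h1 := h _ hx
  have e : z * (z * x * z⁻¹) * z⁻¹ = x := by
    rw [hzi]
    calc z * (z * x * z) * z = (z * z) * x * (z * z) := by group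
      _ = x := by rw [hz]; group
  rwa [e] at h1

theorem exists_sqrt_of_odd {w : G} (hw : Odd (orderOf w)) : ∃ k : ℕ, w ^ k * w ^ k = w := by
  obtain ⟨j, hj⟩ := hw
  refine ⟨j + 1, ?_⟩
  rw [← pow_add]
  have e : j + 1 + (j + 1) = orderOf w + 1 := by omega
  rw [e, pow_succ, pow_orderOf_eq_one, one_mul]

theorem conj_pow_inv {z w : G} (h : z * w * z⁻¹ = w⁻¹) (k : ℕ) :
    z * w ^ k * z⁻¹ = (w ^ k)⁻¹ := by
  rw [← conj_pow, h, inv_pow]

theorem iso_comm_mem_core [Finite G] {z : G} (hz : Cfsg.IsIsolatedInvolution z) (g : G) :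
    z * g * z⁻¹ * g⁻¹ ∈ Cfsg.pPrimeCore 2 G :=
  Cfsg.Agent.Lib.Helper10.ZS.zstar z hz g

theorem odd_orderOf_of_mem_core [Finite G] {w : G} (hw : w ∈ Cfsg.pPrimeCore 2 G) :
    Odd (orderOf w) := by
  have h1 : orderOf (⟨w, hw⟩ : ↥(Cfsg.pPrimeCore 2 G)) ∣ Nat.card ↥(Cfsg.pPrimeCore 2 G) :=
    orderOf_dvd_natCard _
  rw [Subgroup.orderOf_mk] at h1
  have h2 := Cfsg.Agent.Lib.Helper1.pPrimeCore_coprime (G := G) 2
  rw [← Nat.not_even_iff_odd]
  intro he
  have h3 : 2 ∣ Nat.card ↥(Cfsg.pPrimeCore 2 G) := (even_iff_two_dvd.mp he).trans h1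
  have h4 : (2 : ℕ) ∣ Nat.gcd (Nat.card ↥(Cfsg.pPrimeCore 2 G)) 2 := Nat.dvd_gcd h3 dvd_rfl
  rw [h2] at h4
  omega

/-- `G = O(G) C_G(z)` for an isolated involution `z`. -/
theorem iso_exists_core_mul_cent [Finite G] {z : G} (hz : Cfsg.IsIsolatedInvolution z) (g : G) :
    ∃ o ∈ Cfsg.pPrimeCore 2 G, ∃ c ∈ Subgroup.centralizer ({z} : Set G), g = o * c := by
  have hzz : z * z = 1 := Cfsg.Agent.Lib.Helper10.orderOf_two_mul_self hz.1
  have hzi : z⁻¹ = z := inv_eq_of_mul_eq_one_left hzz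
  obtain ⟨w, hwdef⟩ : ∃ w, w = z * g * z⁻¹ * g⁻¹ := ⟨_, rfl⟩
  have hw : w ∈ Cfsg.pPrimeCore 2 G := hwdef ▸ iso_comm_mem_core hz g
  have hinv : z * w * z⁻¹ = w⁻¹ := by
    rw [hwdef, hzi]
    have e1 : z * (z * g * z * g⁻¹) * z = (z * z) * g * z * g⁻¹ * z := by group
    have e2 : (z * g * z * g⁻¹)⁻¹ = g * z⁻¹ * g⁻¹ * z⁻¹ := by group
    rw [e1, e2, hzz, hzi, one_mul]
  obtain ⟨k, hk⟩ := exists_sqrt_of_odd (odd_orderOf_of_mem_core hw)
  have hu : w ^ k ∈ Cfsg.pPrimeCore 2 G := Subgroup.pow_mem _ hw k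
  have huinv := conj_pow_inv hinv k
  refine ⟨(w ^ k)⁻¹, Subgroup.inv_mem _ hu, w ^ k * g, ?_, by group⟩
  rw [Subgroup.mem_centralizer_iff]
  intro y hy
  rw [Set.mem_singleton_iff] at hy
  rw [hy]
  have h1 : z * g * z⁻¹ = w * g := by rw [hwdef]; group
  calc z * (w ^ k * g) = (z * w ^ k * z⁻¹) * (z * g * z⁻¹) * z := by group
    _ = (w ^ k)⁻¹ * (w * g) * z := by rw [huinv, h1]
    _ = (w ^ k)⁻¹ * (w ^ k * w ^ k * g) * z := by rw [hk]
    _ = w ^ k * g * z := by group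

theorem isPGroup_two_zpowers {z : G} (hz : orderOf z = 2) : IsPGroup 2 (Subgroup.zpowers z) := by
  apply IsPGroup.of_card (n := 1)
  rw [Nat.card_zpowers, hz, pow_one]

theorem zpowers_comm (z : G) : ∀ a ∈ Subgroup.zpowers z, ∀ b ∈ Subgroup.zpowers z, a * b = b * a := by
  intro a ha b hb
  obtain ⟨i, rfl⟩ := Subgroup.mem_zpowers_iff.mp ha
  obtain ⟨j, rfl⟩ := Subgroup.mem_zpowers_iff.mp hb
  rw [← zpow_add, ← zpow_add, add_comm]

theorem zpowers_solvable (z : G) : Group.IsSolvable (Subgroup.zpowers z) :=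
  Group.isSolvable_of_comm (fun a b => Subtype.ext (zpowers_comm z a a.2 b b.2))

/-- An isolated involution normalizes a Sylow `p`-subgroup, for every prime `p`. -/
theorem iso_exists_sylow [Finite G] {z : G} (hz : Cfsg.IsIsolatedInvolution z) (p : ℕ)
    [Fact p.Prime] : ∃ P : Sylow p G, z ∈ Subgroup.normalizer ((P : Subgroup G) : Set G) := by
  have hpp : p.Prime := Fact.out
  have hzz : z * z = 1 := Cfsg.Agent.Lib.Helper10.orderOf_two_mul_self hz.1
  by_cases hp2 : p = 2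
  · subst hp2
    obtain ⟨P, hP⟩ := (isPGroup_two_zpowers hz.1).exists_le_sylow
    exact ⟨P, Subgroup.le_normalizer (hP (Subgroup.mem_zpowers z))⟩
  · obtain ⟨O, hO⟩ : ∃ O : Subgroup G, O = Cfsg.pPrimeCore 2 G := ⟨_, rfl⟩
    haveI hOn : O.Normal := hO ▸ Cfsg.Agent.Lib.Helper1.pPrimeCore_normal 2
    have hOcop : (Nat.card O).Coprime 2 := hO ▸ Cfsg.Agent.Lib.Helper1.pPrimeCore_coprime 2
    have hcomm : ∀ g : G, z * g * z⁻¹ * g⁻¹ ∈ O := fun g => hO ▸ iso_comm_mem_core hz g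
    obtain ⟨Pb⟩ : Nonempty (Sylow p (G ⧸ O)) := inferInstance
    obtain ⟨R, hR⟩ : ∃ R : Subgroup G,
        R = (Pb : Subgroup (G ⧸ O)).comap (QuotientGroup.mk' O) := ⟨_, rfl⟩
    have hOR : O ≤ R := by
      intro x hx
      rw [hR, Subgroup.mem_comap]
      have e : (QuotientGroup.mk' O) x = 1 := (QuotientGroup.eq_one_iff x).mpr hx
      rw [e]; exact Subgroup.one_mem _
    have hzR : z ∈ Subgroup.normalizer (R : Set G) := by
      apply invol_mem_normalizer hzz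
      intro x hx
      have e : z * x * z⁻¹ = (z * x * z⁻¹ * x⁻¹) * x := by group
      rw [e]; exact R.mul_mem (hOR (hcomm x)) hx
    have hpodd : Odd p := hpp.odd_of_ne_two hp2
    have hRcop : (Nat.card (Subgroup.zpowers z)).Coprime (Nat.card R) := by
      rw [Nat.card_zpowers, hz.1, Nat.coprime_two_left, ← Nat.not_even_iff_odd]
      intro he
      have h2 : 2 ∣ Nat.card R := even_iff_two_dvd.mp he
      obtain ⟨t, ht⟩ := exists_prime_orderOf_dvd_card' 2 h2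
      obtain ⟨tG, htR⟩ := t
      rw [Subgroup.orderOf_mk] at ht
      have htt : tG ^ 2 = 1 := by rw [← ht]; exact pow_orderOf_eq_one tG
      rw [hR, Subgroup.mem_comap] at htR
      obtain ⟨k, hk⟩ := Pb.isPGroup' ⟨_, htR⟩
      have hk' : ((QuotientGroup.mk' O) tG) ^ p ^ k = 1 := by
        have h5 := congrArg Subtype.val hk
        simpa using h5
      rw [← map_pow] at hk'
      have hmem : tG ^ p ^ k ∈ O := (QuotientGroup.eq_one_iff _).mp hk'
      obtain ⟨j, hj⟩ := hpodd.pow (n := k)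
      have ht1 : tG ^ p ^ k = tG := by
        rw [hj, pow_succ, pow_mul, htt, one_pow, one_mul]
      rw [ht1] at hmem
      have h3 : orderOf (⟨tG, hmem⟩ : ↥O) ∣ Nat.card O := orderOf_dvd_natCard _
      rw [Subgroup.orderOf_mk, ht] at h3
      have h4 : (2 : ℕ) ∣ Nat.gcd (Nat.card O) 2 := Nat.dvd_gcd h3 dvd_rfl
      rw [hOcop] at h4
      omega
    obtain ⟨P, hP⟩ := Cfsg.Agent.Lib.Helper1.exists_invariant_sylow (Subgroup.zpowers z) R
      (Subgroup.zpowers_le.mpr hzR) hRcop (Or.inl (zpowers_solvable z)) p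
    obtain ⟨Q, hQ⟩ : ∃ Q : Subgroup G, Q = (P : Subgroup R).map R.subtype := ⟨_, rfl⟩
    rw [← hQ] at hP
    have hQp : IsPGroup p Q := hQ ▸ P.isPGroup'.map R.subtype
    have hidx : ¬ p ∣ Q.index := by
      rw [hQ, Subgroup.index_map_subtype]
      intro hdvd
      rcases hpp.dvd_mul.mp hdvd with h | h
      · exact P.not_dvd_index h
      · rw [hR, Subgroup.index_comap_of_surjective _ (QuotientGroup.mk'_surjective O)] at h
        exact Pb.not_dvd_index h
    refine ⟨hQp.toSylow hidx, ?_⟩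
    rw [IsPGroup.toSylow_coe]
    exact hP (Subgroup.mem_zpowers z)

end IsoInv

end Cfsg.Agent.Lib.Helper21
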