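import Mathlib
import Cfsg.Agent.Lib.Helper21.Basic
import Cfsg.Agent.Lib.Helper21.Subnormal
import Cfsg.Agent.Lib.Helper21.Wielandt
import Cfsg.Agent.Lib.Helper24.Fitting

set_option autoImplicit false

namespace Cfsg.Agent.Lib.Helper21

section Nilp

variable {G : Type*} [Group G]

theorem map_conj_subgroupOf (A K : Subgroup G) (a : A) :
    (K.subgroupOf A).map (MulAut.conj a).toMonoidHom =
      (K.map (MulAut.conj (a : G)).toMonoidHom).subgroupOf A := by
  ext y
  rw [mem_map_conj, Subgroup.mem_subgroupOf, Subgroup.mem_subgroupOf, mem_map_conj]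
  simp

theorem map_conj_le_of_mem {K A : Subgroup G} (hKA : K ≤ A) {a : G}
    (ha : a ∈ A) : K.map (MulAut.conj a).toMonoidHom ≤ A := by
  rintro _ ⟨k, hk, rfl⟩
  show a * k * a⁻¹ ∈ A
  exact A.mul_mem (A.mul_mem ha (hKA hk)) (A.inv_mem ha)

theorem map_conj_le_of_normal {K A : Subgroup G} (hKA : K ≤ A)
    (hA : A.Normal) (g : G) : K.map (MulAut.conj g).toMonoidHom ≤ A := by
  rintro _ ⟨k, hk, rfl⟩
  show g * k * g⁻¹ ∈ A
  exact hA.conj_mem k (hKA hk) g

theorem isSubnormal_map_conj {H : Subgroup G} (hH : H.IsSubnormal) (g : G) :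
    (H.map (MulAut.conj g).toMonoidHom).IsSubnormal :=
  hH.map (MulAut.conj g).surjective

/-- Every subgroup of a finite nilpotent group is subnormal. -/
theorem isSubnormal_of_isNilpotent {N : Type*} [Group N] [Finite N] (hN : Group.IsNilpotent N)
    (R : Subgroup N) : R.IsSubnormal := by
  have hnc : NormalizerCondition N := Group.normalizerCondition_of_isNilpotent
  induction R using (wellFounded_gt (α := Subgroup N)).induction with
  | _ R ih =>
    by_cases hR : R = ⊤
    · rw [hR]; exact Subgroup.IsSubnormal.top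
    · have hlt : R < Subgroup.normalizer (R : Set N) := hnc R (lt_top_iff_ne_top.mpr hR)
      exact Subgroup.IsSubnormal.step R _ hlt.le (ih _ hlt)
        ((Subgroup.normal_subgroupOf_iff_le_normalizer hlt.le).mpr le_rfl)

theorem fittingSubgroup_isNilpotent [Finite G] : Group.IsNilpotent (Cfsg.fittingSubgroup G) :=
  Cfsg.Agent.Lib.Helper24.fitting_nilpotent

/-- Every subgroup of the Fitting subgroup is subnormal. -/
theorem isSubnormal_of_le_fittingSubgroup [Finite G] {H : Subgroup G}
    (hH : H ≤ Cfsg.fittingSubgroup G) : H.IsSubnormal :=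
  Subgroup.IsSubnormal.trans hH (isSubnormal_of_isNilpotent fittingSubgroup_isNilpotent _)
    fittingSubgroup_normal.isSubnormal

/-- Existence of a minimal normal subgroup in a nontrivial finite group. -/
theorem exists_minimal_normal [Finite G] [Nontrivial G] :
    ∃ A : Subgroup G, A.Normal ∧ A ≠ ⊥ ∧
      ∀ B : Subgroup G, B.Normal → B ≠ ⊥ → B ≤ A → B = A := by
  let S : Set (Subgroup G) := {B | B ≠ ⊥ ∧ B.Normal}
  have hTop : (⊤ : Subgroup G) ∈ S := ⟨top_ne_bot, Subgroup.normal_top⟩
  obtain ⟨A, ⟨hA1, hAn⟩, hAmin⟩ := (wellFounded_lt (α := Subgroup G)).has_min S ⟨⊤, hTop⟩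
  refine ⟨A, hAn, hA1, ?_⟩
  intro B hBn hB1 hBA
  by_contra hne
  exact hAmin B ⟨hB1, hBn⟩ (lt_of_le_of_ne hBA hne)

/-- The join of the `M`-conjugates of `L`. -/
theorem iSup_conj_props (M L : Subgroup G) :
    L ≤ (⨆ m : M, L.map (MulAut.conj (m : G)).toMonoidHom) ∧
    M ≤ Subgroup.normalizer
      (((⨆ m : M, L.map (MulAut.conj (m : G)).toMonoidHom) : Subgroup G) : Set G) := by
  constructor
  · have h1 := le_iSup (fun m : M => L.map (MulAut.conj (m : G)).toMonoidHom) 1
    have h2 : L.map (MulAut.conj ((1 : M) : G)).toMonoidHom = L := by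
      rw [Subgroup.coe_one, map_conj_one]
    rw [h2] at h1; exact h1
  · apply le_normalizer_of_forall_map_conj_le
    intro g hg
    rw [Subgroup.map_iSup]
    apply iSup_le
    intro k
    rw [← map_conj_mul]
    exact le_iSup (fun m : M => L.map (MulAut.conj (m : G)).toMonoidHom) ⟨g * k, M.mul_mem hg k.2⟩

end Nilp

end Cfsg.Agent.Lib.Helper21
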