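import Mathlib

set_option autoImplicit false

namespace Cfsg.Agent.Lib.Helper21

/-- Norm argument: if a finite group `Γ` acting on a finite abelian group `V` is partitioned by a
family of `k + 1` subgroups, `k` is prime to `|V|`, and every member of the family has no nontrivial
fixed point on `V`, then `V` is trivial. -/
theorem partition_norm {Γ V ι : Type*} [Group Γ] [Finite Γ] [CommGroup V] [Finite V]
    (φ : Γ →* MulAut V) (s : Finset ι) (B : ι → Subgroup Γ) (hne : s.Nonempty)
    (hpart : ∀ a : Γ, a ≠ 1 → ∃! i, i ∈ s ∧ a ∈ B i)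
    (hk : (s.card - 1).Coprime (Nat.card V))
    (hfix : ∀ i ∈ s, ∀ v : V, (∀ b ∈ B i, φ b v = v) → v = 1) (v : V) : v = 1 := by
  classical
  haveI := Fintype.ofFinite Γ
  have hnorm : ∀ (H : Subgroup Γ), ∀ c ∈ H,
      φ c (∏ g : Γ, if g ∈ H then φ g v else 1) = ∏ g : Γ, if g ∈ H then φ g v else 1 := by
    intro H c hc
    rw [map_prod]
    apply Fintype.prod_equiv (Equiv.mulLeft c)
    intro g
    simp only [Equiv.coe_mulLeft]
    by_cases hg : g ∈ H
    · have : c * g ∈ H := H.mul_mem hc hg
      simp [hg, this, map_mul]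
    · have : c * g ∉ H := fun h => hg (by simpa using H.mul_mem (H.inv_mem hc) h)
      simp [hg, this]
  have h1 : ∀ i ∈ s, (∏ g : Γ, if g ∈ B i then φ g v else 1) = 1 :=
    fun i hi => hfix i hi _ (fun b hb => hnorm (B i) b hb)
  have hall : (∏ g : Γ, φ g v) = 1 := by
    obtain ⟨i, hi⟩ := hne
    apply hfix i hi
    intro b hb
    have := hnorm ⊤ b (Subgroup.mem_top b)
    simpa using this
  have hcount : ∏ i ∈ s, (∏ g : Γ, if g ∈ B i then φ g v else 1) =
      (∏ g : Γ, φ g v) * v ^ (s.card - 1) := by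
    rw [Finset.prod_comm]
    have hg : ∀ g : Γ, (∏ i ∈ s, if g ∈ B i then φ g v else 1) =
        if g = 1 then v ^ s.card else φ g v := by
      intro g
      by_cases hg : g = 1
      · subst hg; simp [Subgroup.one_mem]
      · obtain ⟨i0, ⟨hi0, hgi0⟩, huniq⟩ := hpart g hg
        rw [if_neg hg, Finset.prod_eq_single i0]
        · simp [hgi0]
        · intro j hj hne
          have : g ∉ B j := fun h => hne (huniq j ⟨hj, h⟩)
          simp [this]
        · intro h; exact absurd hi0 h
    simp_rw [hg]
    rw [← Finset.mul_prod_erase Finset.univ _ (Finset.mem_univ (1:Γ)),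
      ← Finset.mul_prod_erase Finset.univ (fun g => φ g v) (Finset.mem_univ (1:Γ))]
    simp only [if_true, map_one, MulAut.one_apply]
    have he : ∏ x ∈ Finset.univ.erase (1:Γ), (if x = 1 then v ^ s.card else φ x v) =
        ∏ x ∈ Finset.univ.erase (1:Γ), φ x v :=
      Finset.prod_congr rfl (fun x hx => by rw [if_neg (Finset.ne_of_mem_erase hx)])
    rw [he]
    have hc : s.card = (s.card - 1) + 1 := by
      have := Finset.card_pos.mpr hne
      omega
    conv_lhs => rw [hc, pow_succ]
    rw [mul_comm (v ^ (s.card - 1)) v, mul_assoc, mul_comm (v ^ (s.card - 1)), ← mul_assoc]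
  rw [Finset.prod_eq_one h1, hall, one_mul] at hcount
  have hord : orderOf v ∣ s.card - 1 := orderOf_dvd_of_pow_eq_one hcount.symm
  have hord2 : orderOf v ∣ Nat.card V := orderOf_dvd_natCard v
  have : orderOf v = 1 := Nat.eq_one_of_dvd_coprimes hk hord hord2
  exact orderOf_eq_one_iff.mp this

end Cfsg.Agent.Lib.Helper21
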