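import Mathlib
import Cfsg.Agent.Lib.Helper1.SZ
import Cfsg.Agent.Lib.Helper1.Hall
import Cfsg.Agent.Lib.Helper1.Coprime
import Cfsg.Agent.Lib.Helper1.Cores
import Cfsg.Agent.Lib.Helper21.Basic

set_option autoImplicit false

namespace Cfsg.Agent.Lib.Helper21

open scoped Pointwise

section PComp

universe u

variable {G : Type u} [Group G]

/-- `H` is a `p`-complement: of order prime to `p` and index a power of `p`. -/
def IsPComp (p : ℕ) (H : Subgroup G) : Prop :=
  (Nat.card H).Coprime p ∧ ∃ n : ℕ, H.index = p ^ n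

theorem IsPComp.map_conj {p : ℕ} {H : Subgroup G} (h : IsPComp p H) (g : G) :
    IsPComp p (H.map (MulAut.conj g).toMonoidHom) := by
  obtain ⟨h1, n, hn⟩ := h
  exact ⟨by rw [card_map_conj]; exact h1, n, by rw [index_map_conj]; exact hn⟩

theorem IsPComp.card_eq [Finite G] {p : ℕ} {H₁ H₂ : Subgroup G}
    (h₁ : IsPComp p H₁) (h₂ : IsPComp p H₂) : Nat.card H₁ = Nat.card H₂ := by
  have key : ∀ {A B : Subgroup G}, IsPComp p A → IsPComp p B → Nat.card A ∣ Nat.card B := by
    intro A B hA hB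
    obtain ⟨hA1, a, ha⟩ := hA
    obtain ⟨hB1, b, hb⟩ := hB
    have e1 := Subgroup.card_mul_index A
    have e2 := Subgroup.card_mul_index B
    rw [ha] at e1
    rw [hb] at e2
    have h3 : Nat.card A ∣ Nat.card B * p ^ b := by
      rw [e2, ← e1]; exact dvd_mul_right _ _
    exact (Nat.Coprime.pow_right b hA1).dvd_of_dvd_mul_right h3
  exact Nat.dvd_antisymm (key h₁ h₂) (key h₂ h₁)

theorem IsPComp.map_mk' [Finite G] {p : ℕ} [Fact p.Prime] (M : Subgroup G) [M.Normal]
    {H : Subgroup G} (h : IsPComp p H) : IsPComp p (H.map (QuotientGroup.mk' M)) := by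
  obtain ⟨h1, n, hn⟩ := h
  refine ⟨?_, ?_⟩
  · have hd : Nat.card (H.map (QuotientGroup.mk' M)) ∣ Nat.card H :=
      Subgroup.card_dvd_of_surjective _ ((QuotientGroup.mk' M).subgroupMap_surjective H)
    exact Nat.Coprime.coprime_dvd_left hd h1
  · have hd := Subgroup.index_map_dvd H (QuotientGroup.mk'_surjective M)
    rw [hn] at hd
    obtain ⟨k, -, hk⟩ := (Nat.dvd_prime_pow Fact.out).mp hd
    exact ⟨k, hk⟩

theorem map_conj_map {G' : Type*} [Group G'] (f : G →* G') (H : Subgroup G) (g : G) :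
    (H.map (MulAut.conj g).toMonoidHom).map f =
      (H.map f).map (MulAut.conj (f g)).toMonoidHom := by
  rw [Subgroup.map_map, Subgroup.map_map]
  congr 1
  ext x
  simp

/-- A normal `p'`-subgroup lies in every `p`-complement. -/
theorem IsPComp.normal_le [Finite G] {p : ℕ} {H : Subgroup G}
    (h : IsPComp p H) (M : Subgroup G) [M.Normal] (hM : (Nat.card M).Coprime p) : M ≤ H := by
  obtain ⟨h1, n, hn⟩ := h
  have hd1 : H.relIndex (H ⊔ M) ∣ p ^ n := hn ▸ Subgroup.relIndex_dvd_index_of_le le_sup_left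
  have hd2 : H.relIndex (H ⊔ M) ∣ Nat.card ↥(H ⊔ M) :=
    ⟨Nat.card H, by rw [mul_comm]; exact (card_mul_relIndex le_sup_left).symm⟩
  have hd3 : Nat.card ↥(H ⊔ M) ∣ Nat.card H * Nat.card M :=
    Helper1.card_sup_dvd_mul_of_normal H M
  have hcop : (H.relIndex (H ⊔ M)).Coprime p :=
    Nat.Coprime.coprime_dvd_left (hd2.trans hd3) (Nat.Coprime.mul_left h1 hM)
  have h1' : H.relIndex (H ⊔ M) = 1 :=
    Nat.Coprime.eq_one_of_dvd (Nat.Coprime.pow_right n hcop) hd1
  exact le_sup_right.trans (Subgroup.relIndex_eq_one.mp h1')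

/-- Lifting a `p`-complement from the quotient by a normal `p`-subgroup or `p'`-subgroup. -/
theorem exists_pComp_of_quotient [Finite G] {p : ℕ} [Fact p.Prime] (M : Subgroup G) [M.Normal]
    (hM : (∃ m : ℕ, Nat.card M = p ^ m) ∨ (Nat.card M).Coprime p)
    (Kb : Subgroup (G ⧸ M)) (hK : IsPComp p Kb) :
    ∃ H : Subgroup G, IsPComp p H ∧ H ≤ Kb.comap (QuotientGroup.mk' M) ∧
      Kb.comap (QuotientGroup.mk' M) ≤ M ⊔ H := by
  have hp : p.Prime := Fact.out
  obtain ⟨hK1, n, hn⟩ := hK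
  have hcardK : Nat.card (Kb.comap (QuotientGroup.mk' M)) = Nat.card M * Nat.card Kb :=
    Helper1.card_comap_mk' M Kb
  have hidxK : (Kb.comap (QuotientGroup.mk' M)).index = p ^ n := by
    rw [Subgroup.index_comap_of_surjective Kb (QuotientGroup.mk'_surjective M), hn]
  have hMK : M ≤ Kb.comap (QuotientGroup.mk' M) := by
    intro x hx
    show QuotientGroup.mk' M x ∈ Kb
    have h1 : QuotientGroup.mk' M x = 1 := (QuotientGroup.eq_one_iff x).mpr hx
    rw [h1]; exact Kb.one_mem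
  rcases hM with ⟨m, hm⟩ | hM
  · haveI : (M.subgroupOf (Kb.comap (QuotientGroup.mk' M))).Normal :=
      Subgroup.Normal.subgroupOf inferInstance _
    have hcN : Nat.card (M.subgroupOf (Kb.comap (QuotientGroup.mk' M))) = p ^ m := by
      rw [← hm]; exact Nat.card_congr (Subgroup.subgroupOfEquivOfLe hMK).toEquiv
    have hiN : (M.subgroupOf (Kb.comap (QuotientGroup.mk' M))).index = Nat.card Kb := by
      have h1 := Subgroup.card_mul_index (M.subgroupOf (Kb.comap (QuotientGroup.mk' M)))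
      rw [hcN, hcardK, hm] at h1
      exact Nat.eq_of_mul_eq_mul_left (pow_pos hp.pos m) h1
    have hcop : (Nat.card (M.subgroupOf (Kb.comap (QuotientGroup.mk' M)))).Coprime
        (M.subgroupOf (Kb.comap (QuotientGroup.mk' M))).index := by
      rw [hcN, hiN]; exact (Nat.Coprime.pow_right m hK1).symm
    obtain ⟨H', hH'⟩ := Subgroup.exists_right_complement'_of_coprime hcop
    have hcH' : Nat.card H' = Nat.card Kb := by
      rw [← hiN]; exact (hH'.symm.index_eq_card).symm
    have hiH' : H'.index = p ^ m := by rw [← hcN]; exact hH'.index_eq_card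
    refine ⟨H'.map (Kb.comap (QuotientGroup.mk' M)).subtype, ⟨?_, n + m, ?_⟩,
      Subgroup.map_subtype_le H', ?_⟩
    · rw [Subgroup.card_map_of_injective (Subgroup.subtype_injective _), hcH']; exact hK1
    · rw [Subgroup.index_map_subtype, hiH', hidxK, ← pow_add, add_comm]
    · intro x hx
      have h1 : (⟨x, hx⟩ : Kb.comap (QuotientGroup.mk' M)) ∈
          (M.subgroupOf (Kb.comap (QuotientGroup.mk' M))) ⊔ H' := by
        rw [hH'.sup_eq_top]; trivial
      have h2 := Subgroup.mem_map_of_mem (Kb.comap (QuotientGroup.mk' M)).subtype h1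
      rw [Subgroup.map_sup, Subgroup.map_subgroupOf_eq_of_le hMK] at h2
      exact h2
  · refine ⟨Kb.comap (QuotientGroup.mk' M), ⟨?_, n, hidxK⟩, le_rfl, le_sup_right⟩
    rw [hcardK]; exact Nat.Coprime.mul_left hM hK1

/-- Conjugacy of `p`-complements lifts from the quotient. -/
theorem pComp_conj_of_quotient [Finite G] {p : ℕ} [Fact p.Prime] (M : Subgroup G) [M.Normal]
    (hM : (∃ m : ℕ, Nat.card M = p ^ m) ∨ (Nat.card M).Coprime p)
    (hq : ∀ A B : Subgroup (G ⧸ M), IsPComp p A → IsPComp p B →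
      ∃ g : G ⧸ M, B = A.map (MulAut.conj g).toMonoidHom)
    (H₁ H₂ : Subgroup G) (h₁ : IsPComp p H₁) (h₂ : IsPComp p H₂) :
    ∃ g : G, H₂ = H₁.map (MulAut.conj g).toMonoidHom := by
  obtain ⟨gb, hgb⟩ := hq _ _ (h₁.map_mk' M) (h₂.map_mk' M)
  obtain ⟨g, rfl⟩ := QuotientGroup.mk'_surjective M gb
  have h₁' := h₁.map_conj g
  have hmap : (H₁.map (MulAut.conj g).toMonoidHom).map (QuotientGroup.mk' M) =
      H₂.map (QuotientGroup.mk' M) := by
    rw [map_conj_map]; exact hgb.symm
  have hsup : M ⊔ H₁.map (MulAut.conj g).toMonoidHom = M ⊔ H₂ := by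
    rw [← QuotientGroup.comap_map_mk', ← QuotientGroup.comap_map_mk', hmap]
  rcases hM with ⟨m, hm⟩ | hM
  · have hMp : IsPGroup p M := IsPGroup.of_card hm
    have hcop : (Nat.card (H₁.map (MulAut.conj g).toMonoidHom)).Coprime (Nat.card M) := by
      rw [hm]; exact Nat.Coprime.pow_right m h₁'.1
    haveI : Group.IsNilpotent M := hMp.isNilpotent
    obtain ⟨k, hkM, hk⟩ := Helper1.sz_conj_rel (H₁.map (MulAut.conj g).toMonoidHom) M
      (by rw [Subgroup.normalizer_eq_top]; exact le_top) hcop (Or.inr IsNilpotent.to_isSolvable) H₂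
      (by rw [hsup]; exact le_sup_right) (h₂.card_eq h₁')
    refine ⟨k * g, ?_⟩
    rw [map_conj_mul]; exact hk.symm
  · refine ⟨g, ?_⟩
    have e1 : M ⊔ H₁.map (MulAut.conj g).toMonoidHom = H₁.map (MulAut.conj g).toMonoidHom :=
      sup_eq_right.mpr (h₁'.normal_le M hM)
    have e2 : M ⊔ H₂ = H₂ := sup_eq_right.mpr (h₂.normal_le M hM)
    rw [← e2, ← hsup, e1]

/-- Domination of `p'`-subgroups by `p`-complements lifts from the quotient. -/
theorem pComp_dom_of_quotient [Finite G] {p : ℕ} [Fact p.Prime] (M : Subgroup G) [M.Normal]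
    (hM : (∃ m : ℕ, Nat.card M = p ^ m) ∨ (Nat.card M).Coprime p)
    (hq : ∀ U : Subgroup (G ⧸ M), (Nat.card U).Coprime p →
      ∃ H : Subgroup (G ⧸ M), IsPComp p H ∧ ∃ g : G ⧸ M, U.map (MulAut.conj g).toMonoidHom ≤ H)
    (U : Subgroup G) (hU : (Nat.card U).Coprime p) :
    ∃ H : Subgroup G, IsPComp p H ∧ ∃ g : G, U.map (MulAut.conj g).toMonoidHom ≤ H := by
  have hUb : (Nat.card (U.map (QuotientGroup.mk' M))).Coprime p :=
    Nat.Coprime.coprime_dvd_left
      (Subgroup.card_dvd_of_surjective _ ((QuotientGroup.mk' M).subgroupMap_surjective U)) hU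
  obtain ⟨Hb, hHb, gb, hgb⟩ := hq _ hUb
  obtain ⟨g, rfl⟩ := QuotientGroup.mk'_surjective M gb
  have hU'K : U.map (MulAut.conj g).toMonoidHom ≤ Hb.comap (QuotientGroup.mk' M) := by
    rw [← Subgroup.map_le_iff_le_comap, map_conj_map]; exact hgb
  obtain ⟨H, hH, hHK, hKH⟩ := exists_pComp_of_quotient M hM Hb hHb
  rcases hM with ⟨m, hm⟩ | hM
  · have hU'c : (Nat.card (U.map (MulAut.conj g).toMonoidHom)).Coprime p := by
      rw [card_map_conj]; exact hU
    have hMp : IsPGroup p M := IsPGroup.of_card hm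
    have hU'le : U.map (MulAut.conj g).toMonoidHom ≤
        M ⊔ ((U.map (MulAut.conj g).toMonoidHom ⊔ M) ⊓ H) := by
      intro u hu
      obtain ⟨x, hx, h, hh, rfl⟩ := Subgroup.mem_sup_of_normal_left.mp (hKH (hU'K hu))
      refine Subgroup.mul_mem _ (le_sup_left (a := M) hx) (le_sup_right (a := M) ⟨?_, hh⟩)
      have e : h = x⁻¹ * (x * h) := by group
      rw [e]
      exact Subgroup.mul_mem _
        (le_sup_right (a := U.map (MulAut.conj g).toMonoidHom) (M.inv_mem hx))
        (le_sup_left (b := M) hu)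
    have hcardH₀ : Nat.card ↥((U.map (MulAut.conj g).toMonoidHom ⊔ M) ⊓ H) =
        Nat.card (U.map (MulAut.conj g).toMonoidHom) := by
      have e1 := card_sup_mul_card_inf (U.map (MulAut.conj g).toMonoidHom) M
      have e2 := card_sup_mul_card_inf ((U.map (MulAut.conj g).toMonoidHom ⊔ M) ⊓ H) M
      have i1 : U.map (MulAut.conj g).toMonoidHom ⊓ M = ⊥ :=
        Helper1.inf_eq_bot_of_coprime_card (by rw [hm]; exact (Nat.Coprime.pow_right m hU'c).symm)
      have i0 : H ⊓ M = ⊥ :=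
        Helper1.inf_eq_bot_of_coprime_card (by rw [hm]; exact (Nat.Coprime.pow_right m hH.1).symm)
      have i2 : ((U.map (MulAut.conj g).toMonoidHom ⊔ M) ⊓ H) ⊓ M = ⊥ :=
        le_bot_iff.mp (i0 ▸ inf_le_inf_right M inf_le_right)
      have s2 : ((U.map (MulAut.conj g).toMonoidHom ⊔ M) ⊓ H) ⊔ M =
          U.map (MulAut.conj g).toMonoidHom ⊔ M :=
        le_antisymm (sup_le inf_le_left le_sup_right)
          (sup_le (by rw [sup_comm]; exact hU'le) le_sup_right)
      rw [i1, Subgroup.card_bot, mul_one] at e1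
      rw [i2, Subgroup.card_bot, mul_one, s2, e1] at e2
      exact (Nat.eq_of_mul_eq_mul_right Nat.card_pos e2).symm
    have hcop : (Nat.card ↥((U.map (MulAut.conj g).toMonoidHom ⊔ M) ⊓ H)).Coprime (Nat.card M) := by
      rw [hcardH₀, hm]; exact Nat.Coprime.pow_right m hU'c
    haveI : Group.IsNilpotent M := hMp.isNilpotent
    obtain ⟨k, hkM, hk⟩ := Helper1.sz_conj_rel ((U.map (MulAut.conj g).toMonoidHom ⊔ M) ⊓ H) M
      (by rw [Subgroup.normalizer_eq_top]; exact le_top) hcop (Or.inr IsNilpotent.to_isSolvable)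
      (U.map (MulAut.conj g).toMonoidHom) hU'le hcardH₀.symm
    refine ⟨H.map (MulAut.conj k).toMonoidHom, hH.map_conj k, g, ?_⟩
    rw [← hk]
    exact Subgroup.map_mono inf_le_right
  · exact ⟨H, hH, g, hU'K.trans (hKH.trans (sup_le (hH.normal_le M hM) le_rfl))⟩

end PComp

end Cfsg.Agent.Lib.Helper21
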