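import Mathlib
import Cfsg.Agent.Lib.Helper21.PrimPart2

set_option autoImplicit false

namespace Cfsg.Agent.Lib.Helper21

section PrimPart3

theorem generic_range : ∀ n : ℕ, 43 ≤ n → n < 1059 → 12 * n ^ 2 < 2 ^ n.totient := by
  decide +kernel

/-- The pairs `(a, n)` in the box where the generic estimate fails. -/
def failList : List (ℕ × ℕ) :=
  [(2, 3), (2, 4), (2, 5), (2, 6), (2, 7), (2, 8), (2, 9), (2, 10), (2, 11), (2, 12), (2, 14), (2, 15), (2, 16), (2, 18), (2, 20), (2, 21), (2, 22), (2, 24), (2, 26), (2, 28), (2, 30), (2, 36), (2, 42), (3, 3), (3, 4), (3, 5), (3, 6), (3, 8), (3, 9), (3, 10), (3, 12), (3, 14), (3, 18), (3, 24), (3, 30), (4, 3), (4, 4), (4, 5), (4, 6), (4, 8), (4, 10), (4, 12), (5, 3), (5, 4), (5, 6), (5, 8), (5, 10), (5, 12), (6, 3), (6, 4), (6, 6), (6, 12), (7, 3), (7, 4), (7, 6), (8, 3), (8, 4), (8, 6), (9, 3), (9, 4), (9, 6), (10, 3),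 (10, 4), (10, 6), (11, 4), (11, 6), (12, 4), (12, 6), (13, 4), (13, 6), (14, 6), (15, 6), (16, 6), (17, 6), (18, 6), (19, 6), (20, 6)]

theorem box_lemma : ∀ a : ℕ, 2 ≤ a → a < 146 → ∀ n : ℕ, 3 ≤ n → n < 43 →
    12 * n ^ 2 < a ^ n.totient ∨ (a, n) ∈ failList := by
  decide +kernel

/-- The thirteen exceptional pairs. -/
def excList : List (ℕ × ℕ) :=
  [(2, 6), (2, 4), (2, 10), (2, 12), (2, 18), (3, 4), (3, 6), (5, 6), (2, 3), (2, 8), (2, 20), (4, 3), (4, 6)]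

/-- Explicit primitive divisors for the non-exceptional pairs of `failList`. -/
def primTable : List (ℕ × ℕ × ℕ) :=
  [(2, 5, 31), (2, 7, 127), (2, 9, 73), (2, 11, 2047), (2, 14, 43), (2, 15, 151), (2, 16, 257), (2, 21, 337), (2, 22, 683), (2, 24, 241), (2, 26, 2731), (2, 28, 3277), (2, 30, 331), (2, 36, 4033), (2, 42, 5419), (3, 3, 13), (3, 5, 121), (3, 8, 41), (3, 9, 757), (3, 10, 61), (3, 12, 73), (3, 14, 547), (3, 18, 703), (3, 24, 6481), (3, 30, 8401), (4, 4, 17), (4, 5, 341), (4, 8, 257), (4, 10, 41), (4, 12, 241), (5, 3, 31), (5, 4, 13), (5, 8, 313), (5, 10, 521), (5, 12, 601), (6, 3, 43), (6, 4, 37), (6, 6, 31), (6, 12, 1261), (7, 3, 19), (7, 4, 25), (7, 6, 43), (8, 3, 73), (8, 4, 65), (8, 6, 19), (9, 3, 91), (9, 4, 41), (9, 6, 73), (10, 3, 37), (10, 4, 101), (10, 6, 91), (11, 4, 61), (11, 6, 37), (12, 4, 145), (12, 6, 133), (13, 4, 85), (13, 6, 157),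 (14, 6, 61), (15, 6, 211), (16, 6, 241), (17, 6, 91), (18, 6, 307), (19, 6, 343), (20, 6, 127)]

theorem primTable_spec : ∀ t ∈ primTable, t.2.2 ∣ t.1 ^ t.2.1 - 1 ∧
    (∀ i : ℕ, 1 ≤ i → i < t.2.1 → Nat.Coprime t.2.2 (t.1 ^ i - 1)) ∧ 3 * t.2.1 + 1 ≤ t.2.2 := by
  decide +kernel

theorem failList_cover : ∀ p ∈ failList, p ∈ excList ∨
    ∃ t ∈ primTable, t.1 = p.1 ∧ t.2.1 = p.2 := by
  decide +kernel

/-- For the exceptional pairs `(q, e)`: `q ^ e - 1 = P * R` with `R` dividing the product of the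
smaller `q ^ i - 1`. -/
def excTable : List (ℕ × ℕ × ℕ × ℕ) :=
  [(2, 6, 1, 63), (2, 4, 5, 3), (2, 10, 11, 93), (2, 12, 13, 315), (2, 18, 19, 13797), (3, 4, 5, 16), (3, 6, 7, 104), (5, 6, 7, 2232), (2, 3, 7, 1), (2, 8, 17, 15), (2, 20, 41, 25575), (4, 3, 7, 9), (4, 6, 13, 315)]

theorem excTable_spec : ∀ t ∈ excTable, t.1 ^ t.2.1 - 1 = t.2.2.1 * t.2.2.2 ∧
    t.2.2.2 ∣ ∏ i ∈ Finset.Ico 1 t.2.1, (t.1 ^ i - 1) ∧ 0 < t.2.2.1 ∧
    t.2.2.1 ≤ 2 * t.2.1 + 1 := by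
  decide +kernel

theorem excList_cover : ∀ p ∈ excList, ∃ t ∈ excTable, t.1 = p.1 ∧ t.2.1 = p.2 := by
  decide +kernel

/-- Primitive divisors for the five exceptional pairs with primitive part `2e + 1`. -/
def primFive : List (ℕ × ℕ × ℕ) :=
  [(2, 3, 7), (2, 8, 17), (2, 20, 41), (4, 3, 7), (4, 6, 13)]

theorem primFive_spec : ∀ t ∈ primFive, t.2.2 ∣ t.1 ^ t.2.1 - 1 ∧
    (∀ i : ℕ, 1 ≤ i → i < t.2.1 → Nat.Coprime t.2.2 (t.1 ^ i - 1)) ∧ t.2.1 + 2 ≤ t.2.2 := by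
  decide +kernel

end PrimPart3

end Cfsg.Agent.Lib.Helper21
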