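import Cfsg.Agent.S4496
import Cfsg.Agent.Lib.Helper21.FrobHall
import Cfsg.Agent.Lib.Helper1.Cores

set_option autoImplicit false
open scoped commutatorElement

namespace Cfsg.Agent.Lib.Helper21

variable {G : Type*} [Group G] [Finite G]

omit [Finite G] in
theorem sc_centralizer_eq {p : ℕ} (hp : p.Prime) {x : G} (hx : orderOf x = p)
    (hC : Subgroup.centralizer ({x} : Set G) = Subgroup.zpowers x) {z : G}
    (hz : z ∈ Subgroup.zpowers x) (hz1 : z ≠ 1) :
    Subgroup.centralizer ({z} : Set G) = Subgroup.zpowers x := by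
  haveI : Finite (Subgroup.zpowers x) := by
    apply Nat.finite_of_card_ne_zero
    rw [Nat.card_zpowers, hx]
    exact hp.ne_zero
  have hzz : Subgroup.zpowers z = Subgroup.zpowers x := by
    have hoz : orderOf z = p := by
      have hd : orderOf z ∣ p := hx ▸ orderOf_dvd_of_mem_zpowers hz
      rcases (Nat.dvd_prime hp).mp hd with h | h
      · exact absurd (orderOf_eq_one_iff.mp h) hz1
      · exact h
    apply Subgroup.eq_of_le_of_card_ge (Subgroup.zpowers_le.2 hz)
    rw [Nat.card_zpowers, Nat.card_zpowers, hx, hoz]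
  rw [← hC]
  ext c
  rw [Subgroup.mem_centralizer_iff, Subgroup.mem_centralizer_iff]
  constructor
  · intro h t ht
    rw [Set.mem_singleton_iff] at ht
    rw [ht]
    have hxz : x ∈ Subgroup.zpowers z := by
      rw [hzz]
      exact Subgroup.mem_zpowers x
    obtain ⟨i, hi⟩ := Subgroup.mem_zpowers_iff.1 hxz
    have h1 : Commute z c := h z rfl
    rw [← hi]
    exact (h1.zpow_left i).eq
  · intro h t ht
    rw [Set.mem_singleton_iff] at ht
    rw [ht]
    obtain ⟨i, hi⟩ := Subgroup.mem_zpowers_iff.1 hz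
    have h1 : Commute x c := h x rfl
    rw [← hi]
    exact (h1.zpow_left i).eq

/-- Every element of order `p` is conjugate into `⟨x⟩`. -/
theorem sc_conj_mem {p : ℕ} (hp : p.Prime) {x : G} (hx : orderOf x = p)
    (hC : Subgroup.centralizer ({x} : Set G) = Subgroup.zpowers x) (y : G)
    (hy : orderOf y = p) : ∃ g : G, g * y * g⁻¹ ∈ Subgroup.zpowers x := by
  haveI := Fact.mk hp
  obtain ⟨Q, hQ⟩ := Cfsg.Agent.S4496.exists_sylow hx hC
  have hpg : IsPGroup p (Subgroup.zpowers y) :=
    IsPGroup.of_card (n := 1) (by rw [Nat.card_zpowers, hy, pow_one])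
  obtain ⟨Q', hQ'⟩ := hpg.exists_le_sylow
  obtain ⟨g, hg⟩ := MulAction.exists_smul_eq G Q' Q
  refine ⟨g, ?_⟩
  rw [← hQ]
  have h1 : g * y * g⁻¹ ∈ ((g • Q' : Sylow p G) : Subgroup G) := by
    rw [Sylow.coe_subgroup_smul, Subgroup.mem_pointwise_smul_iff_inv_smul_mem]
    have h2 : (MulAut.conj g)⁻¹ • (g * y * g⁻¹) = y := by
      rw [← map_inv, MulAut.smul_def, MulAut.conj_apply]
      group
    rw [h2]
    exact hQ' (Subgroup.mem_zpowers y)
  rw [hg] at h1
  exact h1

theorem sc_card_centralizer {p : ℕ} (hp : p.Prime) {x : G} (hx : orderOf x = p)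
    (hC : Subgroup.centralizer ({x} : Set G) = Subgroup.zpowers x) (y : G)
    (hy : orderOf y = p) : Nat.card (Subgroup.centralizer ({y} : Set G)) = p := by
  obtain ⟨g, hg⟩ := sc_conj_mem hp hx hC y hy
  have hne : g * y * g⁻¹ ≠ 1 := by
    intro h
    have h1 : y = 1 := by
      have h2 : y = g⁻¹ * (g * y * g⁻¹) * g := by group
      rw [h2, h]
      group
    rw [h1, orderOf_one] at hy
    exact hp.one_lt.ne hy
  have h1 := sc_centralizer_eq hp hx hC hg hne
  have h2 : Nat.card (Subgroup.centralizer ({g * y * g⁻¹} : Set G)) = p := by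
    rw [h1, Nat.card_zpowers, hx]
  have h3 : (Subgroup.centralizer ({y} : Set G)).index =
      (Subgroup.centralizer ({g * y * g⁻¹} : Set G)).index := by
    rw [← card_isConj_eq_index, ← card_isConj_eq_index]
    have hconj : IsConj y (g * y * g⁻¹) := isConj_iff.2 ⟨g, rfl⟩
    exact Nat.card_congr (Equiv.subtypeEquivRight
      (fun z => ⟨fun h => hconj.symm.trans h, fun h => hconj.trans h⟩))
  have h4 := (Subgroup.centralizer ({y} : Set G)).card_mul_index
  have h5 := (Subgroup.centralizer ({g * y * g⁻¹} : Set G)).card_mul_index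
  rw [h3] at h4
  rw [h2] at h5
  have hidx : 0 < (Subgroup.centralizer ({g * y * g⁻¹} : Set G)).index :=
    Nat.pos_of_ne_zero Subgroup.index_ne_zero_of_finite
  exact Nat.eq_of_mul_eq_mul_right hidx (h4.trans h5.symm)

/-- The number of elements of prime order `p`. -/
theorem card_orderOf_eq_prime (p : ℕ) (hp : p.Prime) :
    Nat.card {g : G // orderOf g = p} =
      (p - 1) * Nat.card {H : Subgroup G // Nat.card H = p} := by
  classical
  haveI : Fintype {H : Subgroup G // Nat.card H = p} := Fintype.ofFinite _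
  have e : Nat.card {g : G // orderOf g = p} =
      Nat.card (Σ H : {H : Subgroup G // Nat.card H = p},
        {y : G // Subgroup.zpowers y = H.1}) := by
    refine Nat.card_congr (Equiv.ofBijective
      (fun g => ⟨⟨Subgroup.zpowers g.1, by rw [Nat.card_zpowers, g.2]⟩, ⟨g.1, rfl⟩⟩) ⟨?_, ?_⟩)
    · intro g g' hgg'
      have h2 : g.1 = g'.1 := congrArg (fun s => (s.2 : G)) hgg'
      exact Subtype.ext h2
    · rintro ⟨⟨H, hH⟩, ⟨y, hy⟩⟩
      have hy' : Subgroup.zpowers y = H := hy
      refine ⟨⟨y, by rw [← Nat.card_zpowers, hy', hH]⟩, ?_⟩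
      apply Sigma.subtype_ext
      · exact Subtype.ext hy'
      · rfl
  rw [e, Nat.card_sigma]
  have h1 : ∀ H : {H : Subgroup G // Nat.card H = p},
      Nat.card {y : G // Subgroup.zpowers y = H.1} = p - 1 := by
    rintro ⟨H, hH⟩
    haveI := Fact.mk hp
    haveI : IsCyclic H := isCyclic_of_prime_card hH
    obtain ⟨⟨y₀, hy₀H⟩, hy₀⟩ := IsCyclic.exists_generator (α := H)
    have hH' : H = Subgroup.zpowers y₀ := by
      apply le_antisymm
      · intro h hh
        obtain ⟨i, hi⟩ := Subgroup.mem_zpowers_iff.1 (hy₀ ⟨h, hh⟩)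
        have h2 := congrArg Subtype.val hi
        rw [Subgroup.mem_zpowers_iff]
        exact ⟨i, by simpa using h2⟩
      · exact Subgroup.zpowers_le.2 hy₀H
    have ho : orderOf y₀ = p := by rw [← Nat.card_zpowers, ← hH', hH]
    show Nat.card {y : G // Subgroup.zpowers y = H} = p - 1
    rw [hH', card_zpowers_eq, ho, Nat.totient_prime hp]
  rw [Finset.sum_congr rfl (fun H _ => h1 H), Finset.sum_const, smul_eq_mul, Finset.card_univ,
    Fintype.card_eq_nat_card, mul_comm]

/-- Class count of the elements of order `p`. -/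
theorem sc_card_orderOf {p : ℕ} (hp : p.Prime) {x : G} (hx : orderOf x = p)
    (hC : Subgroup.centralizer ({x} : Set G) = Subgroup.zpowers x) :
    Nat.card {g : G // orderOf g = p} * p =
      Nat.card {C : ConjClasses G // ∃ g ∈ C.carrier, orderOf g = p} * Nat.card G := by
  classical
  haveI : Fintype {C : ConjClasses G // ∃ g ∈ C.carrier, orderOf g = p} := Fintype.ofFinite _
  have e : Nat.card {g : G // orderOf g = p} =
      Nat.card (Σ C : {C : ConjClasses G // ∃ g ∈ C.carrier, orderOf g = p},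
        {y : G // ConjClasses.mk y = C.1}) := by
    refine Nat.card_congr (Equiv.ofBijective
      (fun g => ⟨⟨ConjClasses.mk g.1, g.1, ConjClasses.mem_carrier_mk, g.2⟩, ⟨g.1, rfl⟩⟩)
      ⟨?_, ?_⟩)
    · intro g g' hgg'
      have h2 : g.1 = g'.1 := congrArg (fun s => (s.2 : G)) hgg'
      exact Subtype.ext h2
    · rintro ⟨⟨C, g₀, hg₀C, hg₀⟩, ⟨y, hy⟩⟩
      have hy' : ConjClasses.mk y = C := hy
      have hconj : IsConj g₀ y := by
        rw [← ConjClasses.mk_eq_mk_iff_isConj, hy']
        exact ConjClasses.mem_carrier_iff_mk_eq.1 hg₀C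
      obtain ⟨c, hc⟩ := isConj_iff.1 hconj
      have hoy : orderOf y = p := by
        rw [← hc]
        have h3 : orderOf (c * g₀ * c⁻¹) = orderOf g₀ := (MulAut.conj c).orderOf_eq g₀
        rw [h3, hg₀]
      refine ⟨⟨y, hoy⟩, ?_⟩
      apply Sigma.subtype_ext
      · exact Subtype.ext hy'
      · rfl
  rw [e, Nat.card_sigma]
  have h1 : ∀ C : {C : ConjClasses G // ∃ g ∈ C.carrier, orderOf g = p},
      Nat.card {y : G // ConjClasses.mk y = C.1} * p = Nat.card G := by
    rintro ⟨C, g₀, hg₀C, hg₀⟩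
    have hC' : ConjClasses.mk g₀ = C := ConjClasses.mem_carrier_iff_mk_eq.1 hg₀C
    have h2 : Nat.card {y : G // ConjClasses.mk y = C} =
        (Subgroup.centralizer ({g₀} : Set G)).index := by
      rw [← card_isConj_eq_index]
      refine Nat.card_congr (Equiv.subtypeEquivRight (fun y => ?_))
      rw [← hC', ConjClasses.mk_eq_mk_iff_isConj]
      exact ⟨fun h => h.symm, fun h => h.symm⟩
    show Nat.card {y : G // ConjClasses.mk y = C} * p = Nat.card G
    rw [h2, ← sc_card_centralizer hp hx hC g₀ hg₀]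
    exact Subgroup.index_mul_card _
  rw [Finset.sum_mul, Finset.sum_congr rfl (fun C _ => h1 C), Finset.sum_const, smul_eq_mul,
    Finset.card_univ, Fintype.card_eq_nat_card]

theorem sc_card_subgroups {p : ℕ} (hp : p.Prime) {x : G} (hx : orderOf x = p)
    (hC : Subgroup.centralizer ({x} : Set G) = Subgroup.zpowers x) :
    Nat.card {H : Subgroup G // Nat.card H = p} =
      (Subgroup.normalizer ((Subgroup.zpowers x : Subgroup G) : Set G)).index := by
  haveI := Fact.mk hp
  obtain ⟨Q, hQ⟩ := Cfsg.Agent.S4496.exists_sylow hx hC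
  have hfac := Cfsg.Agent.S4496.factorization_eq_one hx hC
  let e : {H : Subgroup G // Nat.card H = p} ≃ Sylow p G :=
    { toFun := fun H => Sylow.ofCard H.1 (by rw [H.2, hfac, pow_one])
      invFun := fun P => ⟨P, by rw [P.card_eq_multiplicity, hfac, pow_one]⟩
      left_inv := fun H => by apply Subtype.ext; rfl
      right_inv := fun P => by apply Sylow.ext; rfl }
  rw [Nat.card_congr e, Sylow.card_eq_index_normalizer Q, ← hQ]
  rfl

theorem sc_class_count {p : ℕ} (hp : p.Prime) {x : G} (hx : orderOf x = p)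
    (hC : Subgroup.centralizer ({x} : Set G) = Subgroup.zpowers x) :
    Nat.card {C : ConjClasses G // ∃ g ∈ C.carrier, orderOf g = p} *
      Nat.card (Subgroup.normalizer ((Subgroup.zpowers x : Subgroup G) : Set G)) =
        p * (p - 1) := by
  have h1 := sc_card_orderOf hp hx hC
  have h2 := card_orderOf_eq_prime (G := G) p hp
  have h3 := sc_card_subgroups hp hx hC
  have h4 := (Subgroup.normalizer ((Subgroup.zpowers x : Subgroup G) : Set G)).index_mul_card
  rw [h2, h3, ← h4] at h1
  have hidx : 0 < (Subgroup.normalizer ((Subgroup.zpowers x : Subgroup G) : Set G)).index :=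
    Nat.pos_of_ne_zero Subgroup.index_ne_zero_of_finite
  have h5 : (Subgroup.normalizer ((Subgroup.zpowers x : Subgroup G) : Set G)).index *
      (Nat.card {C : ConjClasses G // ∃ g ∈ C.carrier, orderOf g = p} *
        Nat.card (Subgroup.normalizer ((Subgroup.zpowers x : Subgroup G) : Set G))) =
      (Subgroup.normalizer ((Subgroup.zpowers x : Subgroup G) : Set G)).index *
        (p * (p - 1)) := by
    calc _ = Nat.card {C : ConjClasses G // ∃ g ∈ C.carrier, orderOf g = p} *
          ((Subgroup.normalizer ((Subgroup.zpowers x : Subgroup G) : Set G)).index *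
          Nat.card (Subgroup.normalizer ((Subgroup.zpowers x : Subgroup G) : Set G))) := by
          ring
      _ = (p - 1) * (Subgroup.normalizer ((Subgroup.zpowers x : Subgroup G) : Set G)).index *
          p := h1.symm
      _ = _ := by ring
  exact Nat.eq_of_mul_eq_mul_left hidx h5

omit [Finite G] in
theorem sc_relIndex {p : ℕ} {x : G} (hx : orderOf x = p) :
    p * (Subgroup.zpowers x).relIndex
        (Subgroup.normalizer ((Subgroup.zpowers x : Subgroup G) : Set G)) =
      Nat.card (Subgroup.normalizer ((Subgroup.zpowers x : Subgroup G) : Set G)) := by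
  have h := Subgroup.relIndex_mul_relIndex (H := ⊥) (K := Subgroup.zpowers x)
    (L := Subgroup.normalizer ((Subgroup.zpowers x : Subgroup G) : Set G)) bot_le
    Subgroup.le_normalizer
  rw [Subgroup.relIndex_bot_left, Subgroup.relIndex_bot_left, Nat.card_zpowers, hx] at h
  exact h

theorem sc_t_mul_relIndex {p : ℕ} (hp : p.Prime) {x : G} (hx : orderOf x = p)
    (hC : Subgroup.centralizer ({x} : Set G) = Subgroup.zpowers x) :
    Nat.card {C : ConjClasses G // ∃ g ∈ C.carrier, orderOf g = p} *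
      (Subgroup.zpowers x).relIndex
        (Subgroup.normalizer ((Subgroup.zpowers x : Subgroup G) : Set G)) = p - 1 := by
  have h1 := sc_class_count hp hx hC
  rw [← sc_relIndex hx] at h1
  have h2 : p * (Nat.card {C : ConjClasses G // ∃ g ∈ C.carrier, orderOf g = p} *
      (Subgroup.zpowers x).relIndex
        (Subgroup.normalizer ((Subgroup.zpowers x : Subgroup G) : Set G))) = p * (p - 1) := by
    rw [← h1]
    ring
  exact Nat.eq_of_mul_eq_mul_left hp.pos h2

theorem sc_mem_commutator {p : ℕ} (hp : p.Prime) {x : G} (hx : orderOf x = p)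
    (hC : Subgroup.centralizer ({x} : Set G) = Subgroup.zpowers x)
    (hN : ¬ Subgroup.normalizer ((Subgroup.zpowers x : Subgroup G) : Set G) ≤
      Subgroup.zpowers x) : x ∈ commutator G := by
  obtain ⟨n, hn, hnP⟩ := SetLike.not_le_iff_exists.1 hN
  have h1 : n * x * n⁻¹ ∈ Subgroup.zpowers x :=
    (Subgroup.mem_normalizer_iff.mp hn x).mp (Subgroup.mem_zpowers x)
  have hc : ⁅n, x⁆ ∈ Subgroup.zpowers x := by
    rw [commutatorElement_def]
    exact mul_mem h1 (inv_mem (Subgroup.mem_zpowers x))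
  have hc1 : ⁅n, x⁆ ≠ 1 := by
    intro h
    rw [commutatorElement_eq_one_iff_mul_comm] at h
    exact hnP (Cfsg.Agent.S4496.mem_zpowers_of_comm hC h.symm)
  have hzz := Cfsg.Agent.S4496.zpowers_eq_of_mem hp hx hc hc1
  have hx' : x ∈ Subgroup.zpowers ⁅n, x⁆ := by
    rw [hzz]
    exact Subgroup.mem_zpowers x
  have hcc : ⁅n, x⁆ ∈ commutator G := by
    rw [commutator_def]
    exact Subgroup.commutator_mem_commutator (Subgroup.mem_top n) (Subgroup.mem_top x)
  exact (Subgroup.zpowers_le.2 hcc) hx'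

theorem sc_frattini {p : ℕ} (hp : p.Prime) {x : G} (hx : orderOf x = p)
    (hC : Subgroup.centralizer ({x} : Set G) = Subgroup.zpowers x) (D : Subgroup G)
    [D.Normal] (hxD : x ∈ D) :
    Subgroup.normalizer ((Subgroup.zpowers x : Subgroup G) : Set G) ⊔ D = ⊤ := by
  haveI := Fact.mk hp
  obtain ⟨Q, hQ⟩ := Cfsg.Agent.S4496.exists_sylow hx hC
  have hQD : (Q : Subgroup G) ≤ D := by
    rw [hQ, Subgroup.zpowers_le]
    exact hxD
  have hfr := Sylow.normalizer_sup_eq_top' Q hQD
  rw [← hQ]
  exact hfr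

theorem sc_index_dvd {p : ℕ} (hp : p.Prime) {x : G} (hx : orderOf x = p)
    (hC : Subgroup.centralizer ({x} : Set G) = Subgroup.zpowers x) (D : Subgroup G)
    [D.Normal] (hxD : x ∈ D) :
    D.index ∣ (Subgroup.zpowers x).relIndex
      (Subgroup.normalizer ((Subgroup.zpowers x : Subgroup G) : Set G)) := by
  have hfr := sc_frattini hp hx hC D hxD
  have h1 : D.index =
      D.relIndex (Subgroup.normalizer ((Subgroup.zpowers x : Subgroup G) : Set G)) := by
    rw [← Subgroup.relIndex_sup_right, hfr, Subgroup.relIndex_top_right]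
  rw [h1]
  exact Subgroup.relIndex_dvd_of_le_left _ (Subgroup.zpowers_le.2 hxD)

theorem sc_normal_comm {p : ℕ} (hp : p.Prime) {x : G} (hx : orderOf x = p)
    (hC : Subgroup.centralizer ({x} : Set G) = Subgroup.zpowers x) (S : Subgroup G)
    [hSn : S.Normal] (hS : ¬ p ∣ Nat.card S) : ∀ s ∈ S, ∃ s₀ ∈ S, s = ⁅s₀, x⁆ := by
  have hmem : ∀ s₀ ∈ S, ⁅s₀, x⁆ ∈ S := by
    intro s₀ hs₀
    rw [commutatorElement_def]
    have h1 : x * s₀⁻¹ * x⁻¹ ∈ S := hSn.conj_mem _ (inv_mem hs₀) x
    have h2 : s₀ * x * s₀⁻¹ * x⁻¹ = s₀ * (x * s₀⁻¹ * x⁻¹) := by group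
    rw [h2]
    exact mul_mem hs₀ h1
  have hinj : Function.Injective (fun s₀ : S => (⟨⁅(s₀ : G), x⁆, hmem s₀ s₀.2⟩ : S)) := by
    intro a b hab
    have h1 : ⁅(a : G), x⁆ = ⁅(b : G), x⁆ := congrArg Subtype.val hab
    rw [commutatorElement_def, commutatorElement_def] at h1
    have h3 : (a : G) * x * (a : G)⁻¹ = b * x * (b : G)⁻¹ := by
      have h0 := congrArg (fun w => w * x) h1
      simpa using h0
    have h2 : x * ((b : G)⁻¹ * a) = ((b : G)⁻¹ * a) * x := by
      calc x * ((b : G)⁻¹ * a) = (b : G)⁻¹ * (b * x * (b : G)⁻¹) * a := by group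
        _ = (b : G)⁻¹ * (a * x * (a : G)⁻¹) * a := by rw [h3]
        _ = ((b : G)⁻¹ * a) * x := by group
    have h4 := Cfsg.Agent.S4496.mem_zpowers_of_comm hC h2
    have h5 := Cfsg.Agent.S4496.mem_inf_eq_one hp hx S hS h4 (mul_mem (inv_mem b.2) a.2)
    apply Subtype.ext
    exact (inv_mul_eq_one.1 h5).symm
  have hsurj := Finite.surjective_of_injective hinj
  intro s hs
  obtain ⟨s₀, hs₀⟩ := hsurj ⟨s, hs⟩
  exact ⟨s₀.1, s₀.2, (congrArg Subtype.val hs₀).symm⟩

theorem sc_normal_le_commutator {p : ℕ} (hp : p.Prime) {x : G} (hx : orderOf x = p)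
    (hC : Subgroup.centralizer ({x} : Set G) = Subgroup.zpowers x) (S : Subgroup G)
    [S.Normal] (hS : ¬ p ∣ Nat.card S) : S ≤ commutator G := by
  intro s hs
  obtain ⟨s₀, -, rfl⟩ := sc_normal_comm hp hx hC S hS s hs
  rw [commutator_def]
  exact Subgroup.commutator_mem_commutator (Subgroup.mem_top _) (Subgroup.mem_top _)

/-- Burnside case: `N_G(P) = P`. -/
theorem sc_burnside {p : ℕ} (hp : p.Prime) {x : G} (hx : orderOf x = p)
    (hC : Subgroup.centralizer ({x} : Set G) = Subgroup.zpowers x)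
    (hN : Subgroup.normalizer ((Subgroup.zpowers x : Subgroup G) : Set G) ≤
      Subgroup.zpowers x) :
    (commutator G).index = p ∧ ¬ p ∣ Nat.card (commutator G) := by
  haveI := Fact.mk hp
  obtain ⟨Q, hQ⟩ := Cfsg.Agent.S4496.exists_sylow hx hC
  have hQN : Subgroup.normalizer (Q : Set G) ≤ Subgroup.centralizer (Q : Set G) := by
    have e1 : (Q : Set G) = ((Subgroup.zpowers x : Subgroup G) : Set G) := by
      rw [← hQ]
      rfl
    rw [e1]
    intro n hn
    have h1 := hN hn
    rw [Subgroup.mem_centralizer_iff]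
    intro h hh
    obtain ⟨i, rfl⟩ := Subgroup.mem_zpowers_iff.1 h1
    obtain ⟨j, rfl⟩ := Subgroup.mem_zpowers_iff.1 hh
    exact ((Commute.refl x).zpow_zpow j i).eq
  have hcompl := MonoidHom.ker_transferSylow_isComplement' Q hQN
  have hK1 : ¬ p ∣ Nat.card (MonoidHom.transferSylow Q hQN).ker :=
    MonoidHom.not_dvd_card_ker_transferSylow Q hQN
  have hK2 : (MonoidHom.transferSylow Q hQN).ker.index = p := by
    rw [hcompl.symm.index_eq_card, hQ, Nat.card_zpowers, hx]
  have hle1 : commutator G ≤ (MonoidHom.transferSylow Q hQN).ker := by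
    rw [commutator_def, Subgroup.commutator_le]
    intro a _ b _
    rw [MonoidHom.mem_ker, map_commutatorElement, commutatorElement_eq_one_iff_mul_comm]
    apply Subtype.ext
    have ha : ((MonoidHom.transferSylow Q hQN a : (Q : Subgroup G)) : G) ∈
        Subgroup.zpowers x := by
      rw [← hQ]
      exact (MonoidHom.transferSylow Q hQN a).2
    have hb : ((MonoidHom.transferSylow Q hQN b : (Q : Subgroup G)) : G) ∈
        Subgroup.zpowers x := by
      rw [← hQ]
      exact (MonoidHom.transferSylow Q hQN b).2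
    obtain ⟨i, hi⟩ := Subgroup.mem_zpowers_iff.1 ha
    obtain ⟨j, hj⟩ := Subgroup.mem_zpowers_iff.1 hb
    show ((MonoidHom.transferSylow Q hQN a : (Q : Subgroup G)) : G) *
      ((MonoidHom.transferSylow Q hQN b : (Q : Subgroup G)) : G) =
      ((MonoidHom.transferSylow Q hQN b : (Q : Subgroup G)) : G) *
      ((MonoidHom.transferSylow Q hQN a : (Q : Subgroup G)) : G)
    rw [← hi, ← hj]
    exact ((Commute.refl x).zpow_zpow i j).eq
  have hle2 : (MonoidHom.transferSylow Q hQN).ker ≤ commutator G :=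
    sc_normal_le_commutator hp hx hC _ hK1
  have heq : commutator G = (MonoidHom.transferSylow Q hQN).ker := le_antisymm hle1 hle2
  rw [heq]
  exact ⟨hK2, hK1⟩

end Cfsg.Agent.Lib.Helper21
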