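import Cfsg.Agent.Lib.Helper21.SelfCent

set_option autoImplicit false
open scoped commutatorElement

namespace Cfsg.Agent.Lib.Helper21

variable {G : Type*} [Group G] [Finite G]

/-- A subgroup containing all conjugates of `x` contains the commutator subgroup. -/
theorem sc_commutator_le_of_conj {p : ℕ} (hp : p.Prime) {x : G} (hx : orderOf x = p)
    (hC : Subgroup.centralizer ({x} : Set G) = Subgroup.zpowers x) (M : Subgroup G)
    (hM : ∀ g : G, g * x * g⁻¹ ∈ M) : commutator G ≤ M := by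
  have h1 : Subgroup.normalClosure ({x} : Set G) ≤ M := by
    unfold Subgroup.normalClosure
    rw [Subgroup.closure_le]
    intro y hy
    rw [Group.mem_conjugatesOfSet_iff] at hy
    obtain ⟨a, ha, hconj⟩ := hy
    rw [Set.mem_singleton_iff] at ha
    rw [ha] at hconj
    obtain ⟨c, hc⟩ := isConj_iff.1 hconj
    rw [← hc]
    exact hM c
  have h2 : p ∣ Nat.card (Subgroup.normalClosure ({x} : Set G)) := by
    have hxR : x ∈ Subgroup.normalClosure ({x} : Set G) :=
      Subgroup.subset_normalClosure (Set.mem_singleton x)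
    have h3 := Subgroup.card_dvd_of_le (Subgroup.zpowers_le.2 hxR)
    rwa [Nat.card_zpowers, hx] at h3
  exact (Cfsg.Agent.S4496.part_a hp hx hC _ h2).trans h1

theorem sc_conj_decomp {p : ℕ} (hp : p.Prime) {x : G} (hx : orderOf x = p)
    (hC : Subgroup.centralizer ({x} : Set G) = Subgroup.zpowers x) (D : Subgroup G)
    [D.Normal] (hxD : x ∈ D) (g : G) :
    ∃ d ∈ D, ∃ z ∈ Subgroup.zpowers x, g * x * g⁻¹ = d * z * d⁻¹ := by
  have hfr := sc_frattini hp hx hC D hxD
  have hg : g ∈ ((D ⊔ Subgroup.normalizer ((Subgroup.zpowers x : Subgroup G) : Set G) :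
      Subgroup G) : Set G) := by
    rw [sup_comm, hfr]
    trivial
  rw [Subgroup.normal_mul] at hg
  obtain ⟨d, hd, n, hn, rfl⟩ := Set.mem_mul.mp hg
  exact ⟨d, hd, n * x * n⁻¹, (Subgroup.mem_normalizer_iff.mp hn x).mp (Subgroup.mem_zpowers x),
    by group⟩

omit [Finite G] in
theorem sc_pPrimeCore_map_le {G' : Type*} [Group G'] (p : ℕ) (e : G ≃* G') :
    (Cfsg.pPrimeCore p G).map e.toMonoidHom ≤ Cfsg.pPrimeCore p G' := by
  rw [Subgroup.map_le_iff_le_comap]
  apply sSup_le
  rintro N ⟨hN, hc⟩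
  rw [← Subgroup.map_le_iff_le_comap]
  apply le_sSup
  refine ⟨hN.map e.toMonoidHom e.surjective, ?_⟩
  rw [Subgroup.card_map_of_injective e.injective]
  exact hc

/-- A normal `p'`-subgroup of a normal subgroup lies in `O_{p'}(G)`. -/
theorem sc_le_pPrimeCore_of_normal_in_normal (p : ℕ) (D : Subgroup G) [hD : D.Normal]
    (M' : Subgroup D) [hM' : M'.Normal] (hcop : (Nat.card M').Coprime p) :
    M'.map D.subtype ≤ Cfsg.pPrimeCore p G := by
  have h1 : M' ≤ Cfsg.pPrimeCore p D := Cfsg.Agent.Lib.Helper1.le_pPrimeCore p hM' hcop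
  have hLn : ((Cfsg.pPrimeCore p D).map D.subtype).Normal := by
    refine ⟨fun a ha g => ?_⟩
    obtain ⟨ℓ, hℓ, rfl⟩ := Subgroup.mem_map.1 ha
    have h2 : (MulAut.conjNormal g : MulAut D) ℓ ∈ Cfsg.pPrimeCore p D := by
      apply sc_pPrimeCore_map_le p (MulAut.conjNormal g : D ≃* D)
      exact Subgroup.mem_map_of_mem _ hℓ
    have h3 : g * D.subtype ℓ * g⁻¹ = D.subtype ((MulAut.conjNormal g : MulAut D) ℓ) := rfl
    rw [h3]
    exact Subgroup.mem_map_of_mem _ h2
  have hLc : (Nat.card ((Cfsg.pPrimeCore p D).map D.subtype)).Coprime p := by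
    rw [Subgroup.card_subtype]
    exact Cfsg.Agent.Lib.Helper1.pPrimeCore_coprime p
  exact (Subgroup.map_mono h1).trans (Cfsg.Agent.Lib.Helper1.le_pPrimeCore p hLn hLc)

/-- `G'/O_{p'}(G)` is simple when `x ∈ G'`. -/
theorem sc_simple {p : ℕ} (hp : p.Prime) {x : G} (hx : orderOf x = p)
    (hC : Subgroup.centralizer ({x} : Set G) = Subgroup.zpowers x) (hxD : x ∈ commutator G)
    [h : ((Cfsg.pPrimeCore p G).subgroupOf (commutator G)).Normal] :
    IsSimpleGroup (↥(commutator G) ⧸ (Cfsg.pPrimeCore p G).subgroupOf (commutator G)) := by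
  have hScop : (Nat.card (Cfsg.pPrimeCore p G)).Coprime p :=
    Cfsg.Agent.Lib.Helper1.pPrimeCore_coprime p
  have hxS : x ∉ Cfsg.pPrimeCore p G := by
    intro hxS
    have h1 := Subgroup.card_dvd_of_le (Subgroup.zpowers_le.2 hxS)
    rw [Nat.card_zpowers, hx] at h1
    have h2 := Nat.dvd_gcd h1 (dvd_refl p)
    rw [hScop] at h2
    exact hp.one_lt.ne' (Nat.dvd_one.1 h2)
  have hx1 : x ≠ 1 := fun h1 => hxS (h1 ▸ one_mem _)
  have hne : ((⟨x, hxD⟩ : commutator G) :
      ↥(commutator G) ⧸ (Cfsg.pPrimeCore p G).subgroupOf (commutator G)) ≠ 1 := by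
    intro h1
    rw [QuotientGroup.eq_one_iff, Subgroup.mem_subgroupOf] at h1
    exact hxS h1
  refine { toNontrivial := ⟨⟨_, _, hne⟩⟩, eq_bot_or_eq_top_of_normal := ?_ }
  intro Mb hMb
  obtain ⟨M', hM'⟩ : ∃ M' : Subgroup (commutator G), M' = Mb.comap
      (QuotientGroup.mk' ((Cfsg.pPrimeCore p G).subgroupOf (commutator G))) := ⟨_, rfl⟩
  have hM'n : M'.Normal := by
    rw [hM']
    exact hMb.comap _
  by_cases hpM : p ∣ Nat.card M'
  · right
    haveI := Fact.mk hp
    -- normality of `M'` in `G'`, transported to `G`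
    have hconjD : ∀ (m : G) (hm : m ∈ commutator G), (⟨m, hm⟩ : commutator G) ∈ M' →
        ∀ (d : G) (hd : d ∈ commutator G),
          (⟨d * m * d⁻¹, mul_mem (mul_mem hd hm) (inv_mem hd)⟩ : commutator G) ∈ M' := by
      intro m hm hmM d hd
      exact hM'n.conj_mem ⟨m, hm⟩ hmM ⟨d, hd⟩
    obtain ⟨y, hy⟩ := exists_prime_orderOf_dvd_card' (G := M') p hpM
    have hyo : orderOf ((y : commutator G) : G) = p := by
      rw [Subgroup.orderOf_coe, Subgroup.orderOf_coe, hy]
    obtain ⟨g, hg⟩ := sc_conj_mem hp hx hC _ hyo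
    have hz1 : g * ((y : commutator G) : G) * g⁻¹ ≠ 1 := by
      intro h1
      have h2 : ((y : commutator G) : G) = 1 := by
        have h3 : ((y : commutator G) : G) =
            g⁻¹ * (g * ((y : commutator G) : G) * g⁻¹) * g := by group
        rw [h3, h1]
        group
      rw [h2, orderOf_one] at hyo
      exact hp.one_lt.ne hyo
    have hzz := Cfsg.Agent.S4496.zpowers_eq_of_mem hp hx hg hz1
    have hxz : x ∈ Subgroup.zpowers (g * ((y : commutator G) : G) * g⁻¹) := by
      rw [hzz]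
      exact Subgroup.mem_zpowers x
    obtain ⟨j, hj⟩ := Subgroup.mem_zpowers_iff.1 hxz
    -- `g⁻¹ x g = y ^ j`
    have hyj : g⁻¹ * x * g⁻¹⁻¹ = ((y : commutator G) : G) ^ j := by
      rw [← hj, conj_zpow]
      group
    have hyjM : ((y : commutator G) ^ j : commutator G) ∈ M' := zpow_mem y.2 j
    obtain ⟨d, hd, z, hz, hdz⟩ := sc_conj_decomp hp hx hC (commutator G) hxD g⁻¹
    -- `z = d⁻¹ (y^j) d ∈ M'`
    have hzD : z ∈ commutator G := Subgroup.zpowers_le.2 hxD hz
    have hzM : (⟨z, hzD⟩ : commutator G) ∈ M' := by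
      have h1 := hconjD _ ((y : commutator G) ^ j : commutator G).2 hyjM d⁻¹ (inv_mem hd)
      have h2 : (⟨z, hzD⟩ : commutator G) =
          ⟨d⁻¹ * (((y : commutator G) ^ j : commutator G) : G) * d⁻¹⁻¹,
            mul_mem (mul_mem (inv_mem hd) ((y : commutator G) ^ j : commutator G).2)
              (inv_mem (inv_mem hd))⟩ := by
        apply Subtype.ext
        show z = d⁻¹ * (((y : commutator G) ^ j : commutator G) : G) * d⁻¹⁻¹
        rw [Subgroup.coe_zpow, ← hyj, hdz]
        group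
      rw [h2]
      exact h1
    have hz1' : z ≠ 1 := by
      intro h1
      rw [h1] at hdz
      have h2 : x = 1 := by
        have h3 : x = g * (g⁻¹ * x * g⁻¹⁻¹) * g⁻¹ := by group
        rw [h3, hdz]
        group
      exact hx1 h2
    have hzz' := Cfsg.Agent.S4496.zpowers_eq_of_mem hp hx hz hz1'
    have hxM : (⟨x, hxD⟩ : commutator G) ∈ M' := by
      have hxz' : x ∈ Subgroup.zpowers z := by
        rw [hzz']
        exact Subgroup.mem_zpowers x
      obtain ⟨i, hi⟩ := Subgroup.mem_zpowers_iff.1 hxz'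
      have h1 : (⟨x, hxD⟩ : commutator G) = (⟨z, hzD⟩ : commutator G) ^ i := by
        apply Subtype.ext
        rw [Subgroup.coe_zpow]
        exact hi.symm
      rw [h1]
      exact zpow_mem hzM i
    have hall : ∀ g' : G, g' * x * g'⁻¹ ∈ M'.map (commutator G).subtype := by
      intro g'
      obtain ⟨d', hd', z', hz', hdz'⟩ := sc_conj_decomp hp hx hC (commutator G) hxD g'
      obtain ⟨i, hi⟩ := Subgroup.mem_zpowers_iff.1 hz'
      have hz'D : z' ∈ commutator G := Subgroup.zpowers_le.2 hxD hz'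
      have hz'M : (⟨z', hz'D⟩ : commutator G) ∈ M' := by
        have h1 : (⟨z', hz'D⟩ : commutator G) = (⟨x, hxD⟩ : commutator G) ^ i := by
          apply Subtype.ext
          rw [Subgroup.coe_zpow]
          exact hi.symm
        rw [h1]
        exact zpow_mem hxM i
      have h2 := hconjD z' hz'D hz'M d' hd'
      rw [hdz']
      exact Subgroup.mem_map.2 ⟨_, h2, rfl⟩
    have hDM := sc_commutator_le_of_conj hp hx hC _ hall
    have hM'top : M' = ⊤ := by
      rw [eq_top_iff]
      intro a _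
      obtain ⟨a', ha', ha''⟩ := Subgroup.mem_map.1 (hDM a.2)
      have h1 : a' = a := Subtype.ext ha''
      rw [← h1]
      exact ha'
    rw [hM'] at hM'top
    have h1 := Subgroup.map_comap_eq_self_of_surjective
      (QuotientGroup.mk'_surjective ((Cfsg.pPrimeCore p G).subgroupOf (commutator G))) Mb
    rw [hM'top, Subgroup.map_top_of_surjective _
      (QuotientGroup.mk'_surjective ((Cfsg.pPrimeCore p G).subgroupOf (commutator G)))] at h1
    exact h1.symm
  · left
    have hcop : (Nat.card M').Coprime p :=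
      ((Nat.Prime.coprime_iff_not_dvd hp).2 hpM).symm
    haveI := hM'n
    have hMS := sc_le_pPrimeCore_of_normal_in_normal p (commutator G) M' hcop
    rw [eq_bot_iff]
    intro q hq
    obtain ⟨a, rfl⟩ := QuotientGroup.mk_surjective q
    have haM : a ∈ M' := by
      rw [hM', Subgroup.mem_comap]
      exact hq
    have haS : (a : G) ∈ Cfsg.pPrimeCore p G := hMS (Subgroup.mem_map.2 ⟨a, haM, rfl⟩)
    rw [Subgroup.mem_bot, QuotientGroup.eq_one_iff, Subgroup.mem_subgroupOf]
    exact haS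

end Cfsg.Agent.Lib.Helper21
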