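import Mathlib

/-!
# Groups generated by two abelian subgroups, and the upper central series

`two_abelian_inf`: if `K = ⟨E, F⟩` with `E`, `F` abelian then `(E ⊔ Z_{j+1}) ⊓ (F ⊔ Z_{j+1}) = Z_{j+1}`.
`soft_class`: the upper central series of `K` climbs the tower above `E` one step at a time.
-/

set_option autoImplicit false
set_option linter.style.haveILetI false

namespace Cfsg.Agent.Lib.Helper21

variable {K : Type*} [Group K]

theorem mem_ucs_succ_iff (n : ℕ) (x : K) :
    x ∈ Subgroup.upperCentralSeries K (n + 1) ↔ ∀ y : K, x * y * x⁻¹ * y⁻¹ ∈ Subgroup.upperCentralSeries K n := by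
  rw [Subgroup.mem_upperCentralSeries_succ_iff]
  simp only [commutatorElement_def]

/-- if the upper central series stalls, it has reached the top (nilpotent groups) -/
theorem ucs_eq_top_of_stall [Group.IsNilpotent K] (n : ℕ)
    (h : Subgroup.upperCentralSeries K (n + 1) ≤ Subgroup.upperCentralSeries K n) : Subgroup.upperCentralSeries K n = ⊤ := by
  have heq : Subgroup.upperCentralSeries K (n + 1) = Subgroup.upperCentralSeries K n :=
    le_antisymm h (Subgroup.upperCentralSeries_mono K (Nat.le_succ n))
  have key : ∀ m : ℕ, Subgroup.upperCentralSeries K (n + m) = Subgroup.upperCentralSeries K n := by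
    intro m
    induction m with
    | zero => rfl
    | succ m ih =>
      ext x
      rw [← add_assoc, mem_ucs_succ_iff, ih]
      constructor
      · intro hx
        rw [← heq, mem_ucs_succ_iff]
        exact hx
      · intro hx
        rw [← heq] at hx
        exact (mem_ucs_succ_iff n x).mp hx
  obtain ⟨m, hm⟩ := Group.IsNilpotent.nilpotent K
  rcases le_total n m with hnm | hnm
  · obtain ⟨d, rfl⟩ := Nat.exists_eq_add_of_le hnm
    rw [← key d, hm]
  · exact top_le_iff.mp (hm ▸ Subgroup.upperCentralSeries_mono K hnm)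

/-- **Two abelian generators.** If `K = ⟨E, F⟩` with `E`, `F` abelian, then an element of both
`E Z_{j+1}` and `F Z_{j+1}` lies in `Z_{j+1}`. -/
theorem two_abelian_inf (E F : Subgroup K) (hE : ∀ a ∈ E, ∀ b ∈ E, a * b = b * a)
    (hF : ∀ a ∈ F, ∀ b ∈ F, a * b = b * a) (hEF : E ⊔ F = ⊤) (j : ℕ) (x : K)
    (hxE : x ∈ E ⊔ Subgroup.upperCentralSeries K (j + 1)) (hxF : x ∈ F ⊔ Subgroup.upperCentralSeries K (j + 1)) :
    x ∈ Subgroup.upperCentralSeries K (j + 1) := by
  rw [mem_ucs_succ_iff]
  -- the subgroup of elements commuting with `x` modulo `Z_j`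
  have hC : ∀ g : K, g ∈ (Subgroup.centralizer
      ({(QuotientGroup.mk' (Subgroup.upperCentralSeries K j)) x} : Set (K ⧸ Subgroup.upperCentralSeries K j))).comap
        (QuotientGroup.mk' (Subgroup.upperCentralSeries K j)) ↔
      x * g * x⁻¹ * g⁻¹ ∈ Subgroup.upperCentralSeries K j := by
    intro g
    rw [Subgroup.mem_comap, Subgroup.mem_centralizer_iff]
    simp only [Set.mem_singleton_iff, forall_eq]
    rw [← QuotientGroup.eq_one_iff (N := Subgroup.upperCentralSeries K j)]
    constructor
    · intro h
      have h1 : ((x * g * x⁻¹ * g⁻¹ : K) : K ⧸ Subgroup.upperCentralSeries K j) =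
          (QuotientGroup.mk' (Subgroup.upperCentralSeries K j)) x * (QuotientGroup.mk' (Subgroup.upperCentralSeries K j)) g *
            ((QuotientGroup.mk' (Subgroup.upperCentralSeries K j)) x)⁻¹ *
            ((QuotientGroup.mk' (Subgroup.upperCentralSeries K j)) g)⁻¹ := rfl
      rw [h1, h]; group
    · intro h
      have h1 : ((x * g * x⁻¹ * g⁻¹ : K) : K ⧸ Subgroup.upperCentralSeries K j) =
          (QuotientGroup.mk' (Subgroup.upperCentralSeries K j)) x * (QuotientGroup.mk' (Subgroup.upperCentralSeries K j)) g *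
            ((QuotientGroup.mk' (Subgroup.upperCentralSeries K j)) x)⁻¹ *
            ((QuotientGroup.mk' (Subgroup.upperCentralSeries K j)) g)⁻¹ := rfl
      rw [h1] at h
      have h2 := congrArg (fun t => t * ((QuotientGroup.mk' (Subgroup.upperCentralSeries K j)) g) *
        ((QuotientGroup.mk' (Subgroup.upperCentralSeries K j)) x)) h
      simp only [one_mul] at h2
      rw [← h2]; group
  -- generic step: `x = e z`, `e` in an abelian subgroup `A`, then `A` commutes with `x` mod `Z_j`
  have step : ∀ A : Subgroup K, (∀ a ∈ A, ∀ b ∈ A, a * b = b * a) →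
      x ∈ A ⊔ Subgroup.upperCentralSeries K (j + 1) →
      A ≤ (Subgroup.centralizer
        ({(QuotientGroup.mk' (Subgroup.upperCentralSeries K j)) x} : Set (K ⧸ Subgroup.upperCentralSeries K j))).comap
          (QuotientGroup.mk' (Subgroup.upperCentralSeries K j)) := by
    intro A hA hx g hg
    rw [hC]
    have hx' : x ∈ ((A ⊔ Subgroup.upperCentralSeries K (j + 1) : Subgroup K) : Set K) := hx
    rw [Subgroup.mul_normal] at hx'
    obtain ⟨e, he, z, hz, rfl⟩ := Set.mem_mul.mp hx'
    have hz' := (mem_ucs_succ_iff j z).mp hz g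
    have e1 : e * z * g * (e * z)⁻¹ * g⁻¹ = e * (z * g * z⁻¹ * g⁻¹) * e⁻¹ * (e * g * e⁻¹ * g⁻¹) := by
      group
    rw [e1]
    have e2 : e * g * e⁻¹ * g⁻¹ = 1 := by
      rw [hA e he g hg]; group
    rw [e2, mul_one]
    exact (inferInstance : (Subgroup.upperCentralSeries K j).Normal).conj_mem _ hz' e
  have hall : ∀ g : K, x * g * x⁻¹ * g⁻¹ ∈ Subgroup.upperCentralSeries K j := by
    intro g
    rw [← hC]
    have : (⊤ : Subgroup K) ≤ (Subgroup.centralizer
        ({(QuotientGroup.mk' (Subgroup.upperCentralSeries K j)) x} : Set (K ⧸ Subgroup.upperCentralSeries K j))).comap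
          (QuotientGroup.mk' (Subgroup.upperCentralSeries K j)) := by
      rw [← hEF]
      exact sup_le (step E hE hxE) (step F hF hxF)
    exact this (Subgroup.mem_top g)
  exact hall

/-- **Climbing the tower.** `K = ⟨E, φ E⟩` a finite `p`-group, `E` abelian containing the centre, every
proper subgroup containing `E` of index `p` in its normalizer, `|K : E| = p ^ i`. Then `K` has class
exactly `i + 1` (for `i ≥ 1`), and `Z_i(K) = (E Z_i) ⊓ (φ E Z_i)` has index `p` in `E Z_i`, which has
index `p` in `K`. -/
theorem soft_class [Finite K] {p : ℕ} [Fact p.Prime] (hK : IsPGroup p K)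
    (E F : Subgroup K) (hE : ∀ a ∈ E, ∀ b ∈ E, a * b = b * a)
    (φ : K ≃* K) (hφ : E.map φ.toMonoidHom = F) (hEF : E ⊔ F = ⊤)
    (hZ : Subgroup.center K ≤ E)
    (hnorm : ∀ A : Subgroup K, E ≤ A → A ≠ ⊤ → A.relIndex (Subgroup.normalizer (A : Set K)) = p)
    (i : ℕ) (hi : E.index = p ^ i) :
    Subgroup.upperCentralSeries K (i + 1) = ⊤ ∧
      (1 ≤ i → Subgroup.upperCentralSeries K i ≠ ⊤ ∧
        (E ⊔ Subgroup.upperCentralSeries K i).index = p ∧
        (E ⊔ Subgroup.upperCentralSeries K i) ⊓ (F ⊔ Subgroup.upperCentralSeries K i) =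
          Subgroup.upperCentralSeries K i ∧
        (Subgroup.upperCentralSeries K i).relIndex (E ⊔ Subgroup.upperCentralSeries K i) = p) := by
  have hp : p.Prime := Fact.out
  haveI : Group.IsNilpotent K := hK.isNilpotent
  have hF : ∀ a ∈ F, ∀ b ∈ F, a * b = b * a := by
    intro a ha b hb
    rw [← hφ] at ha hb
    obtain ⟨a', ha', rfl⟩ := ha
    obtain ⟨b', hb', rfl⟩ := hb
    show φ a' * φ b' = φ b' * φ a'
    rw [← map_mul, ← map_mul, hE a' ha' b' hb']
  have hchar : ∀ n, (Subgroup.upperCentralSeries K n).map φ.toMonoidHom =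
      Subgroup.upperCentralSeries K n := fun n =>
    Subgroup.characteristic_iff_map_eq.mp inferInstance φ
  have hmapsup : ∀ n, (E ⊔ Subgroup.upperCentralSeries K n).map φ.toMonoidHom =
      F ⊔ Subgroup.upperCentralSeries K n := by
    intro n; rw [Subgroup.map_sup, hφ, hchar]
  have R : ∀ j, j ≤ i → (E ⊔ Subgroup.upperCentralSeries K (j + 1)).index * p ^ j = p ^ i := by
    intro j
    induction j with
    | zero =>
      intro _
      rw [Subgroup.upperCentralSeries_one, sup_eq_left.mpr hZ, pow_zero, mul_one, hi]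
    | succ j ih =>
      intro hj
      have hA := ih (by omega)
      have hAtop : E ⊔ Subgroup.upperCentralSeries K (j + 1) ≠ ⊤ := by
        intro h
        rw [h, Subgroup.index_top, one_mul] at hA
        have := Nat.pow_right_injective hp.two_le hA
        omega
      have hAB : E ⊔ Subgroup.upperCentralSeries K (j + 1) ≤
          E ⊔ Subgroup.upperCentralSeries K (j + 2) :=
        sup_le_sup_left (Subgroup.upperCentralSeries_mono K (by omega)) E
      have hBN : E ⊔ Subgroup.upperCentralSeries K (j + 2) ≤
          Subgroup.normalizer ((E ⊔ Subgroup.upperCentralSeries K (j + 1) : Subgroup K) : Set K) := by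
        apply sup_le
        · exact le_trans le_sup_left Subgroup.le_normalizer
        · intro z hz
          rw [Subgroup.mem_normalizer_iff]
          intro a
          constructor
          · intro ha
            have h1 := (mem_ucs_succ_iff (j + 1) z).mp hz a
            have e1 : z * a * z⁻¹ = (z * a * z⁻¹ * a⁻¹) * a := by group
            rw [e1]
            exact mul_mem (Subgroup.mem_sup_right h1) ha
          · intro ha
            have h1 := (mem_ucs_succ_iff (j + 1) z⁻¹).mp (inv_mem hz) (z * a * z⁻¹)
            have e1 : a = (z⁻¹ * (z * a * z⁻¹) * z⁻¹⁻¹ * (z * a * z⁻¹)⁻¹) * (z * a * z⁻¹) := by group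
            rw [e1]
            exact mul_mem (Subgroup.mem_sup_right h1) ha
      have hrel := hnorm _ le_sup_left hAtop
      have hmul := Subgroup.relIndex_mul_relIndex _ _ _ hAB hBN
      rw [hrel] at hmul
      have hdvd : (E ⊔ Subgroup.upperCentralSeries K (j + 1)).relIndex
          (E ⊔ Subgroup.upperCentralSeries K (j + 2)) ∣ p := Dvd.intro _ hmul
      rcases (Nat.dvd_prime hp).mp hdvd with h1 | h1
      · exfalso
        have hBA := Subgroup.relIndex_eq_one.mp h1
        have hle : Subgroup.upperCentralSeries K (j + 2) ≤ Subgroup.upperCentralSeries K (j + 1) := by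
          intro x hx
          have hxE : x ∈ E ⊔ Subgroup.upperCentralSeries K (j + 1) :=
            hBA (Subgroup.mem_sup_right hx)
          have hxF : x ∈ F ⊔ Subgroup.upperCentralSeries K (j + 1) := by
            rw [← hmapsup]
            have hx2 : x ∈ (Subgroup.upperCentralSeries K (j + 2)).map φ.toMonoidHom := by
              rw [hchar]; exact hx
            obtain ⟨y, hy, rfl⟩ := hx2
            exact Subgroup.mem_map_of_mem _ (hBA (Subgroup.mem_sup_right hy))
          exact two_abelian_inf E F hE hF hEF j x hxE hxF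
        have htop := ucs_eq_top_of_stall (j + 1) hle
        apply hAtop
        rw [htop, sup_top_eq]
      · have h2 := Subgroup.relIndex_mul_index hAB
        rw [h1] at h2
        calc (E ⊔ Subgroup.upperCentralSeries K (j + 1 + 1)).index * p ^ (j + 1)
            = (p * (E ⊔ Subgroup.upperCentralSeries K (j + 2)).index) * p ^ j := by
              rw [pow_succ]; ring
          _ = p ^ i := by rw [h2, hA]
  have htopE : E ⊔ Subgroup.upperCentralSeries K (i + 1) = ⊤ := by
    have h := R i le_rfl
    have h1 : (E ⊔ Subgroup.upperCentralSeries K (i + 1)).index = 1 := by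
      have hpos : 0 < p ^ i := pow_pos hp.pos i
      exact Nat.eq_of_mul_eq_mul_right hpos (by rw [h, one_mul])
    exact Subgroup.index_eq_one.mp h1
  have htopF : F ⊔ Subgroup.upperCentralSeries K (i + 1) = ⊤ := by
    rw [← hmapsup, htopE]
    exact Subgroup.map_top_of_surjective _ φ.surjective
  refine ⟨?_, ?_⟩
  · rw [eq_top_iff]
    intro x _
    exact two_abelian_inf E F hE hF hEF i x (htopE ▸ Subgroup.mem_top x) (htopF ▸ Subgroup.mem_top x)
  · intro hi1
    obtain ⟨i', rfl⟩ : ∃ i', i = i' + 1 := ⟨i - 1, by omega⟩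
    have h := R i' (by omega)
    have hidx : (E ⊔ Subgroup.upperCentralSeries K (i' + 1)).index = p := by
      have hpos : 0 < p ^ i' := pow_pos hp.pos i'
      apply Nat.eq_of_mul_eq_mul_right hpos
      rw [h, pow_succ, mul_comm]
    have hidxF : (F ⊔ Subgroup.upperCentralSeries K (i' + 1)).index = p := by
      rw [← hmapsup]
      exact (Subgroup.index_map_equiv (E ⊔ Subgroup.upperCentralSeries K (i' + 1)) φ).trans hidx
    have hinf : (E ⊔ Subgroup.upperCentralSeries K (i' + 1)) ⊓
        (F ⊔ Subgroup.upperCentralSeries K (i' + 1)) = Subgroup.upperCentralSeries K (i' + 1) := by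
      apply le_antisymm
      · intro x hx
        exact two_abelian_inf E F hE hF hEF i' x hx.1 hx.2
      · exact le_inf le_sup_right le_sup_right
    refine ⟨?_, hidx, hinf, ?_⟩
    · intro htop
      rw [htop, sup_top_eq, Subgroup.index_top] at hidx
      exact hp.one_lt.ne hidx
    · haveI : (F ⊔ Subgroup.upperCentralSeries K (i' + 1)).Normal := by
        apply Subgroup.normal_of_index_eq_minFac_card
        rw [hidxF]
        obtain ⟨n, hn⟩ := IsPGroup.iff_card.mp hK
        rw [hn]
        have hn0 : n ≠ 0 := by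
          rintro rfl
          have hd := Subgroup.index_dvd_card (F ⊔ Subgroup.upperCentralSeries K (i' + 1))
          rw [hidxF, hn, pow_zero] at hd
          exact hp.one_lt.ne' (Nat.dvd_one.mp hd)
        rw [Nat.Prime.pow_minFac hp hn0]
      have h1 := Subgroup.relIndex_sup_right (H := E ⊔ Subgroup.upperCentralSeries K (i' + 1))
        (K := F ⊔ Subgroup.upperCentralSeries K (i' + 1))
      have h2 : (E ⊔ Subgroup.upperCentralSeries K (i' + 1)) ⊔
          (F ⊔ Subgroup.upperCentralSeries K (i' + 1)) = ⊤ := by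
        rw [eq_top_iff, ← hEF]
        exact sup_le_sup le_sup_left le_sup_left
      rw [h2, Subgroup.relIndex_top_right, hidxF] at h1
      rw [← Subgroup.inf_relIndex_right, inf_comm, hinf] at h1
      exact h1.symm

end Cfsg.Agent.Lib.Helper21
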