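import Mathlib
import Cfsg.Agent.Lib.Helper21.SylElem1
import Cfsg.Agent.Lib.Helper21.SylElem2
import Cfsg.Agent.Lib.Helper12.SylPermTrans

/-!
In a Sylow `2`-subgroup of the symmetric group on `2 ^ j` points any two distinct points are
swapped by some element.
-/

set_option autoImplicit false

namespace Cfsg.Agent.Lib.Helper21

/-- in a transitive orbit-full `2`-group of permutations any two distinct points are swapped by
some element. -/
theorem se_swap : ∀ (N : ℕ) (Ω : Type) [Finite Ω], Nat.card Ω = N →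
    ∀ (P : Subgroup (Equiv.Perm Ω)), IsPGroup 2 P → seF 2 P →
    (∀ a b : Ω, b ∈ MulAction.orbit P a) →
    ∀ a b : Ω, a ≠ b → ∃ τ ∈ P, τ a = b ∧ τ b = a := by
  intro N
  induction N using Nat.strong_induction_on with
  | _ N ih =>
  intro Ω _ hcard P hP hF htr a b hab
  classical
  haveI : Fact (Nat.Prime 2) := ⟨Nat.prime_two⟩
  have hN1 : 1 < Nat.card Ω := Finite.one_lt_card_iff_nontrivial.mpr ⟨⟨a, b, hab⟩⟩
  obtain ⟨M', hM'P, hFM, horbM, hsplit⟩ := se_trans 2 P hP hF a (fun y => htr a y) hN1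
  have hM'p : IsPGroup 2 M' := hP.to_le hM'P
  obtain ⟨q, r₁, r₂, hq, hr₁, hr₂⟩ := se_setup M' a
  have hqa : q a := (hq a).mpr (MulAction.mem_orbit_self a)
  have hm : ∀ g : M', Equiv.Perm.ofSubtype (r₁ g) ∈ M' :=
    se_restrict_mem 2 M' hFM hM'p q (fun y => ¬ q y) (fun y => Iff.rfl) r₁ hr₁ r₂ hr₂
  by_cases hb : q b
  · have hqcard : Nat.card {y // q y} = Nat.card (MulAction.orbit M' a) :=
      Nat.card_congr (Equiv.subtypeEquivRight hq)
    have hlt : Nat.card {y // q y} < N := by rw [hqcard, ← hcard]; exact horbM a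
    have hF₁ := se_restrict_F 2 M' hFM hM'p q (fun y => ¬ q y) (fun y => Iff.rfl) r₁ hr₁ r₂ hr₂
    have hP₁ := hM'p.of_surjective r₁.rangeRestrict r₁.rangeRestrict_surjective
    have htr₁ : ∀ u w : {y // q y}, w ∈ MulAction.orbit r₁.range u := by
      intro u w
      have hu := (hq u).mp u.2
      have hw := (hq w).mp w.2
      have h1 : (w : Ω) ∈ MulAction.orbit M' (u : Ω) := by
        rw [MulAction.orbit_eq_iff.mpr hu]; exact hw
      obtain ⟨g, hg⟩ := h1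
      refine ⟨⟨r₁ g, ⟨g, rfl⟩⟩, ?_⟩
      apply Subtype.ext
      show ((r₁ g u : {y // q y}) : Ω) = (w : Ω)
      rw [hr₁]; exact hg
    obtain ⟨τ₁, hτ₁, h1, h2⟩ := ih (Nat.card {y // q y}) hlt {y // q y} rfl r₁.range hP₁ hF₁
      htr₁ ⟨a, hqa⟩ ⟨b, hb⟩ (by intro h; exact hab (congrArg Subtype.val h))
    obtain ⟨g, rfl⟩ := hτ₁
    refine ⟨Equiv.Perm.ofSubtype (r₁ g), hM'P (hm g), ?_, ?_⟩
    · rw [Equiv.Perm.ofSubtype_apply_of_mem _ hqa, h1]
    · rw [Equiv.Perm.ofSubtype_apply_of_mem _ hb, h2]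
  · obtain ⟨g, hg⟩ := MulAction.mem_orbit_iff.mp (htr a b)
    have hgM : (g : Equiv.Perm Ω) ∉ M' := by
      intro h
      apply hb
      rw [hq]
      exact ⟨⟨g, h⟩, hg⟩
    obtain ⟨v, c, hvP, hcM, hgvc, hv2, -⟩ := hsplit g g.2 hgM
    obtain ⟨a', ha'⟩ : ∃ a' : Ω, a' = c a := ⟨_, rfl⟩
    have hqa' : q a' := by rw [hq, ha']; exact ⟨⟨c, hcM⟩, rfl⟩
    have hva' : v a' = b := by
      rw [ha', ← hg]
      show v (c a) = (g : Equiv.Perm Ω) a
      rw [hgvc]; rfl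
    have hvb : v b = a' := by
      rw [← hva']
      have h3 : v (v a') = (v ^ 2) a' := by rw [pow_two]; rfl
      rw [h3, hv2]; rfl
    have h1 : a ∈ MulAction.orbit M' a' := by
      have h2 := (hq a').mp hqa'
      rw [MulAction.orbit_eq_iff.mpr h2]; exact MulAction.mem_orbit_self a
    obtain ⟨k, hk⟩ := h1
    obtain ⟨m, hmdef⟩ : ∃ m : Equiv.Perm Ω, m = Equiv.Perm.ofSubtype (r₁ k) := ⟨_, rfl⟩
    have hmM : m ∈ M' := by rw [hmdef]; exact hm k
    have hma' : m a' = a := by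
      rw [hmdef, Equiv.Perm.ofSubtype_apply_of_mem _ hqa', hr₁]; exact hk
    have hmb : m b = b := by
      rw [hmdef, Equiv.Perm.ofSubtype_apply_of_not_mem _ hb]
    refine ⟨m * v * m⁻¹, P.mul_mem (P.mul_mem (hM'P hmM) hvP) (P.inv_mem (hM'P hmM)), ?_, ?_⟩
    · show m (v (m⁻¹ a)) = b
      have h3 : m⁻¹ a = a' := by rw [← hma']; exact m.symm_apply_apply a'
      rw [h3, hva', hmb]
    · show m (v (m⁻¹ b)) = a
      have h3 : m⁻¹ b = b := by
        have h4 := m.symm_apply_apply b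
        rw [hmb] at h4
        exact h4
      rw [h3, hvb, hma']

/-- in a Sylow `2`-subgroup of the symmetric group on `2 ^ j` points any two distinct points are
swapped by some element. -/
theorem sylow_perm_two_pow_swap (j : ℕ) (T0 : Sylow 2 (Equiv.Perm (Fin (2 ^ j))))
    (a b : Fin (2 ^ j)) (hab : a ≠ b) :
    ∃ τ ∈ (T0 : Subgroup (Equiv.Perm (Fin (2 ^ j)))), τ a = b ∧ τ b = a := by
  haveI : Fact (Nat.Prime 2) := ⟨Nat.prime_two⟩
  have hF : seF 2 (T0 : Subgroup (Equiv.Perm (Fin (2 ^ j)))) := by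
    intro R hR hPR _
    exact (T0.is_maximal' hR hPR).le
  have htr : ∀ u w : Fin (2 ^ j),
      w ∈ MulAction.orbit (T0 : Subgroup (Equiv.Perm (Fin (2 ^ j)))) u := by
    intro u w
    obtain ⟨σ, hσ, h⟩ :=
      Cfsg.Agent.Lib.Helper12.SylPermTrans.sylow_two_perm_transitive (2 ^ j) ⟨j, rfl⟩ T0 u w
    exact ⟨⟨σ, hσ⟩, h⟩
  exact se_swap _ (Fin (2 ^ j)) rfl _ T0.isPGroup' hF htr a b hab

end Cfsg.Agent.Lib.Helper21
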