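import Mathlib

set_option autoImplicit false

namespace Cfsg.Agent.Lib.Helper21

section SylowInt

variable {G : Type*} [Group G] {p : ℕ}

/-- Normalizers grow in `p`-groups: a proper subgroup `D` of a `p`-subgroup `P` is properly
contained in `P ∩ N(D)`. -/
theorem exists_mem_normalizer_not_mem [Finite G] [Fact p.Prime] {P D : Subgroup G}
    (hP : IsPGroup p P) (hDP : D < P) :
    ∃ x ∈ P, x ∈ Subgroup.normalizer (D : Set G) ∧ x ∉ D := by
  haveI : Group.IsNilpotent P := hP.isNilpotent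
  have hnc : NormalizerCondition P := Group.normalizerCondition_of_isNilpotent
  have hlt : D.subgroupOf P < ⊤ := by
    rw [lt_top_iff_ne_top, Ne, Subgroup.subgroupOf_eq_top]
    exact not_le_of_gt hDP
  have h2 := hnc _ hlt
  obtain ⟨x, hxN, hxD⟩ := SetLike.exists_of_lt h2
  refine ⟨x, x.2, ?_, fun h => hxD (Subgroup.mem_subgroupOf.mpr h)⟩
  rw [Subgroup.mem_normalizer_iff] at hxN ⊢
  intro h
  constructor
  · intro hh
    have h3 := (hxN ⟨h, hDP.le hh⟩).mp (Subgroup.mem_subgroupOf.mpr hh)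
    exact Subgroup.mem_subgroupOf.mp h3
  · intro hh
    have hhP : h ∈ P := by
      have h1 : (x : G) * h * (x : G)⁻¹ ∈ P := hDP.le hh
      have h4 : h = (x : G)⁻¹ * ((x : G) * h * (x : G)⁻¹) * (x : G) := by group
      rw [h4]; exact P.mul_mem (P.mul_mem (P.inv_mem x.2) h1) x.2
    have h3 := (hxN ⟨h, hhP⟩).mpr (Subgroup.mem_subgroupOf.mpr hh)
    exact Subgroup.mem_subgroupOf.mp h3

theorem sylow_inf_lt {P Q : Sylow p G} (hPQ : P ≠ Q) :
    (P : Subgroup G) ⊓ (Q : Subgroup G) < (P : Subgroup G) := by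
  refine lt_of_le_of_ne inf_le_left ?_
  intro h
  have hle : (P : Subgroup G) ≤ Q := inf_eq_left.mp h
  have h2 : (Q : Subgroup G) = P := P.is_maximal' Q.isPGroup' hle
  exact hPQ (Sylow.ext h2.symm)

/-- The intersection of two Sylow subgroups. -/
abbrev DInt (P Q : Sylow p G) : Subgroup G := (P : Subgroup G) ⊓ (Q : Subgroup G)

/-- The normalizer of the intersection of two Sylow subgroups. -/
abbrev NInt (P Q : Sylow p G) : Subgroup G := Subgroup.normalizer ((DInt P Q : Subgroup G) : Set G)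

/-- The configuration of a maximal Sylow intersection. -/
structure MaxInt (P Q : Sylow p G) : Prop where
  ne : P ≠ Q
  max : ∀ P' Q' : Sylow p G, P' ≠ Q' → Nat.card ↥(DInt P' Q') ≤ Nat.card ↥(DInt P Q)

variable [Finite G] [Fact p.Prime]

theorem MaxInt.card_lt {P Q : Sylow p G} (h : MaxInt P Q) (S : Sylow p ↥(NInt P Q)) :
    Nat.card ↥(DInt P Q) < Nat.card ↥(S : Subgroup ↥(NInt P Q)) := by
  obtain ⟨x, hxP, hxN, hxD⟩ := exists_mem_normalizer_not_mem P.isPGroup' (sylow_inf_lt h.ne)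
  have hDN : DInt P Q ≤ NInt P Q := Subgroup.le_normalizer
  have hK : IsPGroup p ((P : Subgroup G) ⊓ NInt P Q : Subgroup G) := P.isPGroup'.to_le inf_le_left
  have hK' : IsPGroup p (((P : Subgroup G) ⊓ NInt P Q).subgroupOf (NInt P Q)) :=
    hK.comap_of_injective (NInt P Q).subtype (NInt P Q).subtype_injective
  obtain ⟨S', hS'⟩ := hK'.exists_le_sylow
  have h1 : Nat.card ↥(S : Subgroup ↥(NInt P Q)) = Nat.card ↥(S' : Subgroup ↥(NInt P Q)) := by
    rw [Sylow.card_eq_multiplicity, Sylow.card_eq_multiplicity]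
  have h2 : Nat.card ↥(((P : Subgroup G) ⊓ NInt P Q).subgroupOf (NInt P Q)) ≤
      Nat.card ↥(S' : Subgroup ↥(NInt P Q)) := Subgroup.card_le_of_le hS'
  have h3 : Nat.card ↥(((P : Subgroup G) ⊓ NInt P Q).subgroupOf (NInt P Q)) =
      Nat.card ↥((P : Subgroup G) ⊓ NInt P Q) :=
    Nat.card_congr (Subgroup.subgroupOfEquivOfLe inf_le_right).toEquiv
  have h4 : DInt P Q ≤ (P : Subgroup G) ⊓ NInt P Q := le_inf inf_le_left hDN
  have h5 : Nat.card ↥(DInt P Q) < Nat.card ↥((P : Subgroup G) ⊓ NInt P Q) := by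
    by_contra hcon
    push Not at hcon
    have h6 := Subgroup.eq_of_le_of_card_ge h4 hcon
    have hx' : x ∈ DInt P Q := by rw [h6]; exact ⟨hxP, hxN⟩
    exact hxD hx'
  omega

theorem MaxInt.unique_over {P Q : Sylow p G} (h : MaxInt P Q) (S : Sylow p ↥(NInt P Q))
    (T₁ T₂ : Sylow p G)
    (h₁ : (S : Subgroup ↥(NInt P Q)).map (NInt P Q).subtype ≤ (T₁ : Subgroup G))
    (h₂ : (S : Subgroup ↥(NInt P Q)).map (NInt P Q).subtype ≤ (T₂ : Subgroup G)) :
    T₁ = T₂ := by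
  by_contra hne
  have h3 := h.max T₁ T₂ hne
  have h4 : Nat.card ↥((S : Subgroup ↥(NInt P Q)).map (NInt P Q).subtype) ≤
      Nat.card ↥(DInt T₁ T₂) := Subgroup.card_le_of_le (le_inf h₁ h₂)
  rw [Subgroup.card_map_of_injective (Subgroup.subtype_injective _)] at h4
  have h5 := h.card_lt S
  omega

theorem MaxInt.le_sylow {P Q : Sylow p G} (_h : MaxInt P Q) (S : Sylow p ↥(NInt P Q)) :
    (DInt P Q).subgroupOf (NInt P Q) ≤ (S : Subgroup ↥(NInt P Q)) := by
  have hD : IsPGroup p (DInt P Q) := P.isPGroup'.to_le inf_le_left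
  haveI hn : ((DInt P Q).subgroupOf (NInt P Q)).Normal := Subgroup.normal_in_normalizer
  have hD' : IsPGroup p ((DInt P Q).subgroupOf (NInt P Q)) :=
    hD.comap_of_injective _ (Subgroup.subtype_injective _)
  exact hD'.le_sylow_of_normal S

theorem MaxInt.over_ne {P Q : Sylow p G} (h : MaxInt P Q) (S T : Sylow p ↥(NInt P Q))
    (hST : S ≠ T) (T₁ T₂ : Sylow p G)
    (h₁ : (S : Subgroup ↥(NInt P Q)).map (NInt P Q).subtype ≤ (T₁ : Subgroup G))
    (h₂ : (T : Subgroup ↥(NInt P Q)).map (NInt P Q).subtype ≤ (T₂ : Subgroup G)) :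
    T₁ ≠ T₂ ∧ DInt T₁ T₂ = DInt P Q := by
  have hne : T₁ ≠ T₂ := by
    intro heq
    subst heq
    have hK : IsPGroup p ((T₁ : Subgroup G).subgroupOf (NInt P Q)) :=
      T₁.isPGroup'.comap_of_injective (NInt P Q).subtype (NInt P Q).subtype_injective
    have hS : (S : Subgroup ↥(NInt P Q)) ≤ (T₁ : Subgroup G).subgroupOf (NInt P Q) := by
      intro s hs
      rw [Subgroup.mem_subgroupOf]
      exact h₁ ⟨s, hs, rfl⟩
    have hT : (T : Subgroup ↥(NInt P Q)) ≤ (T₁ : Subgroup G).subgroupOf (NInt P Q) := by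
      intro s hs
      rw [Subgroup.mem_subgroupOf]
      exact h₂ ⟨s, hs, rfl⟩
    have e1 := S.is_maximal' hK hS
    have e2 := T.is_maximal' hK hT
    exact hST (Sylow.ext (e1.symm.trans e2))
  refine ⟨hne, ?_⟩
  have hDS := h.le_sylow S
  have hDT := h.le_sylow T
  have hDN : DInt P Q ≤ NInt P Q := Subgroup.le_normalizer
  have hle : DInt P Q ≤ DInt T₁ T₂ := by
    intro d hd
    exact ⟨h₁ ⟨⟨d, hDN hd⟩, hDS (Subgroup.mem_subgroupOf.mpr hd), rfl⟩,
      h₂ ⟨⟨d, hDN hd⟩, hDT (Subgroup.mem_subgroupOf.mpr hd), rfl⟩⟩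
  exact (Subgroup.eq_of_le_of_card_ge hle (h.max T₁ T₂ hne)).symm

theorem MaxInt.one_lt_card {P Q : Sylow p G} (h : MaxInt P Q) :
    1 < Nat.card (Sylow p ↥(NInt P Q)) := by
  by_contra hcon
  push Not at hcon
  haveI : Subsingleton (Sylow p ↥(NInt P Q)) := (Finite.card_le_one_iff_subsingleton).mp hcon
  -- a Sylow subgroup of `N` over `P ∩ N`, and one over `Q ∩ N`
  have hKP : IsPGroup p (((P : Subgroup G) ⊓ NInt P Q).subgroupOf (NInt P Q)) :=
    (P.isPGroup'.to_le inf_le_left).comap_of_injective _ (Subgroup.subtype_injective _)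
  have hKQ : IsPGroup p (((Q : Subgroup G) ⊓ NInt P Q).subgroupOf (NInt P Q)) :=
    (Q.isPGroup'.to_le inf_le_left).comap_of_injective _ (Subgroup.subtype_injective _)
  obtain ⟨S, hS⟩ := hKP.exists_le_sylow
  obtain ⟨S', hS'⟩ := hKQ.exists_le_sylow
  have hSS : S' = S := Subsingleton.elim _ _
  rw [hSS] at hS'
  obtain ⟨T, hT⟩ := ((S.isPGroup').map (NInt P Q).subtype).exists_le_sylow
  have hDN : DInt P Q ≤ NInt P Q := Subgroup.le_normalizer
  have hPT : (P : Subgroup G) ⊓ NInt P Q ≤ T := by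
    intro x hx
    exact hT ⟨⟨x, hx.2⟩, hS (Subgroup.mem_subgroupOf.mpr hx), rfl⟩
  have hQT : (Q : Subgroup G) ⊓ NInt P Q ≤ T := by
    intro x hx
    exact hT ⟨⟨x, hx.2⟩, hS' (Subgroup.mem_subgroupOf.mpr hx), rfl⟩
  have hTP : T = P := by
    by_contra hne
    have h1 := h.max T P hne
    obtain ⟨x, hxP, hxN, hxD⟩ := exists_mem_normalizer_not_mem P.isPGroup' (sylow_inf_lt h.ne)
    have h2 : DInt P Q ≤ DInt T P := by
      intro d hd
      exact ⟨hPT ⟨hd.1, hDN hd⟩, hd.1⟩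
    have h3 := Subgroup.eq_of_le_of_card_ge h2 h1
    have hx' : x ∈ DInt P Q := by rw [h3]; exact ⟨hPT ⟨hxP, hxN⟩, hxP⟩
    exact hxD hx'
  have hTQ : T = Q := by
    by_contra hne
    have h1 := h.max T Q hne
    have hQP : DInt Q P = DInt P Q := inf_comm _ _
    obtain ⟨x, hxQ, hxN, hxD⟩ := exists_mem_normalizer_not_mem Q.isPGroup' (sylow_inf_lt h.ne.symm)
    rw [show ((Q : Subgroup G) ⊓ (P : Subgroup G)) = DInt P Q from hQP] at hxN hxD
    have h2 : DInt P Q ≤ DInt T Q := by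
      intro d hd
      exact ⟨hQT ⟨hd.2, hDN hd⟩, hd.2⟩
    have h3 := Subgroup.eq_of_le_of_card_ge h2 h1
    have hx' : x ∈ DInt P Q := by rw [h3]; exact ⟨hQT ⟨hxQ, hxN⟩, hxQ⟩
    exact hxD hx'
  exact h.ne (hTP.symm.trans hTQ)

end SylowInt

end Cfsg.Agent.Lib.Helper21
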