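import Mathlib
import Cfsg.Prelude.Def_Transfer
import Cfsg.Agent.Lib.Helper21.Basic
import Cfsg.Agent.Lib.Helper21.PGroup
import Cfsg.Agent.Lib.Helper18.Frattini
import Cfsg.Agent.Lib.Helper18.PGroupFrat
import Cfsg.Agent.Lib.Helper12.NarrowAut

set_option autoImplicit false

namespace Cfsg.Agent.Lib.Helper21

section symp1

variable {G : Type*} [Group G]

/-- In a cyclic subgroup, an element of order dividing `p` lies in the subgroup generated by
any element of order `p`. -/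
theorem symp_cyc_mem [Finite G] {p : ℕ} [hp : Fact p.Prime] (C : Subgroup G) (hC : IsCyclic C)
    {z x : G} (hz : z ∈ C) (hzo : orderOf z = p) (hx : x ∈ C) (hxp : x ^ p = 1) :
    x ∈ Subgroup.zpowers z := by
  classical
  haveI := Fintype.ofFinite C
  have hle := IsCyclic.card_pow_eq_one_le (α := C) hp.out.pos
  obtain ⟨T, hT⟩ : ∃ T : Finset C, T = (Finset.range p).image (fun i => (⟨z, hz⟩ : C) ^ i) :=
    ⟨_, rfl⟩
  have hTcard : T.card = p := by
    rw [hT, Finset.card_image_of_injOn, Finset.card_range]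
    intro i hi j hj hij
    have hi' : i < p := Finset.mem_range.mp hi
    have hj' : j < p := Finset.mem_range.mp hj
    have h1 : z ^ i = z ^ j := by
      have := congrArg Subtype.val hij
      simpa using this
    have h2 := (pow_inj_mod (x := z)).mp h1
    rw [hzo, Nat.mod_eq_of_lt hi', Nat.mod_eq_of_lt hj'] at h2
    exact h2
  have hTsub : T ⊆ Finset.univ.filter (fun a : C => a ^ p = 1) := by
    intro a ha
    rw [hT] at ha
    obtain ⟨i, -, rfl⟩ := Finset.mem_image.mp ha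
    rw [Finset.mem_filter]
    refine ⟨Finset.mem_univ _, ?_⟩
    apply Subtype.ext
    have : (z ^ i) ^ p = 1 := by
      rw [← pow_mul, mul_comm, pow_mul, ← hzo, pow_orderOf_eq_one, one_pow]
    simpa using this
  have heq : T = Finset.univ.filter (fun a : C => a ^ p = 1) :=
    Finset.eq_of_subset_of_card_le hTsub (by rw [hTcard]; exact hle)
  have hxm : (⟨x, hx⟩ : C) ∈ T := by
    rw [heq, Finset.mem_filter]
    refine ⟨Finset.mem_univ _, ?_⟩
    apply Subtype.ext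
    simpa using hxp
  rw [hT] at hxm
  obtain ⟨i, -, hi⟩ := Finset.mem_image.mp hxm
  have : z ^ i = x := by
    have := congrArg Subtype.val hi
    simpa using this
  rw [← this]
  exact Subgroup.pow_mem _ (Subgroup.mem_zpowers z) i

/-- elements whose commutators with everything lie in the central subgroup `Z` and whose
`p`-th power lies in `Z`. -/
def sympD (p : ℕ) (Z : Subgroup G) (hZ : Z ≤ Subgroup.center G) : Subgroup G where
  carrier := {x | (∀ g : G, x * g * x⁻¹ * g⁻¹ ∈ Z) ∧ x ^ p ∈ Z}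
  one_mem' := by
    refine ⟨fun g => ?_, ?_⟩
    · have : (1 : G) * g * 1⁻¹ * g⁻¹ = 1 := by group
      rw [this]; exact Z.one_mem
    · rw [one_pow]; exact Z.one_mem
  mul_mem' := by
    intro a b ha hb
    have hcomm : ∀ g : G, (a * b) * g * (a * b)⁻¹ * g⁻¹ ∈ Z := by
      intro g
      have hc := hb.1 g
      have hcc : a * (b * g * b⁻¹ * g⁻¹) = (b * g * b⁻¹ * g⁻¹) * a :=
        Subgroup.mem_center_iff.mp (hZ hc) a
      have h1 : (a * b) * g * (a * b)⁻¹ * g⁻¹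
          = (a * (b * g * b⁻¹ * g⁻¹)) * a⁻¹ * (a * g * a⁻¹ * g⁻¹) := by group
      rw [h1, hcc]
      have h2 : (b * g * b⁻¹ * g⁻¹) * a * a⁻¹ * (a * g * a⁻¹ * g⁻¹)
          = (b * g * b⁻¹ * g⁻¹) * (a * g * a⁻¹ * g⁻¹) := by group
      rw [h2]
      exact Z.mul_mem hc (ha.1 g)
    refine ⟨hcomm, ?_⟩
    have hc := ha.1 b
    have hcc : ∀ g : G, g * (a * b * a⁻¹ * b⁻¹) = (a * b * a⁻¹ * b⁻¹) * g :=
      fun g => Subgroup.mem_center_iff.mp (hZ hc) g
    obtain ⟨k, hk⟩ : ∃ k : G, k = (a * b * a⁻¹ * b⁻¹)⁻¹ := ⟨_, rfl⟩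
    have hkZ : k ∈ Z := by rw [hk]; exact Z.inv_mem hc
    have hkc : ∀ g : G, g * k = k * g := fun g => Subgroup.mem_center_iff.mp (hZ hkZ) g
    have hba : b * a = a * b * k := by
      rw [hkc (a * b), hk]; group
    have := Cfsg.Agent.Lib.Helper12.NarrowAut.mul_pow_class_two a b k hba (hkc a).symm
      (hkc b).symm p
    rw [this]
    exact Z.mul_mem (Z.mul_mem ha.2 hb.2) (Z.pow_mem hkZ _)
  inv_mem' := by
    intro a ha
    refine ⟨fun g => ?_, ?_⟩
    · have hc := ha.1 g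
      have hcc : a * (a * g * a⁻¹ * g⁻¹)⁻¹ = (a * g * a⁻¹ * g⁻¹)⁻¹ * a :=
        Subgroup.mem_center_iff.mp (hZ (Z.inv_mem hc)) a
      have h1 : a⁻¹ * g * a⁻¹⁻¹ * g⁻¹ = a⁻¹ * ((a * g * a⁻¹ * g⁻¹)⁻¹ * a) := by group
      rw [h1, ← hcc]
      have h2 : a⁻¹ * (a * (a * g * a⁻¹ * g⁻¹)⁻¹) = (a * g * a⁻¹ * g⁻¹)⁻¹ := by group
      rw [h2]
      exact Z.inv_mem hc
    · rw [inv_pow]; exact Z.inv_mem ha.2

theorem mem_sympD {p : ℕ} {Z : Subgroup G} {hZ : Z ≤ Subgroup.center G} {x : G} :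
    x ∈ sympD p Z hZ ↔ (∀ g : G, x * g * x⁻¹ * g⁻¹ ∈ Z) ∧ x ^ p ∈ Z := Iff.rfl

theorem le_sympD (p : ℕ) (Z : Subgroup G) (hZ : Z ≤ Subgroup.center G) : Z ≤ sympD p Z hZ := by
  intro z hz
  refine ⟨fun g => ?_, Z.pow_mem hz p⟩
  have h := Subgroup.mem_center_iff.mp (hZ hz) g
  have : z * g * z⁻¹ * g⁻¹ = 1 := by rw [← h]; group
  rw [this]; exact Z.one_mem

theorem sympD_char (p : ℕ) (Z : Subgroup G) (hZ : Z ≤ Subgroup.center G)
    (hZc : Z.Characteristic) : (sympD p Z hZ).Characteristic := by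
  rw [Subgroup.characteristic_iff_le_comap]
  intro φ x hx
  have hZ' := Subgroup.characteristic_iff_le_comap.mp hZc φ
  show φ x ∈ sympD p Z hZ
  refine ⟨fun g => ?_, ?_⟩
  · have h1 := hZ' (hx.1 (φ.symm g))
    have h2 : φ (x * φ.symm g * x⁻¹ * (φ.symm g)⁻¹) ∈ Z := h1
    simpa using h2
  · have h1 := hZ' hx.2
    have h2 : φ (x ^ p) ∈ Z := h1
    simpa using h2

/-- the swapped commutator also lies in `Z`. -/
theorem sympD_comm' {p : ℕ} {Z : Subgroup G} {hZ : Z ≤ Subgroup.center G} {x : G}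
    (hx : x ∈ sympD p Z hZ) (g : G) : g * x * g⁻¹ * x⁻¹ ∈ Z := by
  have h := Z.inv_mem (hx.1 g)
  have : (x * g * x⁻¹ * g⁻¹)⁻¹ = g * x * g⁻¹ * x⁻¹ := by group
  rwa [this] at h

/-- a subgroup of `sympD` containing `Z` is normal. -/
theorem sympD_normal {p : ℕ} {Z : Subgroup G} {hZ : Z ≤ Subgroup.center G} {E : Subgroup G}
    (hZE : Z ≤ E) (hED : E ≤ sympD p Z hZ) : E.Normal := by
  constructor
  intro e he g
  have h := sympD_comm' (hED he) g
  have : g * e * g⁻¹ = (g * e * g⁻¹ * e⁻¹) * e := by group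
  rw [this]
  exact E.mul_mem (hZE h) he

end symp1

end Cfsg.Agent.Lib.Helper21
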