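import Mathlib
import Cfsg.Agent.Lib.Helper21.Symp1

set_option autoImplicit false

namespace Cfsg.Agent.Lib.Helper21

open scoped commutatorElement

section symp2

variable {G : Type*} [Group G]

/-- constructor for extraspecial subgroups from elementwise data. -/
theorem symp_es_of [Finite G] {p : ℕ} [hp : Fact p.Prime] (hG : IsPGroup p G) (E Z : Subgroup G)
    (hZE : Z ≤ E) (hZcard : Nat.card Z = p) (hZc : ∀ z ∈ Z, ∀ e ∈ E, z * e = e * z)
    (hcen : ∀ x ∈ E, (∀ y ∈ E, x * y = y * x) → x ∈ Z)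
    (hcomm : ∀ x ∈ E, ∀ y ∈ E, x * y * x⁻¹ * y⁻¹ ∈ Z) (hpow : ∀ x ∈ E, x ^ p ∈ Z)
    (hnab : ∃ x ∈ E, ∃ y ∈ E, x * y ≠ y * x) : Cfsg.IsExtraspecial p ↥E := by
  have hEp : IsPGroup p E := hG.to_subgroup E
  have hcenter : Subgroup.center ↥E = Z.subgroupOf E := by
    ext x
    rw [Subgroup.mem_center_iff, Subgroup.mem_subgroupOf]
    constructor
    · intro h
      apply hcen x.1 x.2
      intro y hy
      have := h ⟨y, hy⟩
      have h2 := congrArg Subtype.val this
      simpa using h2.symm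
    · intro h y
      apply Subtype.ext
      have := hZc x.1 h y.1 y.2
      simpa using this.symm
  have hccard : Nat.card (Subgroup.center ↥E) = p := by
    rw [hcenter, Nat.card_congr (Subgroup.subgroupOfEquivOfLe hZE).toEquiv, hZcard]
  have hcomm_le : _root_.commutator ↥E ≤ Subgroup.center ↥E := by
    rw [_root_.commutator_def, Subgroup.commutator_le]
    intro a _ b _
    rw [hcenter, Subgroup.mem_subgroupOf]
    have := hcomm a.1 a.2 b.1 b.2
    simpa [commutatorElement_def] using this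
  have hcomm_eq : _root_.commutator ↥E = Subgroup.center ↥E := by
    apply Subgroup.eq_of_le_of_card_ge hcomm_le
    rw [hccard]
    have hdvd : Nat.card (_root_.commutator ↥E) ∣ p := by
      rw [← hccard]; exact Subgroup.card_dvd_of_le hcomm_le
    rcases (Nat.dvd_prime hp.out).mp hdvd with h1 | h1
    · exfalso
      have hbot : _root_.commutator ↥E = ⊥ := Subgroup.card_eq_one.mp h1
      obtain ⟨x, hx, y, hy, hxy⟩ := hnab
      apply hxy
      have hmem : ⁅(⟨x, hx⟩ : E), ⟨y, hy⟩⁆ ∈ _root_.commutator ↥E := by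
        rw [_root_.commutator_def]
        exact Subgroup.commutator_mem_commutator (Subgroup.mem_top _) (Subgroup.mem_top _)
      rw [hbot, Subgroup.mem_bot] at hmem
      have h2 := congrArg Subtype.val hmem
      have h3 : x * y * x⁻¹ * y⁻¹ = 1 := by simpa [commutatorElement_def] using h2
      calc x * y = (x * y * x⁻¹ * y⁻¹) * (y * x) := by group
        _ = y * x := by rw [h3, one_mul]
    · exact h1.ge
  haveI : Group.IsNilpotent ↥E := hEp.isNilpotent
  have hfrat : frattini ↥E = Subgroup.center ↥E := by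
    apply le_antisymm
    · apply Cfsg.Agent.Lib.Helper18.frattini_le_of_elementary (p := p) (Subgroup.center ↥E)
      · intro a b
        rw [hcenter, Subgroup.mem_subgroupOf]
        have := hcomm a.1 a.2 b.1 b.2
        simpa using this
      · intro a
        rw [hcenter, Subgroup.mem_subgroupOf]
        have := hpow a.1 a.2
        simpa using this
    · rw [← hcomm_eq]
      exact Cfsg.Agent.Lib.Helper18.commutator_le_frattini_of_isNilpotent
  exact ⟨⟨hEp, hfrat, hcomm_eq⟩, hccard⟩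

theorem symp_comm_aux (x u v : G) (h1 : x * v * x⁻¹ * v⁻¹ = x * u * x⁻¹ * u⁻¹) :
    x * (u⁻¹ * v) = (u⁻¹ * v) * x := by
  have h2 : v * x⁻¹ * v⁻¹ = u * x⁻¹ * u⁻¹ := by
    calc v * x⁻¹ * v⁻¹ = x⁻¹ * (x * v * x⁻¹ * v⁻¹) := by group
      _ = x⁻¹ * (x * u * x⁻¹ * u⁻¹) := by rw [h1]
      _ = u * x⁻¹ * u⁻¹ := by group
  have h3 : (u⁻¹ * v) * x⁻¹ = x⁻¹ * (u⁻¹ * v) := by
    calc (u⁻¹ * v) * x⁻¹ = u⁻¹ * (v * x⁻¹ * v⁻¹) * v := by group
      _ = u⁻¹ * (u * x⁻¹ * u⁻¹) * v := by rw [h2]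
      _ = x⁻¹ * (u⁻¹ * v) := by group
  calc x * (u⁻¹ * v) = x * ((u⁻¹ * v) * x⁻¹) * x := by group
    _ = x * (x⁻¹ * (u⁻¹ * v)) * x := by rw [h3]
    _ = (u⁻¹ * v) * x := by group

/-- centralizer index bound: elements of `sympD` have centralizers of index at most `p` in any
subgroup. -/
theorem symp_idx [Finite G] {p : ℕ} (Z : Subgroup G) (hZ : Z ≤ Subgroup.center G)
    (hZcard : Nat.card Z = p) {x : G} (hx : x ∈ sympD p Z hZ) (A : Subgroup G) :
    Nat.card A ≤ Nat.card ↥(A ⊓ Subgroup.centralizer ({x} : Set G)) * p := by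
  have hx1 : ∀ g : G, x * g * x⁻¹ * g⁻¹ ∈ Z := (mem_sympD.mp hx).1
  have key := Cfsg.Agent.Lib.Helper12.NarrowAut.card_le_of_fibers
    (fun a : A => (⟨x * a.1 * x⁻¹ * a.1⁻¹, hx1 a.1⟩ : Z))
    (Nat.card ↥(A ⊓ Subgroup.centralizer ({x} : Set G))) (by
      intro a
      have hmem : ∀ a' : {a' : A // (⟨x * a'.1 * x⁻¹ * a'.1⁻¹, hx1 a'.1⟩ : Z)
          = ⟨x * a.1 * x⁻¹ * a.1⁻¹, hx1 a.1⟩},
          a.1⁻¹ * a'.1.1 ∈ A ⊓ Subgroup.centralizer ({x} : Set G) := by
        intro a'
        rw [Subgroup.mem_inf]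
        refine ⟨A.mul_mem (A.inv_mem a.2) a'.1.2, mem_centralizer_singleton.mpr ?_⟩
        exact symp_comm_aux x a.1 a'.1.1 (congrArg Subtype.val a'.2)
      exact Nat.card_le_card_of_injective (fun a' => ⟨a.1⁻¹ * a'.1.1, hmem a'⟩) (by
        intro a' a'' h
        have h1 : (a.1 : G)⁻¹ * a'.1.1 = a.1⁻¹ * a''.1.1 := congrArg Subtype.val h
        exact Subtype.ext (Subtype.ext (mul_left_cancel h1))))
  rwa [hZcard] at key

/-- counting: `|G| p ≤ |E| |C_G(E)|` for `Z ≤ E ≤ sympD`. -/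
theorem symp_count [Finite G] {p : ℕ} [hp : Fact p.Prime] (hG : IsPGroup p G) (Z : Subgroup G)
    (hZ : Z ≤ Subgroup.center G) (hZcard : Nat.card Z = p) (E : Subgroup G) (hZE : Z ≤ E)
    (hED : E ≤ sympD p Z hZ) :
    Nat.card G * p ≤ Nat.card E * Nat.card (Subgroup.centralizer (E : Set G)) := by
  obtain ⟨X, hX⟩ := Set.Finite.exists_maximal (s := {X : Subgroup G | Z ≤ X ∧ X ≤ E ∧
      Nat.card G * p ≤ Nat.card X * Nat.card (Subgroup.centralizer (X : Set G))})
    (Set.toFinite _) ⟨Z, le_rfl, hZE, by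
      have : Subgroup.centralizer (Z : Set G) = ⊤ :=
        Subgroup.centralizer_eq_top_iff_subset.mpr hZ
      rw [this, Subgroup.card_top, hZcard, mul_comm]⟩
  obtain ⟨⟨hZX, hXE, hXc⟩, hmax⟩ := hX
  by_cases hXeq : X = E
  · rw [hXeq] at hXc; exact hXc
  exfalso
  have hlt : X < E := lt_of_le_of_ne hXE hXeq
  obtain ⟨x, hxE, hxX⟩ := SetLike.exists_of_lt hlt
  obtain ⟨X', hX'⟩ : ∃ X' : Subgroup G, X' = X ⊔ Subgroup.zpowers x := ⟨_, rfl⟩
  have hXX' : X ≤ X' := by rw [hX']; exact le_sup_left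
  have hxX' : x ∈ X' := by
    rw [hX']; exact (le_sup_right : Subgroup.zpowers x ≤ _) (Subgroup.mem_zpowers x)
  have hX'E : X' ≤ E := by
    rw [hX']; exact sup_le hXE ((Subgroup.zpowers_le).mpr hxE)
  have hcle : Subgroup.centralizer (X : Set G) ⊓ Subgroup.centralizer ({x} : Set G)
      ≤ Subgroup.centralizer (X' : Set G) := by
    intro g hg
    rw [Subgroup.mem_inf] at hg
    have h1 : X' ≤ Subgroup.centralizer ({g} : Set G) := by
      rw [hX']
      refine sup_le ?_ ((Subgroup.zpowers_le).mpr ?_)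
      · intro h hh
        rw [mem_centralizer_singleton]
        exact (Subgroup.mem_centralizer_iff.mp hg.1 h hh).symm
      · rw [mem_centralizer_singleton]
        exact (mem_centralizer_singleton.mp hg.2).symm
    rw [Subgroup.mem_centralizer_iff]
    intro h hh
    exact (mem_centralizer_singleton.mp (h1 hh)).symm
  have h1 := symp_idx Z hZ hZcard (hED hxE) (Subgroup.centralizer (X : Set G))
  have h2 := Subgroup.card_le_of_le hcle
  have h3 : p * Nat.card X ≤ Nat.card X' := by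
    obtain ⟨a, ha⟩ := IsPGroup.iff_card.mp (hG.to_subgroup X)
    obtain ⟨b, hb⟩ := IsPGroup.iff_card.mp (hG.to_subgroup X')
    have hdvd := Subgroup.card_dvd_of_le hXX'
    have hne : Nat.card X ≠ Nat.card X' := by
      intro h
      have := Subgroup.eq_of_le_of_card_ge hXX' h.ge
      exact hxX (this ▸ hxX')
    rw [ha, hb] at hdvd hne ⊢
    have hab : a ≤ b := (Nat.pow_dvd_pow_iff_le_right hp.out.one_lt).mp hdvd
    have hab' : a < b := lt_of_le_of_ne hab (fun h => hne (by rw [h]))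
    calc p * p ^ a = p ^ (a + 1) := by rw [pow_succ]; ring
      _ ≤ p ^ b := Nat.pow_le_pow_right hp.out.pos hab'
  have hX'mem : X' ∈ {X : Subgroup G | Z ≤ X ∧ X ≤ E ∧
      Nat.card G * p ≤ Nat.card X * Nat.card (Subgroup.centralizer (X : Set G))} := by
    refine ⟨hZX.trans hXX', hX'E, ?_⟩
    calc Nat.card G * p ≤ Nat.card X * Nat.card (Subgroup.centralizer (X : Set G)) := hXc
      _ ≤ Nat.card X * (Nat.card ↥(Subgroup.centralizer (X : Set G) ⊓
            Subgroup.centralizer ({x} : Set G)) * p) := Nat.mul_le_mul_left _ h1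
      _ = (p * Nat.card X) * Nat.card ↥(Subgroup.centralizer (X : Set G) ⊓
            Subgroup.centralizer ({x} : Set G)) := by ring
      _ ≤ Nat.card X' * Nat.card (Subgroup.centralizer (X' : Set G)) :=
          Nat.mul_le_mul h3 h2
  exact hxX (hmax hX'mem hXX' hxX')

/-- `G = E C_G(E)`. -/
theorem symp_sup_top [Finite G] {p : ℕ} [hp : Fact p.Prime] (hG : IsPGroup p G) (Z : Subgroup G)
    (hZ : Z ≤ Subgroup.center G) (hZcard : Nat.card Z = p) (E : Subgroup G) (hZE : Z ≤ E)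
    (hED : E ≤ sympD p Z hZ)
    (hcenE : ∀ x ∈ E, x ∈ Subgroup.centralizer (E : Set G) → x ∈ Z) :
    E ⊔ Subgroup.centralizer (E : Set G) = ⊤ := by
  haveI : E.Normal := sympD_normal hZE hED
  have h1 := card_sup_mul_card_inf (Subgroup.centralizer (E : Set G)) E
  have h2 := symp_count hG Z hZ hZcard E hZE hED
  have h3 : Nat.card ↥(Subgroup.centralizer (E : Set G) ⊓ E) ≤ p := by
    rw [← hZcard]
    apply Subgroup.card_le_of_le
    intro x hx
    rw [Subgroup.mem_inf] at hx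
    exact hcenE x hx.2 hx.1
  have h4 : Nat.card G ≤ Nat.card ↥(Subgroup.centralizer (E : Set G) ⊔ E) := by
    have h5 : Nat.card G * p ≤ Nat.card ↥(Subgroup.centralizer (E : Set G) ⊔ E) * p := by
      calc Nat.card G * p ≤ Nat.card E * Nat.card (Subgroup.centralizer (E : Set G)) := h2
        _ = Nat.card ↥(Subgroup.centralizer (E : Set G) ⊔ E) *
            Nat.card ↥(Subgroup.centralizer (E : Set G) ⊓ E) := by rw [h1]; ring
        _ ≤ Nat.card ↥(Subgroup.centralizer (E : Set G) ⊔ E) * p := Nat.mul_le_mul_left _ h3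
    exact Nat.le_of_mul_le_mul_right h5 hp.out.pos
  rw [sup_comm]
  exact Subgroup.eq_top_of_le_card _ h4

end symp2

end Cfsg.Agent.Lib.Helper21
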