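import Mathlib
import Cfsg.Agent.Lib.Helper21.Symp2
import Cfsg.Agent.Lib.Lead.UniqueSubgroup
import Cfsg.Agent.Lib.Helper11.NormalFour

set_option autoImplicit false

namespace Cfsg.Agent.Lib.Helper21

section symp3

variable {G : Type*} [Group G]

/-- a complement `E` to the centre of `D = sympD` inside `D`. -/
theorem symp_exists_E [Finite G] {p : ℕ} [hp : Fact p.Prime] (hG : IsPGroup p G) (Z : Subgroup G)
    (hZ : Z ≤ Subgroup.center G)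
    (hcyc : IsCyclic ↥(sympD p Z hZ ⊓ Subgroup.centralizer (sympD p Z hZ : Set G))) :
    ∃ E : Subgroup G, Z ≤ E ∧ E ≤ sympD p Z hZ ∧
      (∀ d ∈ sympD p Z hZ, ∃ e ∈ E,
        ∃ t ∈ sympD p Z hZ ⊓ Subgroup.centralizer (sympD p Z hZ : Set G), d = e * t) ∧
      (∀ x ∈ E, x ∈ sympD p Z hZ ⊓ Subgroup.centralizer (sympD p Z hZ : Set G) → x ∈ Z) := by
  obtain ⟨ZD, hZD⟩ : ∃ ZD : Subgroup G,
      ZD = sympD p Z hZ ⊓ Subgroup.centralizer (sympD p Z hZ : Set G) := ⟨_, rfl⟩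
  rw [← hZD] at hcyc ⊢
  have hZDmem : ∀ x : G, x ∈ ZD → x ∈ sympD p Z hZ ∧ ∀ d ∈ sympD p Z hZ, d * x = x * d := by
    intro x hx
    rw [hZD, Subgroup.mem_inf] at hx
    exact ⟨hx.1, fun d hd => Subgroup.mem_centralizer_iff.mp hx.2 d hd⟩
  by_cases h : ZD ≤ Z
  · exact ⟨sympD p Z hZ, le_sympD p Z hZ, le_rfl,
      fun d hd => ⟨d, hd, 1, ZD.one_mem, (mul_one d).symm⟩, fun x _ hx => h hx⟩
  obtain ⟨t, htZD, htZ⟩ := SetLike.not_le_iff_exists.mp h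
  have htD : t ∈ sympD p Z hZ := (hZDmem t htZD).1
  have htc : ∀ d ∈ sympD p Z hZ, d * t = t * d := (hZDmem t htZD).2
  obtain ⟨E, hE⟩ := Set.Finite.exists_maximal
    (s := {X : Subgroup G | Z ≤ X ∧ X ≤ sympD p Z hZ ∧ t ∉ X}) (Set.toFinite _)
    ⟨Z, le_rfl, le_sympD p Z hZ, htZ⟩
  obtain ⟨⟨hZE, hED, htE⟩, hmax⟩ := hE
  haveI : E.Normal := sympD_normal hZE hED
  have hpp : Prime (p : ℤ) := Nat.prime_iff_prime_int.mp hp.out
  have claim1 : ∀ d ∈ sympD p Z hZ, ∃ e ∈ E, ∃ i : ℤ, d = e * t ^ i := by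
    intro d hd
    by_contra hcon
    push Not at hcon
    have hdE : d ∉ E := fun hdE => hcon d hdE 0 (by simp)
    have htX : t ∈ E ⊔ Subgroup.zpowers d := by
      by_contra htX
      have hmem : E ⊔ Subgroup.zpowers d ∈
          {X : Subgroup G | Z ≤ X ∧ X ≤ sympD p Z hZ ∧ t ∉ X} :=
        ⟨hZE.trans le_sup_left, sup_le hED ((Subgroup.zpowers_le).mpr hd), htX⟩
      have := hmax hmem le_sup_left
      exact hdE (this ((le_sup_right : Subgroup.zpowers d ≤ _) (Subgroup.mem_zpowers d)))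
    have htX' : t ∈ ((E ⊔ Subgroup.zpowers d : Subgroup G) : Set G) := htX
    rw [Subgroup.normal_mul] at htX'
    obtain ⟨e, he, m, hm, hem⟩ := Set.mem_mul.mp htX'
    obtain ⟨i, rfl⟩ := Subgroup.mem_zpowers_iff.mp hm
    have hdp : d ^ p ∈ Z := (mem_sympD.mp hd).2
    by_cases hpi : (p : ℤ) ∣ i
    · obtain ⟨j, rfl⟩ := hpi
      apply htE
      rw [← hem]
      refine E.mul_mem he (hZE ?_)
      rw [zpow_mul, zpow_natCast]
      exact Z.zpow_mem hdp j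
    · have hcop : IsCoprime i (p : ℤ) := (hpp.coprime_iff_not_dvd.mpr hpi).symm
      obtain ⟨a, b, hab⟩ := hcop
      have hd1 : d = (d ^ i) ^ a * (d ^ (p : ℤ)) ^ b := by
        rw [← zpow_mul, ← zpow_mul, ← zpow_add, mul_comm i a, mul_comm (p : ℤ) b, hab, zpow_one]
      have hdi : d ^ i = e⁻¹ * t := by rw [← hem]; group
      have hcomm_et : Commute e⁻¹ t := htc e⁻¹ ((sympD p Z hZ).inv_mem (hED he))
      have hpow : (e⁻¹ * t) ^ a = (e⁻¹) ^ a * t ^ a := hcomm_et.mul_zpow a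
      obtain ⟨w, hw⟩ : ∃ w : G, w = (d ^ (p : ℤ)) ^ b := ⟨_, rfl⟩
      have hwZ : w ∈ Z := by rw [hw, zpow_natCast]; exact Z.zpow_mem hdp b
      have hwc : ∀ g : G, g * w = w * g := fun g => Subgroup.mem_center_iff.mp (hZ hwZ) g
      apply hcon ((e⁻¹) ^ a * w) (E.mul_mem (E.zpow_mem (E.inv_mem he) a) (hZE hwZ)) a
      rw [hd1, hdi, hpow, ← hw, mul_assoc, hwc (t ^ a), ← mul_assoc]
  have claim2 : ∀ x ∈ E, x ∈ ZD → x ∈ Z := by
    intro x hxE hxZD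
    by_contra hxZ
    obtain ⟨w, hw⟩ := IsCyclic.exists_generator (α := ↥ZD)
    obtain ⟨i, hi⟩ := Subgroup.mem_zpowers_iff.mp (hw ⟨x, hxZD⟩)
    obtain ⟨j, hj⟩ := Subgroup.mem_zpowers_iff.mp (hw ⟨t, htZD⟩)
    have hi' : (w : G) ^ i = x := by
      have := congrArg Subtype.val hi
      simpa using this
    have hj' : (w : G) ^ j = t := by
      have := congrArg Subtype.val hj
      simpa using this
    have hwp : (w : G) ^ p ∈ Z := (mem_sympD.mp (hZDmem w.1 w.2).1).2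
    by_cases hpi : (p : ℤ) ∣ i
    · obtain ⟨k, rfl⟩ := hpi
      apply hxZ
      rw [← hi', zpow_mul, zpow_natCast]
      exact Z.zpow_mem hwp k
    · obtain ⟨n, hn⟩ := hG (w : G)
      have hcop : IsCoprime i ((p : ℤ) ^ n) :=
        IsCoprime.pow_right (hpp.coprime_iff_not_dvd.mpr hpi).symm
      obtain ⟨a, b, hab⟩ := hcop
      have h0 : (w : G) ^ ((p : ℤ) ^ n) = 1 := by
        rw [← Nat.cast_pow, zpow_natCast]; exact hn
      have hw1 : (w : G) = x ^ a := by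
        have h1 : (w : G) = ((w : G) ^ i) ^ a * ((w : G) ^ ((p : ℤ) ^ n)) ^ b := by
          rw [← zpow_mul, ← zpow_mul, ← zpow_add, mul_comm i a, mul_comm ((p : ℤ) ^ n) b, hab,
            zpow_one]
        rw [h0, one_zpow, mul_one, hi'] at h1
        exact h1
      apply htE
      rw [← hj', hw1]
      exact E.zpow_mem (E.zpow_mem hxE a) j
  refine ⟨E, hZE, hED, ?_, claim2⟩
  intro d hd
  obtain ⟨e, he, i, hi⟩ := claim1 d hd
  exact ⟨e, he, t ^ i, ZD.zpow_mem htZD i, hi⟩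

/-- elements `g` with `[y, g] ∈ Z`, for central `Z`. -/
def sympK (Z : Subgroup G) (hZ : Z ≤ Subgroup.center G) (y : G) : Subgroup G where
  carrier := {g | y * g * y⁻¹ * g⁻¹ ∈ Z}
  one_mem' := by
    have : y * 1 * y⁻¹ * (1 : G)⁻¹ = 1 := by group
    show y * 1 * y⁻¹ * (1 : G)⁻¹ ∈ Z
    rw [this]; exact Z.one_mem
  mul_mem' := by
    intro a b ha hb
    have ha' : y * a * y⁻¹ * a⁻¹ ∈ Z := ha
    have hb' : y * b * y⁻¹ * b⁻¹ ∈ Z := hb
    show y * (a * b) * y⁻¹ * (a * b)⁻¹ ∈ Z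
    have hcc : a * (y * b * y⁻¹ * b⁻¹) = (y * b * y⁻¹ * b⁻¹) * a :=
      Subgroup.mem_center_iff.mp (hZ hb') a
    have h1 : y * (a * b) * y⁻¹ * (a * b)⁻¹
        = (y * a * y⁻¹ * a⁻¹) * (a * (y * b * y⁻¹ * b⁻¹)) * a⁻¹ := by group
    rw [h1, hcc]
    have h2 : (y * a * y⁻¹ * a⁻¹) * ((y * b * y⁻¹ * b⁻¹) * a) * a⁻¹
        = (y * a * y⁻¹ * a⁻¹) * (y * b * y⁻¹ * b⁻¹) := by group
    rw [h2]
    exact Z.mul_mem ha' hb'
  inv_mem' := by
    intro a ha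
    have ha' : y * a * y⁻¹ * a⁻¹ ∈ Z := ha
    show y * a⁻¹ * y⁻¹ * a⁻¹⁻¹ ∈ Z
    have hcc : a * (y * a * y⁻¹ * a⁻¹)⁻¹ = (y * a * y⁻¹ * a⁻¹)⁻¹ * a :=
      Subgroup.mem_center_iff.mp (hZ (Z.inv_mem ha')) a
    have h1 : y * a⁻¹ * y⁻¹ * a⁻¹⁻¹ = a⁻¹ * ((y * a * y⁻¹ * a⁻¹)⁻¹ * a) := by group
    rw [h1, ← hcc]
    have h2 : a⁻¹ * (a * (y * a * y⁻¹ * a⁻¹)⁻¹) = (y * a * y⁻¹ * a⁻¹)⁻¹ := by group
    rw [h2]
    exact Z.inv_mem ha'

theorem mem_sympK {Z : Subgroup G} {hZ : Z ≤ Subgroup.center G} {y g : G} :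
    g ∈ sympK Z hZ y ↔ y * g * y⁻¹ * g⁻¹ ∈ Z := Iff.rfl

/-- a normal subgroup not contained in the normal subgroup `Z` of a `p`-group contains an
element outside `Z` that is central modulo `Z`. -/
theorem symp_exists_central_mod {P : Type*} [Group P] [Finite P] {p : ℕ} [Fact p.Prime]
    (hP : IsPGroup p P) (Z N : Subgroup P) [Z.Normal] [hN : N.Normal] (hNZ : ¬ N ≤ Z) :
    ∃ y ∈ N, y ∉ Z ∧ ∀ r : P, y * r * y⁻¹ * r⁻¹ ∈ Z := by
  obtain ⟨n, hnN, hnZ⟩ := SetLike.not_le_iff_exists.mp hNZ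
  have hQ : IsPGroup p (P ⧸ Z) := hP.to_quotient Z
  haveI : (N.map (QuotientGroup.mk' Z)).Normal :=
    hN.map (QuotientGroup.mk' Z) (QuotientGroup.mk'_surjective Z)
  have hne : N.map (QuotientGroup.mk' Z) ≠ ⊥ := by
    intro h
    have h1 : (QuotientGroup.mk' Z) n ∈ N.map (QuotientGroup.mk' Z) :=
      Subgroup.mem_map_of_mem _ hnN
    rw [h, Subgroup.mem_bot] at h1
    exact hnZ ((QuotientGroup.eq_one_iff n).mp h1)
  obtain ⟨z, hzN, hzc, hz1⟩ := exists_mem_center_of_normal hQ (N.map (QuotientGroup.mk' Z)) hne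
  obtain ⟨y, hyN, rfl⟩ := Subgroup.mem_map.mp hzN
  refine ⟨y, hyN, ?_, ?_⟩
  · intro hyZ
    exact hz1 ((QuotientGroup.eq_one_iff y).mpr hyZ)
  · intro r
    have h1 := Subgroup.mem_center_iff.mp hzc ((QuotientGroup.mk' Z) r)
    have h2 : (QuotientGroup.mk' Z) (y * r * y⁻¹ * r⁻¹) = 1 := by
      rw [map_mul, map_mul, map_mul, map_inv, map_inv, ← h1]
      group
    exact (QuotientGroup.eq_one_iff _).mp h2

end symp3

end Cfsg.Agent.Lib.Helper21
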