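import Mathlib
import Cfsg.Agent.Lib.Helper21.Symp3
import Cfsg.Agent.Lib.Helper21.Rank3b

set_option autoImplicit false

namespace Cfsg.Agent.Lib.Helper21

section symp4

variable {G : Type*} [Group G]

/-- elements of order dividing `p` in an abelian subgroup. -/
def sympOm (p : ℕ) (A : Subgroup G) (hAc : ∀ a ∈ A, ∀ b ∈ A, a * b = b * a) : Subgroup G where
  carrier := {u | u ∈ A ∧ u ^ p = 1}
  one_mem' := ⟨A.one_mem, one_pow p⟩
  mul_mem' := by
    intro a b ha hb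
    exact ⟨A.mul_mem ha.1 hb.1, by
      rw [(show Commute a b from hAc a ha.1 b hb.1).mul_pow, ha.2, hb.2, one_mul]⟩
  inv_mem' := by
    intro a ha
    exact ⟨A.inv_mem ha.1, by rw [inv_pow, ha.2, inv_one]⟩

theorem mem_sympOm {p : ℕ} {A : Subgroup G} {hAc : ∀ a ∈ A, ∀ b ∈ A, a * b = b * a} {u : G} :
    u ∈ sympOm p A hAc ↔ u ∈ A ∧ u ^ p = 1 := Iff.rfl

/-- every abelian subgroup of `R = C_G(E)` normalized by `R` is cyclic. -/
theorem symp_R_cyclic [Finite G] {p : ℕ} [hp : Fact p.Prime] (hG : IsPGroup p G) (z0 : G)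
    (hz0 : orderOf z0 = p) (hZ : Subgroup.zpowers z0 ≤ Subgroup.center G) (E : Subgroup G)
    (hdec : ∀ g : G, ∃ e ∈ E, ∃ r ∈ Subgroup.centralizer (E : Set G), g = e * r)
    (hZDcyc : IsCyclic ↥(sympD p (Subgroup.zpowers z0) hZ ⊓
      Subgroup.centralizer (sympD p (Subgroup.zpowers z0) hZ : Set G)))
    (hcD : ∀ d ∈ sympD p (Subgroup.zpowers z0) hZ, d ∈ Subgroup.centralizer (E : Set G) →
      d ∈ Subgroup.centralizer (sympD p (Subgroup.zpowers z0) hZ : Set G))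
    (A : Subgroup G) (hAR : A ≤ Subgroup.centralizer (E : Set G))
    (hAn : Subgroup.centralizer (E : Set G) ≤ Subgroup.normalizer (A : Set G))
    (hAc : ∀ a ∈ A, ∀ b ∈ A, a * b = b * a) : IsCyclic A := by
  by_contra hnc
  have hAp : IsPGroup p A := hG.to_subgroup A
  have hnu : ¬ Cfsg.Agent.Lib.Lead.UniqP p ↥A := by
    intro hU
    apply hnc
    rcases Cfsg.Agent.Lib.Lead.uniqP_cyclic_or_quaternion p hAp hU with h | ⟨h2, -⟩
    · exact h
    · subst h2
      exact Cfsg.Agent.Lib.Helper11.isCyclic_of_uniqP_two_comm hAp hU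
        (fun x y => Subtype.ext (hAc x.1 x.2 y.1 y.2))
  unfold Cfsg.Agent.Lib.Lead.UniqP at hnu
  push Not at hnu
  obtain ⟨x, y, hxp, hyp, hx1, hyx⟩ := hnu
  have hap : (x : G) ^ p = 1 := by
    have := congrArg Subtype.val hxp
    simpa using this
  have hbp : (y : G) ^ p = 1 := by
    have := congrArg Subtype.val hyp
    simpa using this
  have ha1 : (x : G) ≠ 1 := fun h => hx1 (Subtype.ext h)
  have hbx : (y : G) ∉ Subgroup.zpowers (x : G) := by
    intro h
    obtain ⟨k, hk⟩ := Subgroup.mem_zpowers_iff.mp h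
    apply hyx
    rw [Subgroup.mem_zpowers_iff]
    exact ⟨k, Subtype.ext (by simpa using hk)⟩
  obtain ⟨Om, hOm⟩ : ∃ Om : Subgroup G, Om = sympOm p A hAc := ⟨_, rfl⟩
  have hOmmem : ∀ u : G, u ∈ Om ↔ u ∈ A ∧ u ^ p = 1 := by
    intro u; rw [hOm]; exact mem_sympOm
  have hOmZ : ¬ Om ≤ Subgroup.zpowers z0 := by
    intro hle
    have haZ : (x : G) ∈ Subgroup.zpowers z0 := hle ((hOmmem _).mpr ⟨x.2, hap⟩)
    have hox : orderOf (x : G) = p := orderOf_eq_prime hap ha1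
    have hz0x : z0 ∈ Subgroup.zpowers (x : G) :=
      symp_cyc_mem (Subgroup.zpowers z0) inferInstance haZ hox (Subgroup.mem_zpowers z0)
        (by rw [← hz0]; exact pow_orderOf_eq_one z0)
    exact hbx (((Subgroup.zpowers_le).mpr hz0x) (hle ((hOmmem _).mpr ⟨y.2, hbp⟩)))
  obtain ⟨R, hR⟩ : ∃ R : Subgroup G, R = Subgroup.centralizer (E : Set G) := ⟨_, rfl⟩
  rw [← hR] at hdec hAR hAn hcD
  have hRn : R ≤ Subgroup.normalizer (Om : Set G) := by
    intro r hr
    apply r3_mem_normalizer_of_conj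
    · intro u hu
      rw [hOmmem] at hu ⊢
      exact ⟨(r3_conj_mem_of_mem_normalizer (hAn hr) hu.1).1, by
        rw [conj_pow, hu.2, mul_one, mul_inv_cancel]⟩
    · intro u hu
      rw [hOmmem] at hu ⊢
      exact ⟨(r3_conj_mem_of_mem_normalizer (hAn hr) hu.1).2, by
        have h0 : r⁻¹ * u * r = r⁻¹ * u * (r⁻¹)⁻¹ := by rw [inv_inv]
        rw [h0, conj_pow, hu.2, mul_one, mul_inv_cancel]⟩
  haveI hZnorm : (Subgroup.zpowers z0).Normal := by
    constructor
    intro n hn g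
    have h := Subgroup.mem_center_iff.mp (hZ hn) g
    have : g * n * g⁻¹ = n := by rw [h]; group
    rw [this]; exact hn
  haveI hOn : (Om.subgroupOf R).Normal := Subgroup.normal_subgroupOf_of_le_normalizer hRn
  have hNZ : ¬ Om.subgroupOf R ≤ (Subgroup.zpowers z0).subgroupOf R := by
    intro hle
    apply hOmZ
    intro u hu
    have h1 : (⟨u, hAR ((hOmmem u).mp hu).1⟩ : R) ∈ Om.subgroupOf R := by
      rw [Subgroup.mem_subgroupOf]; exact hu
    have h2 := hle h1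
    rw [Subgroup.mem_subgroupOf] at h2
    exact h2
  obtain ⟨y', hy'N, hy'Z, hy'c⟩ := symp_exists_central_mod (hG.to_subgroup R)
    ((Subgroup.zpowers z0).subgroupOf R) (Om.subgroupOf R) hNZ
  have hyOm : (y' : G) ∈ Om := Subgroup.mem_subgroupOf.mp hy'N
  have hyA : (y' : G) ∈ A := ((hOmmem _).mp hyOm).1
  have hyp' : (y' : G) ^ p = 1 := ((hOmmem _).mp hyOm).2
  have hyZ : (y' : G) ∉ Subgroup.zpowers z0 := fun h => hy'Z (Subgroup.mem_subgroupOf.mpr h)
  have hyc : ∀ r ∈ R, (y' : G) * r * (y' : G)⁻¹ * r⁻¹ ∈ Subgroup.zpowers z0 := by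
    intro r hr
    have := hy'c ⟨r, hr⟩
    rw [Subgroup.mem_subgroupOf] at this
    simpa using this
  have hyK : ∀ g : G, g ∈ sympK (Subgroup.zpowers z0) hZ (y' : G) := by
    intro g
    obtain ⟨e, he, r, hr, rfl⟩ := hdec g
    refine Subgroup.mul_mem _ ?_ (mem_sympK.mpr (hyc r hr))
    rw [mem_sympK]
    have hyR : (y' : G) ∈ Subgroup.centralizer (E : Set G) := by rw [← hR]; exact y'.2
    have hcomm := Subgroup.mem_centralizer_iff.mp hyR e he
    have : (y' : G) * e * (y' : G)⁻¹ * e⁻¹ = 1 := by rw [← hcomm]; group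
    rw [this]; exact Subgroup.one_mem _
  have hyD : (y' : G) ∈ sympD p (Subgroup.zpowers z0) hZ :=
    mem_sympD.mpr ⟨fun g => mem_sympK.mp (hyK g), by rw [hyp']; exact Subgroup.one_mem _⟩
  have hyZD : (y' : G) ∈ sympD p (Subgroup.zpowers z0) hZ ⊓
      Subgroup.centralizer (sympD p (Subgroup.zpowers z0) hZ : Set G) :=
    Subgroup.mem_inf.mpr ⟨hyD, hcD _ hyD y'.2⟩
  have hz0ZD : z0 ∈ sympD p (Subgroup.zpowers z0) hZ ⊓
      Subgroup.centralizer (sympD p (Subgroup.zpowers z0) hZ : Set G) := by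
    refine Subgroup.mem_inf.mpr ⟨le_sympD _ _ _ (Subgroup.mem_zpowers z0), ?_⟩
    rw [Subgroup.mem_centralizer_iff]
    intro h _
    exact Subgroup.mem_center_iff.mp (hZ (Subgroup.mem_zpowers z0)) h
  exact hyZ (symp_cyc_mem _ hZDcyc hz0ZD hz0 hyZD hyp')

end symp4

end Cfsg.Agent.Lib.Helper21
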