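import Mathlib
import Cfsg.Agent.Lib.Helper21.Symp4

set_option autoImplicit false

namespace Cfsg.Agent.Lib.Helper21

section symp5

variable {G : Type*} [Group G]

/-- the structural package for groups of symplectic type. -/
theorem symp_package [Finite G] [Nontrivial G] {p : ℕ} [hp : Fact p.Prime] (hG : IsPGroup p G)
    (hsymp : ∀ A : Subgroup G, A.Characteristic → IsMulCommutative A → IsCyclic A) :
    ∃ (z0 : G) (hZ : Subgroup.zpowers z0 ≤ Subgroup.center G) (E : Subgroup G),
      orderOf z0 = p ∧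
      (∀ x ∈ Subgroup.center G, x ^ p = 1 → x ∈ Subgroup.zpowers z0) ∧
      (E = ⊥ ∨ Cfsg.IsExtraspecial p ↥E) ∧
      E ≤ sympD p (Subgroup.zpowers z0) hZ ∧
      (∀ x ∈ E, (∀ y ∈ E, x * y = y * x) → x ∈ Subgroup.zpowers z0) ∧
      (∀ g : G, ∃ e ∈ E, ∃ r ∈ Subgroup.centralizer (E : Set G), g = e * r) ∧
      (∀ A : Subgroup G, A ≤ Subgroup.centralizer (E : Set G) →
        Subgroup.centralizer (E : Set G) ≤ Subgroup.normalizer (A : Set G) →
        (∀ a ∈ A, ∀ b ∈ A, a * b = b * a) → IsCyclic A) := by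
  have hcc : IsCyclic (Subgroup.center G) :=
    hsymp (Subgroup.center G) inferInstance
      ⟨⟨fun a b => Subtype.ext (Subgroup.mem_center_iff.mp b.2 a.1)⟩⟩
  haveI : Nontrivial (Subgroup.center G) := hG.center_nontrivial
  obtain ⟨c, hc1⟩ := exists_ne (1 : Subgroup.center G)
  obtain ⟨k, hk⟩ := (IsPGroup.iff_orderOf.mp hG) (c : G)
  have hk0 : k ≠ 0 := by
    rintro rfl
    rw [pow_zero, orderOf_eq_one_iff] at hk
    exact hc1 (Subtype.ext hk)
  obtain ⟨z0, hz0def⟩ : ∃ z0 : G, z0 = (c : G) ^ (p ^ (k - 1)) := ⟨_, rfl⟩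
  have hz0 : orderOf z0 = p := by
    rw [hz0def, orderOf_pow_of_dvd (pow_ne_zero _ hp.out.ne_zero)
      (by rw [hk]; exact pow_dvd_pow p (Nat.sub_le k 1)), hk,
      Nat.pow_div (Nat.sub_le k 1) hp.out.pos]
    have : k - (k - 1) = 1 := by omega
    rw [this, pow_one]
  have hz0c : z0 ∈ Subgroup.center G := by
    rw [hz0def]; exact (Subgroup.center G).pow_mem c.2 _
  have hZ : Subgroup.zpowers z0 ≤ Subgroup.center G := (Subgroup.zpowers_le).mpr hz0c
  have hZcard : Nat.card (Subgroup.zpowers z0) = p := by rw [Nat.card_zpowers, hz0]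
  have hZmem : ∀ x ∈ Subgroup.center G, x ^ p = 1 → x ∈ Subgroup.zpowers z0 :=
    fun x hx hxp => symp_cyc_mem (Subgroup.center G) hcc hz0c hz0 hx hxp
  have hZchar : (Subgroup.zpowers z0).Characteristic := by
    rw [Subgroup.characteristic_iff_le_comap]
    intro φ x hx
    obtain ⟨i, rfl⟩ := Subgroup.mem_zpowers_iff.mp hx
    show φ (z0 ^ i) ∈ Subgroup.zpowers z0
    rw [map_zpow]
    apply Subgroup.zpow_mem
    apply hZmem
    · exact (Subgroup.characteristic_iff_le_comap.mp inferInstance φ) hz0c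
    · rw [← map_pow, ← hz0, pow_orderOf_eq_one, map_one]
  haveI hDchar : (sympD p (Subgroup.zpowers z0) hZ).Characteristic :=
    sympD_char p _ hZ hZchar
  have hZDcyc : IsCyclic ↥(sympD p (Subgroup.zpowers z0) hZ ⊓
      Subgroup.centralizer (sympD p (Subgroup.zpowers z0) hZ : Set G)) :=
    hsymp _ inferInstance ⟨⟨fun a b => Subtype.ext
      (Subgroup.mem_centralizer_iff.mp (Subgroup.mem_inf.mp b.2).2 a.1
        (Subgroup.mem_inf.mp a.2).1)⟩⟩
  have hZDc : ∀ t ∈ sympD p (Subgroup.zpowers z0) hZ ⊓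
      Subgroup.centralizer (sympD p (Subgroup.zpowers z0) hZ : Set G),
      ∀ d ∈ sympD p (Subgroup.zpowers z0) hZ, d * t = t * d :=
    fun t ht d hd => Subgroup.mem_centralizer_iff.mp (Subgroup.mem_inf.mp ht).2 d hd
  by_cases hDab : ∀ x ∈ sympD p (Subgroup.zpowers z0) hZ,
      ∀ y ∈ sympD p (Subgroup.zpowers z0) hZ, x * y = y * x
  · have hdec : ∀ g : G, ∃ e ∈ (⊥ : Subgroup G),
        ∃ r ∈ Subgroup.centralizer (((⊥ : Subgroup G)) : Set G), g = e * r := by
      intro g
      refine ⟨1, Subgroup.one_mem _, g, ?_, (one_mul g).symm⟩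
      rw [Subgroup.mem_centralizer_iff]
      intro h hh
      have : h = 1 := Subgroup.mem_bot.mp hh
      rw [this, one_mul, mul_one]
    refine ⟨z0, hZ, ⊥, hz0, hZmem, Or.inl rfl, bot_le, ?_, hdec, ?_⟩
    · intro x hx _
      rw [Subgroup.mem_bot] at hx
      rw [hx]; exact Subgroup.one_mem _
    · intro A hAR hAn hAc
      exact symp_R_cyclic hG z0 hz0 hZ ⊥ hdec hZDcyc
        (fun d hd _ => Subgroup.mem_centralizer_iff.mpr (fun h hh => hDab h hh d hd))
        A hAR hAn hAc
  · obtain ⟨E, hZE, hED, hdecD, hEZD⟩ := symp_exists_E hG (Subgroup.zpowers z0) hZ hZDcyc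
    have hcenE : ∀ x ∈ E, (∀ y ∈ E, x * y = y * x) → x ∈ Subgroup.zpowers z0 := by
      intro x hx hxc
      apply hEZD x hx
      refine Subgroup.mem_inf.mpr ⟨hED hx, ?_⟩
      rw [Subgroup.mem_centralizer_iff]
      intro d hd
      obtain ⟨e, he, t, ht, rfl⟩ := hdecD d hd
      have h1 : x * t = t * x := hZDc t ht x (hED hx)
      have h2 : x * e = e * x := hxc e he
      calc e * t * x = e * (t * x) := by group
        _ = e * (x * t) := by rw [h1]
        _ = (e * x) * t := by group
        _ = (x * e) * t := by rw [h2]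
        _ = x * (e * t) := by group
    have hnab : ∃ x ∈ E, ∃ y ∈ E, x * y ≠ y * x := by
      by_contra hcon
      push Not at hcon
      apply hDab
      have hEZ : ∀ e ∈ E, e ∈ Subgroup.zpowers z0 :=
        fun e he => hcenE e he (fun y hy => hcon e he y hy)
      intro d1 hd1 d2 hd2
      obtain ⟨e1, he1, t1, ht1, rfl⟩ := hdecD d1 hd1
      obtain ⟨e2, he2, t2, ht2, rfl⟩ := hdecD d2 hd2
      have c1 : ∀ g : G, g * e1 = e1 * g :=
        fun g => Subgroup.mem_center_iff.mp (hZ (hEZ e1 he1)) g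
      have c2 : ∀ g : G, g * e2 = e2 * g :=
        fun g => Subgroup.mem_center_iff.mp (hZ (hEZ e2 he2)) g
      have c3 : t1 * t2 = t2 * t1 := hZDc t2 ht2 t1 (Subgroup.mem_inf.mp ht1).1
      calc e1 * t1 * (e2 * t2) = e1 * (t1 * e2) * t2 := by group
        _ = e1 * (e2 * t1) * t2 := by rw [c2 t1]
        _ = e1 * e2 * (t1 * t2) := by group
        _ = e1 * e2 * (t2 * t1) := by rw [c3]
        _ = (e1 * e2) * t2 * t1 := by group
        _ = (e2 * e1) * t2 * t1 := by rw [c1 e2]
        _ = e2 * (e1 * t2) * t1 := by group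
        _ = e2 * (t2 * e1) * t1 := by rw [c1 t2]
        _ = e2 * t2 * (e1 * t1) := by group
    have hES : Cfsg.IsExtraspecial p ↥E :=
      symp_es_of hG E (Subgroup.zpowers z0) hZE hZcard
        (fun z hz e _ => (Subgroup.mem_center_iff.mp (hZ hz) e).symm) hcenE
        (fun x hx y _ => (mem_sympD.mp (hED hx)).1 y) (fun x hx => (mem_sympD.mp (hED hx)).2)
        hnab
    have hsup := symp_sup_top hG (Subgroup.zpowers z0) hZ hZcard E hZE hED
      (fun x hx hxc => hcenE x hx
        (fun y hy => (Subgroup.mem_centralizer_iff.mp hxc y hy).symm))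
    haveI : E.Normal := sympD_normal hZE hED
    have hdec : ∀ g : G, ∃ e ∈ E, ∃ r ∈ Subgroup.centralizer (E : Set G), g = e * r := by
      intro g
      have hg : g ∈ ((E ⊔ Subgroup.centralizer (E : Set G) : Subgroup G) : Set G) := by
        rw [hsup]; exact Set.mem_univ g
      rw [Subgroup.normal_mul] at hg
      obtain ⟨e, he, r, hr, h⟩ := Set.mem_mul.mp hg
      exact ⟨e, he, r, hr, h.symm⟩
    have hcD : ∀ d ∈ sympD p (Subgroup.zpowers z0) hZ, d ∈ Subgroup.centralizer (E : Set G) →
        d ∈ Subgroup.centralizer (sympD p (Subgroup.zpowers z0) hZ : Set G) := by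
      intro d hd hdE
      rw [Subgroup.mem_centralizer_iff]
      intro h hh
      obtain ⟨e, he, t, ht, rfl⟩ := hdecD h hh
      have h1 : d * t = t * d := hZDc t ht d hd
      have h2 : e * d = d * e := Subgroup.mem_centralizer_iff.mp hdE e he
      calc e * t * d = e * (t * d) := by group
        _ = e * (d * t) := by rw [h1]
        _ = (e * d) * t := by group
        _ = (d * e) * t := by rw [h2]
        _ = d * (e * t) := by group
    exact ⟨z0, hZ, E, hz0, hZmem, Or.inr hES, hED, hcenE, hdec,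
      fun A hAR hAn hAc => symp_R_cyclic hG z0 hz0 hZ E hdec hZDcyc hcD A hAR hAn hAc⟩

theorem symp_q8_1 : ∀ x : QuaternionGroup 2, x ^ 2 = 1 ∨ x ^ 2 = QuaternionGroup.a 2 := by decide

theorem symp_q8_2 : ∀ x y : QuaternionGroup 2,
    x * y * x⁻¹ * y⁻¹ = 1 ∨ x * y * x⁻¹ * y⁻¹ = QuaternionGroup.a 2 := by decide

theorem symp_q8_3 : ∀ x : QuaternionGroup 2, (∀ y : QuaternionGroup 2, x * y = y * x) →
    x = 1 ∨ x = QuaternionGroup.a 2 := by decide

theorem symp_q8_4 : ∃ x y : QuaternionGroup 2, x * y ≠ y * x := by decide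

theorem symp_q8_5 : ∀ y : QuaternionGroup 2,
    QuaternionGroup.a 2 * y = y * QuaternionGroup.a 2 := by decide

theorem symp_q8_6 : (QuaternionGroup.a 2 : QuaternionGroup 2) ^ 2 = 1 := by decide

/-- if `C_G(E)` is a quaternion group of order 8 then `G` is extraspecial. -/
theorem symp_q8_case [Finite G] (hG : IsPGroup 2 G) (z0 : G) (hz0 : orderOf z0 = 2)
    (hZ : Subgroup.zpowers z0 ≤ Subgroup.center G)
    (hZmem : ∀ x ∈ Subgroup.center G, x ^ 2 = 1 → x ∈ Subgroup.zpowers z0) (E : Subgroup G)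
    (hED : E ≤ sympD 2 (Subgroup.zpowers z0) hZ)
    (hcenE : ∀ x ∈ E, (∀ y ∈ E, x * y = y * x) → x ∈ Subgroup.zpowers z0)
    (hdec : ∀ g : G, ∃ e ∈ E, ∃ r ∈ Subgroup.centralizer (E : Set G), g = e * r)
    (f : ↥(Subgroup.centralizer (E : Set G)) ≃* QuaternionGroup 2) :
    Cfsg.IsExtraspecial 2 ↥(⊤ : Subgroup G) := by
  haveI : Fact (Nat.Prime 2) := ⟨Nat.prime_two⟩
  obtain ⟨R, hR⟩ : ∃ R : Subgroup G, R = Subgroup.centralizer (E : Set G) := ⟨_, rfl⟩
  rw [← hR] at hdec f
  have hER : ∀ e ∈ E, ∀ r ∈ R, e * r = r * e := by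
    intro e he r hr
    rw [hR] at hr
    exact Subgroup.mem_centralizer_iff.mp hr e he
  have hZcard : Nat.card (Subgroup.zpowers z0) = 2 := by rw [Nat.card_zpowers, hz0]
  obtain ⟨c, hc⟩ : ∃ c : R, c = f.symm (QuaternionGroup.a 2) := ⟨_, rfl⟩
  have hfc : f c = QuaternionGroup.a 2 := by rw [hc]; simp
  have hcR : ∀ r : R, c * r = r * c := by
    intro r
    apply f.injective
    rw [map_mul, map_mul, hfc]
    exact symp_q8_5 (f r)
  have hc2 : (c : G) ^ 2 = 1 := by
    have h1 : c ^ 2 = 1 := by
      apply f.injective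
      rw [map_pow, hfc, map_one]
      exact symp_q8_6
    have := congrArg Subtype.val h1
    simpa using this
  have hcc : (c : G) ∈ Subgroup.center G := by
    rw [Subgroup.mem_center_iff]
    intro g
    obtain ⟨e, he, r, hr, rfl⟩ := hdec g
    have h1 : e * (c : G) = (c : G) * e := hER e he c.1 c.2
    have h2 : (c : G) * r = r * (c : G) := by
      have := congrArg Subtype.val (hcR ⟨r, hr⟩)
      simpa using this
    calc e * r * (c : G) = e * (r * (c : G)) := by group
      _ = e * ((c : G) * r) := by rw [h2]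
      _ = (e * (c : G)) * r := by group
      _ = ((c : G) * e) * r := by rw [h1]
      _ = (c : G) * (e * r) := by group
  have hcZ : (c : G) ∈ Subgroup.zpowers z0 := hZmem _ hcc hc2
  have hRD : ∀ r ∈ R, r ∈ sympD 2 (Subgroup.zpowers z0) hZ := by
    intro r hr
    rw [mem_sympD]
    constructor
    · intro g
      have hgK : g ∈ sympK (Subgroup.zpowers z0) hZ r := by
        obtain ⟨e, he, r', hr', rfl⟩ := hdec g
        refine Subgroup.mul_mem _ ?_ ?_
        · rw [mem_sympK]
          have h1 := hER e he r hr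
          have : r * e * r⁻¹ * e⁻¹ = 1 := by rw [← h1]; group
          rw [this]; exact Subgroup.one_mem _
        · rw [mem_sympK]
          rcases symp_q8_2 (f ⟨r, hr⟩) (f ⟨r', hr'⟩) with h | h
          · have h1 : (⟨r, hr⟩ : R) * ⟨r', hr'⟩ * (⟨r, hr⟩ : R)⁻¹ * (⟨r', hr'⟩ : R)⁻¹ = 1 := by
              apply f.injective
              rw [map_mul, map_mul, map_mul, map_inv, map_inv, map_one]
              exact h
            have h2 := congrArg Subtype.val h1
            have h3 : r * r' * r⁻¹ * r'⁻¹ = 1 := by simpa using h2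
            rw [h3]; exact Subgroup.one_mem _
          · have h1 : (⟨r, hr⟩ : R) * ⟨r', hr'⟩ * (⟨r, hr⟩ : R)⁻¹ * (⟨r', hr'⟩ : R)⁻¹ = c := by
              apply f.injective
              rw [map_mul, map_mul, map_mul, map_inv, map_inv, hfc]
              exact h
            have h2 := congrArg Subtype.val h1
            have h3 : r * r' * r⁻¹ * r'⁻¹ = (c : G) := by simpa using h2
            rw [h3]; exact hcZ
      exact mem_sympK.mp hgK
    · rcases symp_q8_1 (f ⟨r, hr⟩) with h | h
      · have h1 : (⟨r, hr⟩ : R) ^ 2 = 1 := by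
          apply f.injective
          rw [map_pow, map_one]
          exact h
        have h2 := congrArg Subtype.val h1
        have h3 : r ^ 2 = 1 := by simpa using h2
        rw [h3]; exact Subgroup.one_mem _
      · have h1 : (⟨r, hr⟩ : R) ^ 2 = c := by
          apply f.injective
          rw [map_pow, hfc]
          exact h
        have h2 := congrArg Subtype.val h1
        have h3 : r ^ 2 = (c : G) := by simpa using h2
        rw [h3]; exact hcZ
  have hDtop : ∀ g : G, g ∈ sympD 2 (Subgroup.zpowers z0) hZ := by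
    intro g
    obtain ⟨e, he, r, hr, rfl⟩ := hdec g
    exact Subgroup.mul_mem _ (hED he) (hRD r hr)
  have hcenG : ∀ x ∈ (⊤ : Subgroup G), (∀ y ∈ (⊤ : Subgroup G), x * y = y * x) →
      x ∈ Subgroup.zpowers z0 := by
    intro x _ hxc
    obtain ⟨e, he, r, hr, rfl⟩ := hdec x
    have heZ : e ∈ Subgroup.zpowers z0 := by
      apply hcenE e he
      intro y hy
      have h1 := hxc y (Subgroup.mem_top y)
      have h2 : y * r = r * y := hER y hy r hr
      have h3 : e * r = r * e := hER e he r hr
      have h4 : (e * y) * r = (y * e) * r := by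
        calc (e * y) * r = e * (y * r) := by group
          _ = e * (r * y) := by rw [h2]
          _ = (e * r) * y := by group
          _ = y * (e * r) := h1
          _ = (y * e) * r := by group
      exact mul_right_cancel h4
    have hec : ∀ g : G, g * e = e * g := fun g => Subgroup.mem_center_iff.mp (hZ heZ) g
    have hrc : ∀ r' : R, (⟨r, hr⟩ : R) * r' = r' * ⟨r, hr⟩ := by
      intro r'
      apply Subtype.ext
      have h1 := hxc r'.1 (Subgroup.mem_top _)
      have h2 : e * (r * r'.1) = e * (r'.1 * r) := by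
        calc e * (r * r'.1) = e * r * r'.1 := by group
          _ = r'.1 * (e * r) := h1
          _ = (r'.1 * e) * r := by group
          _ = (e * r'.1) * r := by rw [hec r'.1]
          _ = e * (r'.1 * r) := by group
      have h3 := mul_left_cancel h2
      simpa using h3
    have hrZ : r ∈ Subgroup.zpowers z0 := by
      rcases symp_q8_3 (f ⟨r, hr⟩) (by
        intro y
        have := hrc (f.symm y)
        have h2 := congrArg f this
        simpa using h2) with h | h
      · have h1 : (⟨r, hr⟩ : R) = 1 := by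
          apply f.injective
          rw [map_one]; exact h
        have h2 : r = 1 := by
          have := congrArg Subtype.val h1
          simpa using this
        rw [h2]; exact Subgroup.one_mem _
      · have h1 : (⟨r, hr⟩ : R) = c := by
          apply f.injective
          rw [hfc]; exact h
        have h2 : r = (c : G) := by
          have := congrArg Subtype.val h1
          simpa using this
        rw [h2]; exact hcZ
    exact Subgroup.mul_mem _ heZ hrZ
  have hnabG : ∃ x ∈ (⊤ : Subgroup G), ∃ y ∈ (⊤ : Subgroup G), x * y ≠ y * x := by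
    obtain ⟨x0, y0, hxy⟩ := symp_q8_4
    refine ⟨(f.symm x0 : G), Subgroup.mem_top _, (f.symm y0 : G), Subgroup.mem_top _, ?_⟩
    intro h
    apply hxy
    have h1 : f.symm x0 * f.symm y0 = f.symm y0 * f.symm x0 := Subtype.ext (by simpa using h)
    have h2 := congrArg f h1
    simpa using h2
  exact symp_es_of hG ⊤ (Subgroup.zpowers z0) le_top hZcard
    (fun z hz e _ => (Subgroup.mem_center_iff.mp (hZ hz) e).symm) hcenG
    (fun x _ y _ => (mem_sympD.mp (hDtop x)).1 y) (fun x _ => (mem_sympD.mp (hDtop x)).2) hnabG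

end symp5

end Cfsg.Agent.Lib.Helper21
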