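import Mathlib
import Cfsg.Agent.S3733
import Cfsg.Agent.Lib.Helper21.Basic
import Cfsg.Agent.Lib.Helper21.SylowRel
import Cfsg.Agent.Lib.Helper1.Coprime

/-! Three primes that are pairwise non-adjacent in the prime graph: the local configuration
`P ⋊ (Q ⋊ ⟨z⟩)` always produces an element of mixed order. -/

set_option autoImplicit false

namespace Cfsg.Agent.Lib.Helper21

variable {G : Type*} [Group G]

/-- A nontrivial element of prime power order has a power of prime order. -/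
theorem exists_pow_orderOf_eq_prime {p : ℕ} [Fact p.Prime] {x : G}
    (hx : ∃ j : ℕ, orderOf x = p ^ j) (hx1 : x ≠ 1) : ∃ k : ℕ, orderOf (x ^ k) = p := by
  obtain ⟨j, hj⟩ := hx
  have hp := (Fact.out : p.Prime)
  have hj0 : j ≠ 0 := by
    rintro rfl
    rw [pow_zero, orderOf_eq_one_iff] at hj
    exact hx1 hj
  refine ⟨p ^ (j - 1), ?_⟩
  rw [orderOf_pow' x (pow_ne_zero _ hp.ne_zero), hj]
  have h1 : p ^ j = p ^ (j - 1) * p := by
    rw [← pow_succ]; congr 1; omega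
  rw [Nat.gcd_eq_right (pow_dvd_pow p (Nat.sub_le j 1)), h1,
    Nat.mul_div_cancel_left _ (pow_pos hp.pos _)]

theorem orderOf_eq_prime_pow_of_mem {p : ℕ} [Fact p.Prime] {P : Subgroup G} (hP : IsPGroup p P)
    {x : G} (hx : x ∈ P) : ∃ j : ℕ, orderOf x = p ^ j := by
  obtain ⟨k, hk⟩ := hP ⟨x, hx⟩
  have h1 : x ^ p ^ k = 1 := by simpa using congrArg Subtype.val hk
  obtain ⟨m, -, hm⟩ := (Nat.dvd_prime_pow Fact.out).mp (orderOf_dvd_of_pow_eq_one h1)
  exact ⟨m, hm⟩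

theorem eq_zpowers_of_prime_card [Finite G] {r : ℕ} (hr : r.Prime) {B : Subgroup G}
    (hB : Nat.card B = r) {a : G} (ha : a ∈ B) (ha1 : a ≠ 1) : Subgroup.zpowers a = B := by
  apply Subgroup.eq_of_le_of_card_ge ((Subgroup.zpowers_le).mpr ha)
  rw [Nat.card_zpowers, hB]
  have h1 : orderOf a ∣ r := hB ▸ Subgroup.orderOf_dvd_natCard B ha
  rcases (Nat.dvd_prime hr).mp h1 with h | h
  · exact absurd (orderOf_eq_one_iff.mp h) ha1
  · exact h.ge

/-- The configuration lemma: a nontrivial `p`-group `P` normalized by a nontrivial `q`-group `Q`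
and by an element `z` of order `r` normalizing `Q` forces an element of order `pq`, `pr`
or `qr`. -/
theorem three_primes_config [Finite G] (p q r : ℕ) [hp : Fact p.Prime] [hq : Fact q.Prime]
    [hr : Fact r.Prime] (hpq : p ≠ q) (hpr : p ≠ r) (hqr : q ≠ r) (P Q : Subgroup G)
    (hP : IsPGroup p P) (hPne : P ≠ ⊥) (hQ : IsPGroup q Q) (hQne : Q ≠ ⊥)
    (hQP : Q ≤ Subgroup.normalizer (P : Set G)) (z : G) (hz : orderOf z = r)
    (hzP : z ∈ Subgroup.normalizer (P : Set G)) (hzQ : z ∈ Subgroup.normalizer (Q : Set G)) :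
    (∃ x : G, orderOf x = p * q) ∨ (∃ x : G, orderOf x = p * r) ∨
      (∃ x : G, orderOf x = q * r) := by
  classical
  by_contra hcon
  push Not at hcon
  obtain ⟨hnpq, hnpr, hnqr⟩ := hcon
  have hpP := hp.out
  have hqP := hq.out
  have hrP := hr.out
  have hcop_pq : p.Coprime q := (Nat.coprime_primes hpP hqP).mpr hpq
  have hcop_pr : p.Coprime r := (Nat.coprime_primes hpP hrP).mpr hpr
  have hcop_qr : q.Coprime r := (Nat.coprime_primes hqP hrP).mpr hqr
  have nocomm : ∀ (a b : ℕ), a.Coprime b → (∀ x : G, orderOf x ≠ a * b) →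
      ∀ x y : G, orderOf x = a → orderOf y = b → ¬ Commute x y := by
    intro a b hab hn x y hx hy hc
    exact hn (x * y) (by
      rw [hc.orderOf_mul_eq_mul_orderOf_of_coprime (by rw [hx, hy]; exact hab), hx, hy])
  have nocomm' : ∀ (a b : ℕ) [Fact a.Prime] [Fact b.Prime], a.Coprime b →
      (∀ x : G, orderOf x ≠ a * b) → ∀ x y : G, (∃ j : ℕ, orderOf x = a ^ j) → x ≠ 1 →
      (∃ j : ℕ, orderOf y = b ^ j) → y ≠ 1 → ¬ Commute x y := by
    intro a b _ _ hab hn x y hx hx1 hy hy1 hc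
    obtain ⟨k, hk⟩ := exists_pow_orderOf_eq_prime hx hx1
    obtain ⟨l, hl⟩ := exists_pow_orderOf_eq_prime hy hy1
    exact nocomm a b hab hn (x ^ k) (y ^ l) hk hl (hc.pow_pow k l)
  have hz1 : z ≠ 1 := by
    rintro rfl
    rw [orderOf_one] at hz
    exact hrP.ne_one hz.symm
  obtain ⟨Z, hZ⟩ : ∃ Z : Subgroup G, Z = Subgroup.zpowers z := ⟨_, rfl⟩
  have hzZ : z ∈ Z := hZ ▸ Subgroup.mem_zpowers z
  have hZcard : Nat.card Z = r := by rw [hZ, Nat.card_zpowers, hz]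
  have hzpow : ∀ w ∈ Z, ∃ j : ℕ, orderOf w = r ^ j := by
    intro w hw
    have h1 : orderOf w ∣ r := hZcard ▸ Subgroup.orderOf_dvd_natCard Z hw
    rcases (Nat.dvd_prime hrP).mp h1 with h | h
    · exact ⟨0, by rw [h, pow_zero]⟩
    · exact ⟨1, by rw [h, pow_one]⟩
  have hQz : ∀ y ∈ Q, y ∈ Z → y = 1 := by
    intro y hyQ hyz
    obtain ⟨j, hj⟩ := orderOf_eq_prime_pow_of_mem hQ hyQ
    obtain ⟨i, hi⟩ := hzpow y hyz
    by_contra hy1
    have hj0 : j ≠ 0 := by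
      rintro rfl
      rw [pow_zero, orderOf_eq_one_iff] at hj
      exact hy1 hj
    have h1 : q ∣ r ^ i := by rw [← hi, hj]; exact dvd_pow_self q hj0
    exact hqr ((Nat.prime_dvd_prime_iff_eq hqP hrP).mp (hqP.dvd_of_dvd_pow h1))
  have hfix : ∀ w ∈ Z, w ≠ 1 → ∀ y ∈ Q, w * y = y * w → y = 1 := by
    intro w hw hw1 y hy hc
    by_contra hy1
    exact nocomm' q r hcop_qr hnqr y w (orderOf_eq_prime_pow_of_mem hQ hy) hy1 (hzpow w hw) hw1
      hc.symm
  have hZQ : Z ≤ Subgroup.normalizer (Q : Set G) := by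
    rw [hZ, Subgroup.zpowers_le]; exact hzQ
  have hZP : Z ≤ Subgroup.normalizer (P : Set G) := by
    rw [hZ, Subgroup.zpowers_le]; exact hzP
  -- every element `w * y` with `w ≠ 1` is a `Q`-conjugate of `w`
  have hsurj : ∀ w ∈ Z, w ≠ 1 → ∀ y ∈ Q, ∃ u ∈ Q, w * y = u * w * u⁻¹ := by
    intro w hw hw1 y hy
    have hwN := hZQ hw
    have hθ : ∀ u : Q, w⁻¹ * (u : G) * w * (u : G)⁻¹ ∈ Q := by
      intro u
      have h1 : w⁻¹ * (u : G) * w ∈ Q := by
        have := (Subgroup.mem_normalizer_iff.mp (Subgroup.inv_mem _ hwN) (u : G)).mp u.2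
        simpa using this
      exact Q.mul_mem h1 (Q.inv_mem u.2)
    have hinj : Function.Injective (fun u : Q => (⟨_, hθ u⟩ : Q)) := by
      intro u u' h
      have h1 : w⁻¹ * (u : G) * w * (u : G)⁻¹ = w⁻¹ * (u' : G) * w * (u' : G)⁻¹ :=
        congrArg Subtype.val h
      have h3 : (u : G) * w * (u : G)⁻¹ = (u' : G) * w * (u' : G)⁻¹ := by
        have e1 : (u : G) * w * (u : G)⁻¹ = w * (w⁻¹ * u * w * (u : G)⁻¹) := by group
        have e2 : (u' : G) * w * (u' : G)⁻¹ = w * (w⁻¹ * u' * w * (u' : G)⁻¹) := by group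
        rw [e1, e2, h1]
      have h2 : w * ((u' : G)⁻¹ * u) = ((u' : G)⁻¹ * u) * w := by
        have e3 : ((u' : G)⁻¹ * u) * w = (u' : G)⁻¹ * ((u : G) * w * (u : G)⁻¹) * u := by group
        rw [e3, h3]; group
      have h5 := hfix w hw hw1 _ (Q.mul_mem (Q.inv_mem u'.2) u.2) h2
      rw [inv_mul_eq_one] at h5
      exact Subtype.ext h5.symm
    obtain ⟨u, hu⟩ := Finite.surjective_of_injective hinj ⟨y, hy⟩
    refine ⟨u, u.2, ?_⟩
    have h1 : w⁻¹ * (u : G) * w * (u : G)⁻¹ = y := congrArg Subtype.val hu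
    rw [← h1]; group
  haveI := Fintype.ofFinite Q
  obtain ⟨𝒜, h𝒜⟩ : ∃ 𝒜 : Finset (Subgroup G), 𝒜 = insert Q
      (Finset.univ.image (fun u : Q => Z.map (MulAut.conj (u : G)).toMonoidHom)) := ⟨_, rfl⟩
  have hmem𝒜 : ∀ B : Subgroup G, B ∈ 𝒜 ↔
      B = Q ∨ ∃ u ∈ Q, B = Z.map (MulAut.conj u).toMonoidHom := by
    intro B
    rw [h𝒜, Finset.mem_insert, Finset.mem_image]
    constructor
    · rintro (h | ⟨u, -, rfl⟩)
      · exact Or.inl h
      · exact Or.inr ⟨u, u.2, rfl⟩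
    · rintro (h | ⟨u, hu, rfl⟩)
      · exact Or.inl h
      · exact Or.inr ⟨⟨u, hu⟩, Finset.mem_univ _, rfl⟩
  have hconjcard : ∀ u : G, Nat.card (Z.map (MulAut.conj u).toMonoidHom) = r := by
    intro u; rw [card_map_conj, hZcard]
  have hQconj : ∀ u ∈ Q, ∀ y ∈ Q, y ∈ Z.map (MulAut.conj u).toMonoidHom → y = 1 := by
    intro u hu y hy hyB
    have h1 : u⁻¹ * y * u ∈ Z := (mem_map_conj Z u y).mp hyB
    have h2 : u⁻¹ * y * u ∈ Q := Q.mul_mem (Q.mul_mem (Q.inv_mem hu) hy) hu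
    have h3 := hQz _ h2 h1
    have h4 : y = u * (u⁻¹ * y * u) * u⁻¹ := by group
    rw [h4, h3]; group
  obtain ⟨y₀, hy₀, hy₀1⟩ : ∃ y₀ ∈ Q, y₀ ≠ 1 := by
    by_contra hcon
    push Not at hcon
    exact hQne ((Subgroup.eq_bot_iff_forall Q).mpr hcon)
  -- the partition
  have hpart : ∀ a ∈ Z ⊔ Q, a ≠ 1 → ∃! B, B ∈ 𝒜 ∧ a ∈ B := by
    intro a ha ha1
    obtain ⟨w, hw, y, hy, rfl⟩ := (mem_sup_of_le_normalizer hZQ).mp ha
    by_cases hw1 : w = 1
    · subst hw1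
      rw [one_mul] at ha1 ⊢
      refine ⟨Q, ⟨(hmem𝒜 Q).mpr (Or.inl rfl), hy⟩, ?_⟩
      rintro B ⟨hB, hyB⟩
      rcases (hmem𝒜 B).mp hB with rfl | ⟨u, hu, rfl⟩
      · rfl
      · exact absurd (hQconj u hu y hy hyB) ha1
    · obtain ⟨u, hu, huw⟩ := hsurj w hw hw1 y hy
      have hmemu : w * y ∈ Z.map (MulAut.conj u).toMonoidHom := by
        rw [huw]; exact conj_mem_map_conj Z u hw
      refine ⟨Z.map (MulAut.conj u).toMonoidHom, ⟨(hmem𝒜 _).mpr (Or.inr ⟨u, hu, rfl⟩), hmemu⟩, ?_⟩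
      rintro B ⟨hB, haB⟩
      rcases (hmem𝒜 B).mp hB with rfl | ⟨u', hu', rfl⟩
      · exfalso
        have hwQ : w ∈ B := by
          have := B.mul_mem haB (B.inv_mem hy)
          simpa using this
        exact hw1 (hQz w hwQ hw)
      · rw [← eq_zpowers_of_prime_card hrP (hconjcard u') haB ha1,
          ← eq_zpowers_of_prime_card hrP (hconjcard u) hmemu ha1]
  have hprop : ∀ B ∈ 𝒜, B < Z ⊔ Q := by
    intro B hB
    rcases (hmem𝒜 B).mp hB with rfl | ⟨u, hu, rfl⟩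
    · refine lt_of_le_of_ne le_sup_right ?_
      intro h
      have hzB : z ∈ B := by rw [h]; exact Subgroup.mem_sup_left hzZ
      exact hz1 (hQz z hzB hzZ)
    · refine lt_of_le_of_ne ?_ ?_
      · intro x hx
        rw [mem_map_conj] at hx
        have h4 : x = u * (u⁻¹ * x * u) * u⁻¹ := by group
        rw [h4]
        exact Subgroup.mul_mem _ (Subgroup.mul_mem _ (Subgroup.mem_sup_right hu)
          (Subgroup.mem_sup_left hx)) (Subgroup.inv_mem _ (Subgroup.mem_sup_right hu))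
      · intro h
        have : y₀ ∈ Z.map (MulAut.conj u).toMonoidHom := by
          rw [h]; exact Subgroup.mem_sup_right hy₀
        exact hy₀1 (hQconj u hu y₀ hy₀ this)
  have hcard𝒜 : 𝒜.card = Nat.card Q + 1 := by
    have hinj : Function.Injective (fun u : Q => Z.map (MulAut.conj (u : G)).toMonoidHom) := by
      intro u u' h
      have h1 : Z.map (MulAut.conj ((u' : G)⁻¹ * u)).toMonoidHom = Z := by
        rw [map_conj_mul]
        have h' : Z.map (MulAut.conj (u : G)).toMonoidHom =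
            Z.map (MulAut.conj (u' : G)).toMonoidHom := h
        rw [h', map_conj_map_conj_inv]
      have h2 : ((u' : G)⁻¹ * u) * z * ((u' : G)⁻¹ * u)⁻¹ ∈ Z := by
        have := conj_mem_map_conj Z ((u' : G)⁻¹ * u) hzZ
        rwa [h1] at this
      have htQ : (u' : G)⁻¹ * u ∈ Q := Q.mul_mem (Q.inv_mem u'.2) u.2
      have h3 : ((u' : G)⁻¹ * u) * z * ((u' : G)⁻¹ * u)⁻¹ * z⁻¹ ∈ Z :=
        Z.mul_mem h2 (Z.inv_mem hzZ)
      have h4 : ((u' : G)⁻¹ * u) * z * ((u' : G)⁻¹ * u)⁻¹ * z⁻¹ ∈ Q := by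
        have h5 : z * ((u' : G)⁻¹ * u)⁻¹ * z⁻¹ ∈ Q :=
          (Subgroup.mem_normalizer_iff.mp hzQ _).mp (Q.inv_mem htQ)
        have h6 : ((u' : G)⁻¹ * u) * z * ((u' : G)⁻¹ * u)⁻¹ * z⁻¹ =
            ((u' : G)⁻¹ * u) * (z * ((u' : G)⁻¹ * u)⁻¹ * z⁻¹) := by group
        rw [h6]; exact Q.mul_mem htQ h5
      have h7 := hQz _ h4 h3
      have h8 : z * ((u' : G)⁻¹ * u) = ((u' : G)⁻¹ * u) * z := by
        have e : z * ((u' : G)⁻¹ * u) =
            (((u' : G)⁻¹ * u) * z * ((u' : G)⁻¹ * u)⁻¹ * z⁻¹)⁻¹ * (((u' : G)⁻¹ * u) * z) := by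
          group
        rw [e, h7]; group
      have h9 := hfix z hzZ hz1 _ htQ h8
      rw [inv_mul_eq_one] at h9
      exact Subtype.ext h9.symm
    have hnot : Q ∉ Finset.univ.image (fun u : Q => Z.map (MulAut.conj (u : G)).toMonoidHom) := by
      intro h
      obtain ⟨u, -, hu⟩ := Finset.mem_image.mp h
      have : y₀ ∈ Z.map (MulAut.conj (u : G)).toMonoidHom := by rw [hu]; exact hy₀
      exact hy₀1 (hQconj u u.2 y₀ hy₀ this)
    rw [h𝒜, Finset.card_insert_of_notMem hnot, Finset.card_image_of_injective _ hinj,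
      Finset.card_univ, Nat.card_eq_fintype_card]
  -- the abelian group acted on
  haveI : Nontrivial P := (Subgroup.nontrivial_iff_ne_bot P).mpr hPne
  haveI : Nontrivial (Subgroup.center P) := hP.center_nontrivial
  obtain ⟨V, hV⟩ : ∃ V : Subgroup G, V = (Subgroup.center P).map P.subtype := ⟨_, rfl⟩
  have hVP : V ≤ P := by rw [hV]; exact Subgroup.map_subtype_le _
  haveI hVab : IsMulCommutative V := by rw [hV]; infer_instance
  have hVne : V ≠ ⊥ := by
    rw [hV, Ne, Subgroup.map_eq_bot_iff_of_injective _ P.subtype_injective]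
    exact (Subgroup.nontrivial_iff_ne_bot _).mp inferInstance
  have hFV : Z ⊔ Q ≤ Subgroup.normalizer (V : Set G) := by
    rw [hV]
    exact (sup_le hZP hQP).trans
      (Helper1.normalizer_le_normalizer_map_of_characteristic (Subgroup.center P))
  have hne : 𝒜.Nonempty := ⟨Q, (hmem𝒜 Q).mpr (Or.inl rfl)⟩
  have hk : (𝒜.card - 1).Coprime (Nat.card V) := by
    rw [hcard𝒜, Nat.add_sub_cancel]
    obtain ⟨a, ha⟩ := IsPGroup.iff_card.mp hQ
    obtain ⟨b, hb⟩ := IsPGroup.iff_card.mp (hP.to_le hVP)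
    rw [ha, hb]
    exact Nat.Coprime.pow a b hcop_pq.symm
  obtain ⟨B, hB, hBV⟩ := Cfsg.Agent.S3733.result (Z ⊔ Q) V hVab hVne hFV 𝒜 hne hprop hpart hk
  obtain ⟨v, hv, hv1⟩ : ∃ v ∈ V ⊓ Subgroup.centralizer (B : Set G), v ≠ 1 := by
    by_contra hcon
    push Not at hcon
    exact hBV ((Subgroup.eq_bot_iff_forall _).mpr hcon)
  have hvP : ∃ j : ℕ, orderOf v = p ^ j := orderOf_eq_prime_pow_of_mem hP (hVP hv.1)
  have hvB : ∀ b ∈ B, Commute v b := by
    intro b hb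
    exact (Subgroup.mem_centralizer_iff.mp hv.2 b hb).symm
  rcases (hmem𝒜 B).mp hB with rfl | ⟨u, hu, rfl⟩
  · exact nocomm' p q hcop_pq hnpq v y₀ hvP hv1 (orderOf_eq_prime_pow_of_mem hQ hy₀) hy₀1
      (hvB y₀ hy₀)
  · have h1 : u * z * u⁻¹ ∈ Z.map (MulAut.conj u).toMonoidHom := conj_mem_map_conj Z u hzZ
    have h2 : u * z * u⁻¹ ≠ 1 := by
      intro h
      apply hz1
      have e : z = u⁻¹ * (u * z * u⁻¹) * u := by group
      rw [e, h]; group
    have h3 : ∃ j : ℕ, orderOf (u * z * u⁻¹) = r ^ j := by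
      have h4 : orderOf (u * z * u⁻¹) ∣ r :=
        hconjcard u ▸ Subgroup.orderOf_dvd_natCard _ h1
      rcases (Nat.dvd_prime hrP).mp h4 with h | h
      · exact ⟨0, by rw [h, pow_zero]⟩
      · exact ⟨1, by rw [h, pow_one]⟩
    exact nocomm' p r hcop_pr hnpr v _ hvP hv1 h3 h2 (hvB _ h1)

end Cfsg.Agent.Lib.Helper21
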